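import Cfsg.Agent.H12.InvC

/-! Certificates for the classes of involutions of `G₂(q)` and `F₄(q)`, `q` even. -/

namespace H12.Inv
open Cfsg Cfsg.Lie H11 H11.StSys H12.Lie
set_option maxRecDepth 100000

/-- certificates for the subsets of nodes -/
def invG2C : List (List ℕ × List (Bool × List ℕ × List ℕ)) := [
  ([9, 6], [(true, [1, 0, 1, 0, 1, 0], [9, 6])]),
  ([11], [(true, [1, 0, 1, 0, 1], [11])]),
  ([9], [(true, [0, 1, 0, 1, 0], [9])]),
  ([], [])]
/-- programs for the classes of involutions of the Weyl group -/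
def invG2Z : List (List ℕ × List (Bool × List ℕ × List ℕ)) := [
  ([], []),
  ([11], []),
  ([9], []),
  ([9, 6], [(true, [0], [8, 10]), (false, [6], [8, 10, 11]), (false, [7], [8]), (true, [0], [9])])]
/-- representatives and ranks -/
def invG2T : List (List ℕ × List ℕ) := [([11], [23, 0, 13, 17, 19, 21]),
  ([9], [19, 7, 9, 2, 21, 23])]
theorem invG2_0 : chkA fastG2 [9, 6] 0 = true := by decide +kernel
theorem invG2_c0 : allLt 4 (fun i => chkI fastG2 id id (invG2Z.map Prod.fst) [9, 6] (i + 0)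
    (invG2C.getD (i + 0) ([], []))) = true := by decide +kernel
theorem invG2_c : ∀ i < 4, chkI fastG2 id id (invG2Z.map Prod.fst) [9, 6] i (invG2C.getD i ([], [])) = true := by
  intro i hi
  exact allLt_spec invG2_c0 hi
theorem invG2_z : (invG2Z.all fun p => chkP fastG2 id id ([] :: invG2T.map Prod.fst) p.2 p.1) = true := by
  decide +kernel
theorem invG2_r : (invG2T.all fun p => rkc fastG2 p.2 (cols fastG2 p.1)) = true := by decide +kernel
theorem invG2_s : (invG2T.all fun p => eqv fastG2 (p.1 ++ p.1) [] && Nat.blt 0 p.2.length) = true := by decide +kernel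

/-- certificates for the subsets of nodes -/
def invF4C : List (List ℕ × List (Bool × List ℕ × List ℕ)) := [
  ([27, 28, 29, 44], [(true, [1, 2, 3, 1, 2, 0, 1, 2, 3, 0, 1, 2, 0, 1], [44, 29, 28, 27])]),
  ([37, 38, 39], [(true, [1, 2, 0, 1, 2, 3, 2, 1, 2, 0, 1, 2, 3, 1, 2, 0, 1, 2, 0, 1], [39, 38, 37])]),
  ([28, 29, 44], [(true, [1, 2, 0, 1, 2, 3, 2, 1, 2, 0, 1, 2, 3, 1, 2, 0, 1, 2], [39, 38, 37])]),
  ([40, 36, 35], []),
  ([29, 44, 30], [(true, [3, 2, 1, 2, 0, 1, 2, 3, 2, 1, 2, 0, 1, 2, 3, 1, 2, 1], [44, 29, 30])]),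
  ([37, 47], [(true, [1, 2, 0, 1, 2, 3, 2, 1, 2, 0, 1, 2, 3, 1, 2, 0, 1, 2, 0, 1], [39, 45])]),
  ([29, 44], [(true, [3, 2, 1, 2, 0, 1, 2, 3, 2, 1, 2, 0, 1, 2, 3], [44, 29])]),
  ([47], [(true, [3, 2, 1, 2, 0, 1, 2, 3, 2, 1, 2, 0, 1, 2, 3], [47])]),
  ([27, 44, 32], [(true, [1, 2, 3, 2, 1, 2, 0, 1, 2, 3, 2, 0, 1, 2, 0, 1], [44, 29, 30])]),
  ([39, 45], [(true, [2, 1, 2, 0, 1, 2, 3, 2, 1, 2, 0, 1, 2, 3, 2, 1, 2, 0, 1, 2, 0, 1], [39, 45])]),
  ([44, 32], [(true, [2, 1, 2, 0, 1, 2, 3, 2, 1, 2, 0, 1, 2, 3, 2, 1, 2, 0, 1, 2], [39, 45])]),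
  ([40, 43], []),
  ([44, 28, 31], []),
  ([38, 46], []),
  ([44], [(true, [0, 1, 2, 3, 1, 2, 0, 1, 2, 3, 0, 1, 2, 1, 0], [44])]),
  ([], [])]
/-- programs for the classes of involutions of the Weyl group -/
def invF4Z : List (List ℕ × List (Bool × List ℕ × List ℕ)) := [
  ([], []),
  ([47], []),
  ([44], []),
  ([47, 44], []),
  ([39, 45], []),
  ([44, 29, 28, 27], [(false, [24], [27, 28, 32, 44]), (true, [2, 3], [28, 29, 31, 44]), (false, [24], [28, 31, 32, 44]), (false, [25], [28, 31, 44]), (false, [35], [28, 31, 40, 44, 46]), (false, [38], [28, 31, 44, 46]), (false, [42], [28, 31]), (true, [2, 1, 2, 3, 1, 2, 1, 0], [39, 45])]),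
  ([39, 38, 37], [(false, [25], [37, 38, 47]), (false, [24], [37, 45, 47]), (true, [2, 3], [39, 46, 45]), (false, [], [39, 45, 46]), (false, [25], [39, 45])]),
  ([44, 29, 30], [(false, [36], [29, 30, 40, 44, 47]), (false, [37], [29, 30, 44, 47]), (false, [41], [29, 30]), (true, [1, 2, 3, 1, 2, 1, 0], [39, 45])]),
  ([44, 29], [(false, [41], [29, 47]), (true, [0, 1, 2, 1, 0], [44, 47]), (false, [], [47, 44])])]
/-- representatives and ranks -/
def invF4T : List (List ℕ × List ℕ) := [([47], [95, 0, 49, 53, 59, 63, 65, 73, 77, 79, 81, 85, 87, 89, 91, 93]),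
  ([44], [89, 37, 39, 41, 2, 55, 57, 59, 67, 69, 71, 73, 75, 77, 79, 81]),
  ([47, 44], [89, 95, 0, 39, 41, 2, 55, 57, 59, 67, 69, 71, 73, 75, 77, 79, 81, 85, 87, 91, 93]),
  ([39, 45], [79, 91, 19, 21, 6, 27, 29, 61, 63, 41, 0, 75, 77, 57, 59, 81, 67, 83, 85, 71, 73, 89, 93, 95])]
theorem invF4_0 : chkA fastF4 [44, 29, 28, 27] 0 = true := by decide +kernel
theorem invF4_c0 : allLt 16 (fun i => chkI fastF4 id id (invF4Z.map Prod.fst) [44, 29, 28, 27] (i + 0)
    (invF4C.getD (i + 0) ([], []))) = true := by decide +kernel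
theorem invF4_c : ∀ i < 16, chkI fastF4 id id (invF4Z.map Prod.fst) [44, 29, 28, 27] i (invF4C.getD i ([], [])) = true := by
  intro i hi
  exact allLt_spec invF4_c0 hi
theorem invF4_z : (invF4Z.all fun p => chkP fastF4 id id ([] :: invF4T.map Prod.fst) p.2 p.1) = true := by
  decide +kernel
theorem invF4_r : (invF4T.all fun p => rkc fastF4 p.2 (cols fastF4 p.1)) = true := by decide +kernel
theorem invF4_s : (invF4T.all fun p => eqv fastF4 (p.1 ++ p.1) [] && Nat.blt 0 p.2.length) = true := by decide +kernel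

end H12.Inv
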