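import Cfsg.Agent.H12.Atm
import Cfsg.Agent.H17.ST4
import Cfsg.Agent.H03.ThNPC2
import Cfsg.Agent.S0118
import Cfsg.Agent.H01.SL2Act

/-!
# `H12.Atm.main` : a prime dividing a `p`-automizer divides the automizer of a normal subgroup of a Sylow subgroup
-/

namespace H12.Atm
open Subgroup Cfsg H24

universe u
variable {G : Type u} [Group G] {p q : ℕ} [hp : Fact p.Prime] [hq : Fact q.Prime]

open H17 H17.SF in
theorem ws_ctl [Finite G] (h : KK G) (S : Sylow 2 G) : H03.Ctl ⊤ (normalizer (WS (S : Subgroup G) : Set G)) S := by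
  have ind : ∀ {G : Type u} [Group G] [Finite G] (S : Subgroup G), (WS ⊤).map S.subtype = WS S := fun S => by
    rw [← WS_map S.subtype_injective, ← MonoidHom.range_eq_map, range_subtype]
  let F := H03.AmbF.ofChar (p := 2) (fun Q _ => WS ⊤) ⟨fun Q _ _ h _ => BG.ne_bot_mono (BG.omega_center_ne_bot Nat.prime_two (h.to_subgroup ⊤) top_ne_bot)
    (omega_le_WS ⊤), fun Q R _ _ _ _ φ => by
      have := Finite.of_equiv _ φ.toEquiv
      rw [← WS_map φ.injective, map_top_of_surjective _ φ.surjective]⟩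
  rw [← ind]
  refine F.ctl (fun H _ => KK H) True (fun H _ K h => h.sub K) (fun H _ N _ h => h.surj _ (QuotientGroup.mk'_surjective N)) ?_ G h S S
    (H03.sc_self _) fun _ => rfl
  intro H _ _ hX hc P D _ hf
  obtain rfl := hf trivial
  exact H03.Ctl.of_le ((WS_normal hX hc (BG.isSylowIn_top Nat.prime_two P)).trans_eq (by rw [← ind]; rfl))

theorem ctl {D : Type u} [Group D] [Finite D] [Finite G] (ι : D →* G) (hι : Function.Injective ι) (h6 : ¬ 6 ∣ Nat.card D) (hk : p = 2 → H17.SF.KK D) (T : Sylow p D)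
    (hT : T.1 ≠ ⊥) : ∃ W : Subgroup G, W ≠ ⊥ ∧ W ≤ T.1.map ι ∧ normalizer (T.1.map ι : Set G) ≤ normalizer (W : Set G) ∧
      ∀ A ≤ T.1, ∀ g ∈ normalizer (A : Set D), ∃ n, ι n ∈ normalizer (W : Set G) ∧ ∀ a ∈ A, n * a * n⁻¹ = g * a * g⁻¹ := by
  obtain ⟨z, z1, z2, z3⟩ : ∃ z ∈ T.1 ⊓ centralizer (T.1 : Set D), z ≠ 1 ∧ z ^ p = 1 := by
    have := (nontrivial_iff_ne_bot _).2 hT
    have := T.2.center_nontrivial
    obtain ⟨z, hz⟩ := exists_prime_orderOf_dvd_card' p ((T.2.to_subgroup (center T)).card_eq_or_dvd.resolve_left Finite.one_lt_card.ne')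
    refine ⟨z.1.1, ⟨z.1.2, fun a ha => congrArg Subtype.val (mem_center_iff.1 z.2 ⟨a, ha⟩)⟩, fun e => ?_, ?_⟩
    · exact hp.out.one_lt.ne (by rw [← hz, show z = 1 from Subtype.ext (Subtype.ext e), orderOf_one])
    · exact congrArg (·.1.1) (hz ▸ pow_orderOf_eq_one z)
  have nb : ∀ W : Subgroup D, omegaOne p (T.1 ⊓ centralizer (T.1 : Set D)) ≤ W → W.map ι ≠ ⊥ := fun W h e =>
    z2 (mem_bot.1 ((map_eq_bot_iff_of_injective _ hι).1 e ▸ h (subset_closure ⟨z1, z3⟩)))
  by_cases h2 : p = 2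
  · subst h2
    refine ⟨(H17.SF.WS T.1).map ι, nb _ (H17.SF.omega_le_WS _), map_mono (H17.SF.WS_le _), H17.SF.WS_map hι _ ▸ H17.SF.norm_WS _,
      fun A hA g hg => ?_⟩
    obtain ⟨n, a, b⟩ := ws_ctl (hk rfl) T A g trivial hA (by
      rintro _ ⟨a, ha, rfl⟩; exact hA ((mem_normalizer_iff.1 hg a).1 ha))
    exact ⟨n, le_normalizer_map ι ⟨n, a, rfl⟩, b⟩
  · refine ⟨(centerThompsonOf p T.1).map ι, nb _ ((H17.omegaOne_center_le p _).trans (H17.omegaOne_le _ _)),
      map_mono (H17.centerThompsonOf_le _ _), H17.centerThompsonOf_map ι hι.injOn ▸ H17.normalizer_le_normalizer_centerThompsonOf _ _,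
      fun A hA g hg => ?_⟩
    have s6 : 6 ∣ Nat.card (Matrix.SpecialLinearGroup (Fin 2) (ZMod p)) := by
      rw [H01.card_sl2]
      obtain ⟨k, rfl⟩ := hp.out.odd_of_ne_two h2
      rw [show (2 * k + 1) ^ 2 - 1 = 4 * (k * (k + 1)) from Nat.sub_eq_of_eq_add (by ring)]
      have : k % 6 = 0 ∨ k % 6 = 1 ∨ k % 6 = 2 ∨ k % 6 = 3 ∨ k % 6 = 4 ∨ k % 6 = 5 := by omega
      rcases this with h | h | h | h | h | h <;> simp [Nat.dvd_iff_mod_eq_zero, Nat.mul_mod, Nat.add_mod, h]
    obtain ⟨n, a, b⟩ := Cfsg.Agent.S0118.result h2 (fun h => h6 (s6.trans (H17.sec_iff_involves.2 h).card_dvd)) T A hA g⁻¹ (by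
      rintro _ ⟨a, ha, rfl⟩; simpa using show g * a * g⁻¹ ∈ T from hA ((mem_normalizer_iff.1 hg a).1 ha))
    exact ⟨n⁻¹, le_normalizer_map ι ⟨_, inv_mem a, rfl⟩, by simpa using b⟩

theorem main (hpq : p ≠ q) (h23 : ¬ ((p = 2 ∧ q = 3) ∨ (p = 3 ∧ q = 2))) (G : Type u) [Group G] [Finite G] (hs : HS p G)
    {H₀ : Subgroup G} (hH₀ : IsPGroup p H₀) (hQ₀ : Q q H₀) :
    ∃ (K : Subgroup G) (P : Sylow p G), K ≤ P ∧ P.1 ≤ normalizer (K : Set G) ∧ Q q K := by
  induction hn : Nat.card G using Nat.strong_induction_on generalizing G with | _ n ih => ?_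
  subst hn
  by_cases hW : ∃ W : Subgroup G, W.Normal ∧ W ≠ ⊥ ∧ IsPGroup p W
  · obtain ⟨W, _, w1, w2⟩ := hW
    by_cases qW : Q q W
    · obtain ⟨P⟩ : Nonempty (Sylow p G) := inferInstance
      exact ⟨W, P, w2.le_sylow_of_normal P, le_normalizer_of_normal, qW⟩
    obtain ⟨x, x1, ⟨k, x2⟩, x3⟩ := hQ₀.elt
    have xW : x ∈ centralizer (W : Set G) := by_contra fun h => qW (Q_of (le_normalizer_of_normal (mem_top x)) x2 h)
    have s := QuotientGroup.mk'_surjective W
    obtain ⟨K, P, a, b, y, y1, y2⟩ := ih _ (by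
        rw [← W.index_eq_card, ← W.card_mul_index]
        exact lt_mul_left (Nat.pos_of_ne_zero index_ne_zero_of_finite) ((one_lt_card_iff_ne_bot W).2 w1)) (G ⧸ W) (hs.quot W w2)
      (hH₀.map (QuotientGroup.mk' W)) (Q_of (x := x) (k := k) (le_normalizer_map _ ⟨x, x1, rfl⟩) (congrArg (QuotientGroup.mk' W) x2)
        fun h => x3 fun a ha => by
          have m : (x * a)⁻¹ * (a * x) ∈ W := QuotientGroup.eq.1 (h _ ⟨a, ha, rfl⟩).symm
          obtain ⟨w, hw⟩ : ∃ w : W, a * x = x * w.1⁻¹⁻¹ * a := ⟨⟨_, ‹W.Normal›.conj_mem _ m a⟩, by simp [mul_assoc]⟩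
          rw [inv_inv] at hw
          have c : Commute x w := (xW w w.2).symm
          have := congrArg (· ^ q ^ k) (mul_inv_eq_iff_eq_mul.2 hw)
          simp only [conj_pow, c.mul_pow, x2, mul_one, mul_inv_cancel, one_mul] at this
          obtain ⟨j, hj⟩ := w2 w
          have : w = 1 := orderOf_eq_one_iff.1 (Nat.eq_one_of_dvd_coprimes (((Nat.coprime_primes hp.out hq.out).2 hpq).pow j k)
            (orderOf_dvd_of_pow_eq_one hj) (orderOf_dvd_of_pow_eq_one (Subtype.ext this.symm)))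
          simpa [this] using hw) rfl
    obtain ⟨y, rfl⟩ := s y
    have e := comap_normalizer_eq_of_surjective K s
    refine ⟨K.comap (QuotientGroup.mk' W), P.comapOfKerIsPGroup _ (by rwa [QuotientGroup.ker_mk']) (fun x _ => s x), comap_mono a,
      (comap_mono b).trans e.le, y, e.le y1, fun m hm => y2 m ?_⟩
    rintro ⟨a⟩ ha; exact (congrArg (QuotientGroup.mk' W) (hm a ha)).trans (by simp; rfl) |> (by simp; rfl : _ = _).trans
  obtain ⟨⟨H, T⟩, ⟨hH, hQ, hT, HT, TN⟩, mx⟩ := Set.exists_max_image {x : Subgroup G × Subgroup G | IsPGroup p x.1 ∧ Q q x.1 ∧ IsPGroup p x.2 ∧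
    x.1 ≤ x.2 ∧ x.2 ≤ normalizer (x.1 : Set G)} (fun x => Nat.card x.2 * (Nat.card G + 1) + Nat.card x.1) (Set.toFinite _)
    ⟨(H₀, H₀), hH₀, hQ₀, hH₀, le_rfl, le_normalizer⟩
  dsimp only at *
  have mx : ∀ H' T' : Subgroup G, Q q H' → IsPGroup p T' → H' ≤ T' → T' ≤ normalizer (H' : Set G) → Nat.card T' ≤ Nat.card T ∧
      (Nat.card T' = Nat.card T → Nat.card H' ≤ Nat.card H) := fun H' T' a b c d => by
    have h1 := mx (H', T') ⟨b.to_le c, a, b, c, d⟩
    have := card_le_card_group H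
    dsimp only at h1
    exact ⟨by_contra fun h => by nlinarith, fun h => by simpa [h] using h1⟩
  let N := normalizer (H : Set G)
  have nH : (H.subgroupOf N).Normal := normal_in_normalizer
  have pH : IsPGroup p (H.subgroupOf N) := hH.comap_subtype
  have sT : ∀ S : Sylow p N, Nat.card S = Nat.card T := fun S => by
    obtain ⟨S', h⟩ := (hT.comap_subtype (K := N)).exists_le_sylow
    refine le_antisymm (card_subtype N S ▸ (mx H _ hQ (S.2.map _) ((map_subgroupOf_eq_of_le le_normalizer).ge.trans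
      (map_mono (pH.le_sylow_of_normal S))) (map_subtype_le _)).1) ?_
    rw [Nat.card_congr (S.equiv S').toEquiv, ← Nat.card_congr (subgroupOfEquivOfLe TN).toEquiv]; exact card_le_of_le h
  let E := (centralizer (H : Set G)).subgroupOf N
  have ps : IsPSolvable p N := by
    let R := H.subgroupOf N ⊔ E
    obtain ⟨S⟩ : Nonempty (Sylow p R) := inferInstance
    obtain ⟨S', hS⟩ := S.exists_comap_subtype_eq
    have HS : (H.subgroupOf N).subgroupOf R ≤ S := (pH.comap_subtype (K := R)).le_sylow_of_normal S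
    have h1 : H.subgroupOf N ≤ S.map R.subtype := (map_subgroupOf_eq_of_le le_sup_left).ge.trans (map_mono HS)
    have h2 : H ≤ (S.map R.subtype).map N.subtype := (map_subgroupOf_eq_of_le le_normalizer).ge.trans (map_mono h1)
    have h3 : S.map R.subtype = S'.1 ⊓ R := by rw [← hS]; exact subgroupOf_map_subtype _ _
    have e : H = (S.map R.subtype).map N.subtype := eq_of_le_of_card_ge h2 ((mx _ (S'.map N.subtype) ?_ (S'.2.map _) (map_mono (h3.le.trans inf_le_left))
      ((map_mono (h3 ▸ (le_inf le_normalizer le_normalizer_of_normal).trans inf_normalizer_le_normalizer_inf)).trans (le_normalizer_map _))).2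
      (by rw [card_subtype, sT]))
    · have e' : (H.subgroupOf N).subgroupOf R = S := by
        rw [e, subgroupOf, subgroupOf, comap_map_eq_self_of_injective N.subtype_injective, comap_map_eq_self_of_injective R.subtype_injective]
      refine PS.ext R (PS.ext ((H.subgroupOf N).subgroupOf R) (PS.of_pgroup pH.comap_subtype) (PS.of_coprime ?_))
        (PS.of_surjective (hs H hH) (QuotientGroup.map E R (.id _) le_sup_right)
          (QuotientGroup.map_surjective_of_surjective _ _ _ QuotientGroup.mk_surjective _))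
      rw [← index_eq_card, e']; exact (hp.out.coprime_iff_not_dvd.2 S.not_dvd_index).symm
    · obtain ⟨x, x1, x2⟩ := hQ
      have : (⟨x, x1⟩ : N) ∈ normalizer (S.map R.subtype : Set N) ⊔ E := by
        have := S.normalizer_sup_eq_top
        rw [← sup_assoc, sup_eq_left.2 (h1.trans le_normalizer)] at this
        exact this.ge trivial
      obtain ⟨y, y1, c, c1, e⟩ := mem_sup_of_normal_right.1 this
      refine ⟨y, le_normalizer_map _ ⟨y, y1, rfl⟩, fun m hm => x2 m (pow_cent y.2 (fun a ha => ?_) m (centralizer_le h2 hm))⟩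
      rw [show x = y * c from (congrArg Subtype.val e).symm, mul_assoc y.1, ← show a * c = c * a from c1 a ha]; simp [mul_assoc]
  obtain ⟨D, d1, d2⟩ := hall_pq (q := q) N ps
  have sy : ∀ {r : ℕ} [Fact r.Prime], r = p ∨ r = q → ∀ S : Sylow r D, ∃ S' : Sylow r N, S'.1 = S.1.map D.subtype := fun {r} _ h S =>
    ⟨(S.2.map D.subtype).toSylow (by
      rw [index_map_subtype]
      exact fun d => ((Fact.out : r.Prime).dvd_mul.1 d).elim S.not_dvd_index fun d => d2 r Fact.out d h), rfl⟩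
  obtain ⟨S⟩ : Nonempty (Sylow p D) := inferInstance
  obtain ⟨S', hS⟩ := sy (.inl rfl) S
  have HS : H.subgroupOf N ≤ S.1.map D.subtype := hS ▸ pH.le_sylow_of_normal S'
  let ι := N.subtype.comp D.subtype
  have inj : Function.Injective ι := N.subtype_injective.comp D.subtype_injective
  have HS' : H ≤ S.1.map ι := by rw [← map_map]; exact (map_subgroupOf_eq_of_le le_normalizer).ge.trans (map_mono HS)
  have cS : Nat.card (S.1.map ι) = Nat.card T := by rw [← sT S', hS, card_map_of_injective inj, card_subtype]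
  obtain ⟨x, ⟨k, x2⟩, x3⟩ : ∃ x : D, (∃ k, x ^ q ^ k = 1) ∧ ι x ∉ centralizer (H : Set G) := by
    obtain ⟨x, x1, ⟨k, x2⟩, x3⟩ := hQ.elt
    obtain ⟨U⟩ : Nonempty (Sylow q D) := inferInstance
    obtain ⟨U', hU⟩ := sy (.inr rfl) U
    obtain ⟨V, hV⟩ := (IsPGroup.of_card_dvd_pow (p := q) (G := zpowers (⟨x, x1⟩ : N)) (n := k) (by
      rw [Nat.card_zpowers]; exact orderOf_dvd_of_pow_eq_one (Subtype.ext x2))).exists_le_sylow
    obtain ⟨g, rfl⟩ := MulAction.exists_smul_eq N U' V
    obtain ⟨_, hy, e⟩ := hV (mem_zpowers _)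
    obtain ⟨y, hy', rfl⟩ := hU.le hy
    exact ⟨y, (U.2 ⟨y, hy'⟩).imp fun k h => congrArg Subtype.val h, fun h => x3 (show (⟨x, x1⟩ : N) ∈ E from
      e ▸ (inferInstance : E.Normal).conj_mem _ h g)⟩
  have H1 : H ≠ ⊥ := by rintro rfl; simp at x3
  obtain ⟨W, w1, w2, w3, w4⟩ := ctl ι inj (fun h => h23 (by
    have h2 := d1 2 Nat.prime_two (.trans (by decide) h)
    have h3 := d1 3 Nat.prime_three (.trans (by decide) h)
    simp only [Set.mem_insert_iff, Set.mem_singleton_iff] at h2 h3; omega)) (fun e => ⟨fun h => h23 (.inl ⟨e, by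
      have := d1 3 Nat.prime_three (.trans (by simp [Fintype.card_perm]; decide) h.card_dvd)
      simp only [Set.mem_insert_iff, Set.mem_singleton_iff] at this; omega⟩), fun X _ _ h k => absurd (by
      have d := d1.of_dvd k.card_dvd
      obtain ⟨K, f, hf⟩ := k
      have := Finite.of_surjective f hf
      have ab : ∀ {r : ℕ} [Fact r.Prime], IsPGroup r X → IsMulCommutative X := fun h => by
        have := h.center_nontrivial
        exact center_eq_top_iff.1 ((IsSimpleGroup.eq_bot_or_eq_top_of_normal _ inferInstance).resolve_left ((nontrivial_iff_ne_bot _).1 this))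
      rcases PS.minimal_normal (N := ⊤) (PS.top_iff.2 (PS.of_surjective (PS.subgroup (PS.subgroup ps D) K) f hf))
        (fun M h _ => h.eq_bot_or_eq_top) with h | h
      · exact ab (h.of_equiv topEquiv)
      · obtain ⟨k, hk⟩ := (H01.piNum_singleton_iff hq.out Nat.card_pos.ne').1 fun r hr e => (d r hr e).resolve_left (by
          intro e'; exact hr.one_lt.ne' (Nat.eq_one_of_dvd_coprimes h (card_top (G := X) ▸ e) (e' ▸ dvd_rfl)))
        exact ab (.of_card hk)) h⟩) S fun e => H1 (by simpa [e] using HS')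
  obtain ⟨n, n1, n2⟩ := w4 (H.comap ι) ((comap_mono HS').trans (comap_map_eq_self_of_injective inj _).le) x
    (le_normalizer_comap ι x.1.2)
  let M := normalizer (W : Set G)
  have SM : S.1.map ι ≤ M := le_normalizer.trans w3
  obtain ⟨K, P, k1, k2, y, y1, y2⟩ := ih _ (lt_top' (M := M) fun e => hW ⟨W, normalizer_eq_top_iff.1 e, w1, (S.2.map ι).to_le w2⟩) M (hs.sub M)
    (hH.comap_subtype (K := M)) ⟨⟨_, n1⟩, le_normalizer_comap M.subtype n.1.2, fun m hm => by_contra fun h => x3 (by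
      have : ι x ^ m ∈ centralizer (H : Set G) := pow_cent (y := ι n) n.1.2 (fun a ha => by
        obtain ⟨a, -, rfl⟩ := HS' ha
        simpa only [map_mul, map_inv] using congrArg ι (n2 a ha).symm) m fun a ha => congrArg Subtype.val (hm ⟨a, SM (HS' ha)⟩ ha)
      obtain ⟨j, hj⟩ := exists_pow_eq_self_of_coprime (x := x) (n := m) (((hq.out.coprime_iff_not_dvd.2 h).symm.pow_right k).coprime_dvd_right
        (orderOf_dvd_of_pow_eq_one x2))
      rw [← hj, map_pow, map_pow]; exact pow_mem this j)⟩ rfl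
  have cP := (mx (K.map M.subtype) (P.map M.subtype) ⟨y, le_normalizer_map _ ⟨y, y1, rfl⟩, fun m hm => y2 m fun a ha =>
    Subtype.ext (hm a.1 ⟨a, ha, rfl⟩)⟩ (P.2.map _) (map_mono k1) ((map_mono k2).trans (le_normalizer_map _))).1
  obtain ⟨P', hP'⟩ := (S.2.map ι).exists_le_sylow
  refine ⟨H, P', HS'.trans hP', le_trans (by_contra fun h => ?_) (show S.1.map ι ≤ N by rintro _ ⟨a, -, rfl⟩; exact a.1.2), hQ⟩
  have := P'.2.isNilpotent
  have lt := H04.lt_inf_normalizer (lt_of_le_not_ge hP' h)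
  obtain ⟨P'', h'⟩ := ((P'.2.to_inf_left (K := normalizer (S.1.map ι : Set G))).comap_subtype (K := M)).exists_le_sylow
  have := (Nat.card_congr (subgroupOfEquivOfLe (inf_le_right.trans w3)).toEquiv).ge.trans (card_le_of_le h')
  rw [Nat.card_congr (P''.equiv P).toEquiv] at this
  have := H04.card_lt_of_lt lt
  rw [card_subtype] at cP
  omega

end H12.Atm
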