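import Mathlib
import Cfsg.Agent.H17.Dickson2

/-!
Dickson's lemma over an arbitrary field `k` (char ≠ 2, |k| ≠ 3): `H12.dickson_lemma` : a subgroup of `SL₂(K)` containing
`up k` and `lo (k λ)` (λ ≠ 0 algebraic over k) contains `up s`, `lo s` for all `s ∈ k[λ]`; `H12.dickson_lemma_top`.
-/

set_option autoImplicit false

namespace H12

open Polynomial H17 H09
open scoped MatrixGroups

namespace DL

section ring
variable {R : Type*} [CommRing R]

/-- one step of the fraction free Euclidean algorithm -/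
noncomputable def stepC (m : ℕ) (A B : R[X]) : R[X] := C (A.coeff (m + 1)) * B - C (B.coeff (m + 1)) * A

/-- one step of the fraction free Euclidean algorithm -/
noncomputable def stepA (m : ℕ) (A B : R[X]) : R[X] := C (B.coeff m) * A - C (A.coeff (m + 1)) * (X * B)

/-- the product of all leading coefficients met in a normal Euclidean algorithm -/
noncomputable def dE : ℕ → R[X] → R[X] → R
  | 0, A, _ => A.coeff 0
  | m + 1, A, B => A.coeff (m + 1) * (stepC m A B).coeff m * dE m (stepA m A (stepC m A B)) (stepC m A B)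

theorem dE_map {S : Type*} [CommRing S] (f : R →+* S) (m : ℕ) (A B : R[X]) :
    dE m (A.map f) (B.map f) = f (dE m A B) := by
  induction m generalizing A B with
  | zero => simp [dE]
  | succ m ih =>
    have h1 : stepC m (A.map f) (B.map f) = (stepC m A B).map f := by simp [stepC]
    have h2 : stepA m (A.map f) ((stepC m A B).map f) = (stepA m A (stepC m A B)).map f := by simp [stepA]
    rw [dE, dE, h1, h2, ih]; simp

theorem deg_stepC {m : ℕ} {A B : R[X]} (hA : A.natDegree ≤ m + 1) (hB : B.natDegree ≤ m + 1) :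
    (stepC m A B).natDegree ≤ m := by
  rw [natDegree_le_iff_coeff_eq_zero] at *
  intro N hN
  simp only [stepC, coeff_sub, coeff_C_mul]
  rcases (show N = m + 1 ∨ m + 1 < N by omega) with rfl | h
  · ring
  · rw [hA N h, hB N h]; ring

theorem deg_stepA {m : ℕ} {A B : R[X]} (hA : A.natDegree ≤ m + 1) (hB : B.natDegree ≤ m) :
    (stepA m A B).natDegree ≤ m := by
  rw [natDegree_le_iff_coeff_eq_zero] at *
  intro N hN
  obtain ⟨N, rfl⟩ : ∃ N', N = N' + 1 := ⟨N - 1, by omega⟩
  simp only [stepA, coeff_sub, coeff_C_mul, coeff_X_mul]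
  rcases (show N = m ∨ m < N by omega) with rfl | h
  · ring
  · rw [hA _ (by omega), hB N h]; ring

end ring

variable {k K : Type*} [Field k] [Field K] [Algebra k K]

theorem exists_normal (m : ℕ) : ∃ A B : k[X], A.natDegree ≤ m ∧ B.natDegree ≤ m ∧ B.coeff m ≠ 0 ∧
    ∀ u v : k, u ≠ 0 → v ≠ 0 → dE m (C u * A) (C v * B) ≠ 0 := by
  induction m with
  | zero => exact ⟨1, 1, by simp, by simp, by simp, fun u v hu _ => by simpa [dE] using hu⟩
  | succ m ih =>
    obtain ⟨A, B, hA, hB, hc, h⟩ := ih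
    have hA1 : A.coeff (m + 1) = 0 := coeff_eq_zero_of_natDegree_lt (by omega)
    have hB1 : B.coeff (m + 1) = 0 := coeff_eq_zero_of_natDegree_lt (by omega)
    have hd : (A + X * B).natDegree ≤ m + 1 :=
      natDegree_add_le_of_degree_le (by omega) (natDegree_mul_le.trans (by have := natDegree_X_le (R := k); omega))
    refine ⟨A + X * B, B + (A + X * B), hd, natDegree_add_le_of_degree_le (by omega) hd, by simpa [hA1, hB1], ?_⟩
    intro u v hu hv
    have h1 : stepC m (C u * (A + X * B)) (C v * (B + (A + X * B))) = C (u * v * B.coeff m) * B := by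
      simp only [stepC, coeff_C_mul, coeff_add, coeff_X_mul, hA1, hB1, zero_add, map_mul]; ring
    have h2 : stepA m (C u * (A + X * B)) (C (u * v * B.coeff m) * B) = C (u * u * v * B.coeff m * B.coeff m) * A := by
      simp only [stepA, coeff_C_mul, coeff_add, coeff_X_mul, hA1, zero_add]
      simp only [map_mul]; ring
    rw [dE, h1, h2]
    refine mul_ne_zero (mul_ne_zero ?_ ?_) (h _ _ (by positivity) (by positivity))
    · simp only [coeff_C_mul, coeff_add, coeff_X_mul, hA1, zero_add]; positivity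
    · simp only [coeff_C_mul]; positivity

/-- the column `(a, λ c)` lies in the orbit of a `k`-multiple of `(1, 0)` -/
def Red (k : Type*) [Field k] [Algebra k K] (L : Subgroup SL(2, K)) (lam a c : K) : Prop :=
  ∃ g ∈ L, ∃ u : k, u ≠ 0 ∧ u • g 0 0 = a ∧ u • g 1 0 = lam * c

variable {L : Subgroup SL(2, K)} {lam : K} (hx : ∀ c : k, up (algebraMap k K c) ∈ L)
  (hy : ∀ c : k, lo (algebraMap k K c * lam) ∈ L)

include hx in
theorem red_x {a c : K} (h : Red k L lam a c) (t : k) : Red k L lam (a + t • (lam * c)) c := by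
  obtain ⟨g, hg, u, hu, h1, h2⟩ := h
  refine ⟨_, L.mul_mem (hx t) hg, u, hu, ?_, ?_⟩
  · rw [← h1, ← h2]; simp only [SL2.mul_apply, up_00, up_01, Algebra.smul_def]; ring
  · rw [← h2]; simp only [SL2.mul_apply, up_10, up_11, Algebra.smul_def]; ring

include hy in
theorem red_y {a c : K} (h : Red k L lam a c) (t : k) : Red k L lam a (c + t • a) := by
  obtain ⟨g, hg, u, hu, h1, h2⟩ := h
  refine ⟨_, L.mul_mem (hy t) hg, u, hu, ?_, ?_⟩
  · rw [← h1]; simp only [SL2.mul_apply, lo_00, lo_01, Algebra.smul_def]; ring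
  · rw [mul_add, ← h2, ← h1]; simp only [SL2.mul_apply, lo_10, lo_11, Algebra.smul_def]; ring

include hx hy in
theorem red_of_dE (m : ℕ) (A B : k[X]) (hA : A.natDegree ≤ m) (hB : B.natDegree ≤ m) (h : dE m A B ≠ 0)
    (u v : k) (hu : u ≠ 0) (hv : v ≠ 0) : Red k L lam (u • aeval lam A) (v • aeval lam B) := by
  induction m generalizing A B u v with
  | zero =>
    rw [eq_C_of_natDegree_le_zero hA, eq_C_of_natDegree_le_zero hB]
    have h0 : A.coeff 0 ≠ 0 := h
    have h1 : Red k L lam (u • algebraMap k K (A.coeff 0)) 0 :=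
      ⟨1, L.one_mem, u * A.coeff 0, mul_ne_zero hu h0, by simp [one_00, Algebra.smul_def], by simp [one_10]⟩
    convert red_y hy h1 (v * B.coeff 0 / (u * A.coeff 0)) using 1
    · simp
    · simp only [aeval_C, zero_add, Algebra.smul_def, ← map_mul]
      congr 1; field_simp
  | succ m ih =>
    rw [dE] at h
    have h1 := left_ne_zero_of_mul (left_ne_zero_of_mul h)
    have h2 := right_ne_zero_of_mul (left_ne_zero_of_mul h)
    have h3 := ih _ _ (deg_stepA hA (deg_stepC hA hB)) (deg_stepC hA hB) (right_ne_zero_of_mul h)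
      (u / (stepC m A B).coeff m) (v / A.coeff (m + 1)) (div_ne_zero hu h2) (div_ne_zero hv h1)
    have h4 := red_x hx h3 (u * A.coeff (m + 1) * A.coeff (m + 1) / ((stepC m A B).coeff m * v))
    have e : (u / (stepC m A B).coeff m) • aeval lam (stepA m A (stepC m A B)) +
        (u * A.coeff (m + 1) * A.coeff (m + 1) / ((stepC m A B).coeff m * v)) •
          (lam * (v / A.coeff (m + 1)) • aeval lam (stepC m A B)) = u • aeval lam A := by
      rw [stepA]
      simp only [map_sub, map_mul, aeval_C, aeval_X, Algebra.smul_def, map_div₀]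
      have := (map_ne_zero (algebraMap k K)).2 h1
      have := (map_ne_zero (algebraMap k K)).2 h2
      have := (map_ne_zero (algebraMap k K)).2 hv
      field_simp; ring
    rw [e] at h4
    convert red_y hy h4 (v * B.coeff (m + 1) / (A.coeff (m + 1) * u)) using 1
    rw [stepC]
    simp only [map_sub, map_mul, aeval_C, Algebra.smul_def, map_div₀]
    have := (map_ne_zero (algebraMap k K)).2 h1
    have := (map_ne_zero (algebraMap k K)).2 hu
    field_simp; ring

theorem inv_mem_adjoin (hl : IsAlgebraic k lam) {a : K} (ha : a ∈ Algebra.adjoin k {lam}) :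
    a⁻¹ ∈ Algebra.adjoin k {lam} := by
  rw [← IntermediateField.adjoin_simple_toSubalgebra_of_isAlgebraic hl] at ha ⊢
  exact (IntermediateField.adjoin k {lam}).inv_mem ha

include hx hy in
theorem exists_upper [Infinite k] (hl : IsAlgebraic k lam) {a : K} (ha : a ∈ Algebra.adjoin k {lam})
    (ha0 : a ≠ 0) : ∃ g ∈ L, ∃ u : k, u ≠ 0 ∧ g 1 0 = 0 ∧ g 0 0 = u • a := by
  have hi := hl.isIntegral
  set m := (minpoly k lam).natDegree
  have rep : ∀ x ∈ Algebra.adjoin k {lam}, ∃ P : k[X], P.natDegree ≤ m ∧ aeval lam P = x := by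
    intro x hx
    rw [Algebra.adjoin_singleton_eq_range_aeval] at hx
    obtain ⟨P, rfl⟩ := hx
    refine ⟨P %ₘ minpoly k lam, ?_, aeval_modByMonic_eq_self_of_root (minpoly.aeval k lam)⟩
    exact natDegree_le_natDegree (degree_modByMonic_lt P (minpoly.monic hi)).le
  have mem : ∀ P : k[X], aeval lam P ∈ Algebra.adjoin k {lam} := fun P => aeval_mem_adjoin_singleton k lam
  obtain ⟨A1, B1, hA1, hB1, -, h1⟩ := exists_normal (k := k) m
  have h1' : dE m A1 B1 ≠ 0 := by simpa using h1 1 1 one_ne_zero one_ne_zero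
  obtain ⟨A2, hA2, e2⟩ := rep _ (mul_mem ha (mem A1))
  obtain ⟨B2, hB2, f2⟩ := rep _ (mul_mem ha (mem B1))
  obtain ⟨A3, hA3, e3⟩ := rep _ (mul_mem (inv_mem_adjoin hl ha) (mem A1))
  obtain ⟨B3, hB3, f3⟩ := rep _ (mul_mem (inv_mem_adjoin hl ha) (mem B1))
  let ln : k[X] → k[X] → k[X][X] := fun P Q => C (1 - X) * P.map C + C X * Q.map C
  have hln : ∀ P Q t, (ln P Q).map (evalRingHom t) = C (1 - t) * P + C t * Q := by
    intro P Q t
    have : (evalRingHom t).comp C = RingHom.id k := by ext; simp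
    simp [ln, Polynomial.map_map, this]
  have hev : ∀ P Q P' Q' t, (dE m (ln P Q) (ln P' Q')).eval t =
      dE m (C (1 - t) * P + C t * Q) (C (1 - t) * P' + C t * Q') := by
    intro P Q P' Q' t
    rw [← hln, ← hln, dE_map]; rfl
  have hdeg : ∀ (P Q : k[X]) (t : k), P.natDegree ≤ m → Q.natDegree ≤ m →
      (C (1 - t) * P + C t * Q).natDegree ≤ m := fun P Q t hP hQ =>
    natDegree_add_le_of_degree_le ((natDegree_C_mul_le _ _).trans hP) ((natDegree_C_mul_le _ _).trans hQ)
  have n1 : dE m (ln A1 A2) (ln B1 B2) ≠ 0 := fun e => h1' (by simpa [e] using (hev A1 A2 B1 B2 0).symm)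
  have n2 : dE m (ln A3 A1) (ln B3 B1) ≠ 0 := fun e => h1' (by simpa [e] using (hev A3 A1 B3 B1 1).symm)
  obtain ⟨t, ht⟩ : ∃ t, (dE m (ln A1 A2) (ln B1 B2) * dE m (ln A3 A1) (ln B3 B1)).eval t ≠ 0 := by
    by_contra hc
    push Not at hc
    exact mul_ne_zero n1 n2 (Polynomial.funext (by simpa using hc))
  rw [eval_mul, hev, hev] at ht
  obtain ⟨g1, hg1, u1, hu1, p1, q1⟩ := red_of_dE hx hy m _ _ (hdeg _ _ t hA1 hA2) (hdeg _ _ t hB1 hB2)
    (left_ne_zero_of_mul ht) 1 1 one_ne_zero one_ne_zero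
  obtain ⟨g2, hg2, u2, hu2, p2, q2⟩ := red_of_dE hx hy m _ _ (hdeg _ _ t hA3 hA1) (hdeg _ _ t hB3 hB1)
    (right_ne_zero_of_mul ht) 1 1 one_ne_zero one_ne_zero
  simp only [map_one, one_mul, map_add, map_mul, aeval_C, e2, f2, e3, f3, Algebra.smul_def] at p1 q1 p2 q2
  have hu1' := (map_ne_zero (algebraMap k K)).2 hu1
  have i1 : g1 0 0 = (algebraMap k K u2 / algebraMap k K u1 * a) * g2 0 0 := by
    have : a * a⁻¹ = 1 := mul_inv_cancel₀ ha0
    rw [div_mul_eq_mul_div, div_mul_eq_mul_div, eq_div_iff hu1']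
    linear_combination p1 - a * p2 - (algebraMap k K (1 - t) * aeval lam A1) * this
  have i2 : g1 1 0 = (algebraMap k K u2 / algebraMap k K u1 * a) * g2 1 0 := by
    have : a * a⁻¹ = 1 := mul_inv_cancel₀ ha0
    rw [div_mul_eq_mul_div, div_mul_eq_mul_div, eq_div_iff hu1']
    linear_combination q1 - a * q2 - (lam * algebraMap k K (1 - t) * aeval lam B1) * this
  refine ⟨_, L.mul_mem (L.inv_mem hg2) hg1, u2 / u1, div_ne_zero hu2 hu1, ?_, ?_⟩
  · simp only [SL2.mul_apply, SL2.inv_10, SL2.inv_11, i1, i2]; ring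
  · simp only [SL2.mul_apply, SL2.inv_00, SL2.inv_01, i1, i2, Algebra.smul_def, map_div₀]
    linear_combination (algebraMap k K u2 / algebraMap k K u1 * a) * SL2.det_eq g2

theorem lo_of_up (h0 : lam ≠ 0) (h1 : up lam⁻¹ ∈ L) (h2 : lo lam ∈ L) {s : K} (hs : up s ∈ L) :
    lo (lam ^ 2 * s) ∈ L := by
  have h3 := L.mul_mem (L.inv_mem h1) h2
  convert L.mul_mem (L.mul_mem h3 (L.inv_mem hs)) (L.inv_mem h3) using 1
  apply SL2.ext' <;> simp only [SL2.mul_apply, SL2.inv_00, SL2.inv_01, SL2.inv_10, SL2.inv_11, up_00, up_01, up_10,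
    up_11, lo_00, lo_01, lo_10, lo_11] <;> field_simp <;> ring

include hx hy in
theorem up_mem_infinite [Infinite k] (h2 : (2 : k) ≠ 0) (hl : IsAlgebraic k lam) {s : K}
    (hs : s ∈ Algebra.adjoin k {lam}) : up s ∈ L := by
  have key : ∀ a ∈ Algebra.adjoin k {lam}, ∀ c : k, up (c • a ^ 2) ∈ L := by
    intro a ha c
    by_cases ha0 : a = 0
    · simp [ha0, up_zero]
    obtain ⟨g, hg, u, hu, h1, h3⟩ := exists_upper hx hy hl ha ha0
    have := L.mul_mem (L.mul_mem hg (hx (c / u ^ 2))) (L.inv_mem hg)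
    rw [conj_up_of_upper h1, h3] at this
    convert this using 2
    simp only [Algebra.smul_def, map_div₀, map_pow]
    have := (map_ne_zero (algebraMap k K)).2 hu
    field_simp
  have := L.mul_mem (key _ (add_mem hs (one_mem _)) 4⁻¹) (key _ (sub_mem hs (one_mem _)) (-4⁻¹))
  rw [up_mul] at this
  convert this using 2
  have h4 : (algebraMap k K 4) ≠ 0 := (_root_.map_ne_zero _).2 (by rw [show (4 : k) = 2 * 2 by norm_num]; positivity)
  simp only [Algebra.smul_def, map_neg, map_inv₀]
  field_simp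
  rw [map_ofNat]; ring

include hx hy in
theorem up_mem_finite [Finite k] [IsAlgClosed K] (h2 : ringChar k ≠ 2) (hk3 : Nat.card k ≠ 3)
    (hl : IsAlgebraic k lam) (h0 : lam ≠ 0) {s : K} (hs : s ∈ Algebra.adjoin k {lam}) : up s ∈ L := by
  classical
  have := Fintype.ofFinite k
  obtain ⟨n, hp, hn⟩ := FiniteField.card k (ringChar k)
  have := Fact.mk hp
  have : CharP K (ringChar k) := charP_of_injective_algebraMap (algebraMap k K).injective _
  have h2k : (2 : k) ≠ 0 := Ring.two_ne_zero h2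
  have h2K : (2 : K) ≠ 0 := by rw [← map_ofNat (algebraMap k K) 2]; exact (_root_.map_ne_zero _).2 h2k
  set R := Algebra.adjoin k {lam}
  have hRf : Finite R := by
    have : Module.Finite k R := ⟨(Submodule.fg_top _).2 hl.isIntegral.fg_adjoin_singleton⟩
    exact Module.finite_of_finite k
  let L' : Subgroup SL(2, K) :=
    { carrier := {x | (x ∈ L ∨ -x ∈ L) ∧ ∀ i j, x i j ∈ R}
      one_mem' := ⟨Or.inl L.one_mem, fun i j => by
        fin_cases i <;> fin_cases j
        exacts [R.one_mem, R.zero_mem, R.zero_mem, R.one_mem]⟩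
      mul_mem' := by
        rintro a b ⟨ha, ha'⟩ ⟨hb, hb'⟩
        refine ⟨?_, fun i j => ?_⟩
        · rcases ha with ha | ha <;> rcases hb with hb | hb
          · exact Or.inl (L.mul_mem ha hb)
          · exact Or.inr (by simpa using L.mul_mem ha hb)
          · exact Or.inr (by simpa using L.mul_mem ha hb)
          · exact Or.inl (by simpa using L.mul_mem ha hb)
        · rw [SL2.mul_apply]
          exact add_mem (mul_mem (ha' _ _) (hb' _ _)) (mul_mem (ha' _ _) (hb' _ _))
      inv_mem' := by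
        rintro a ⟨ha, ha'⟩
        refine ⟨?_, fun i j => ?_⟩
        · rcases ha with ha | ha
          · exact Or.inl (L.inv_mem ha)
          · exact Or.inr (by simpa using L.inv_mem ha)
        · fin_cases i <;> fin_cases j
          · exact SL2.inv_00 a ▸ ha' _ _
          · exact SL2.inv_01 a ▸ neg_mem (ha' _ _)
          · exact SL2.inv_10 a ▸ neg_mem (ha' _ _)
          · exact SL2.inv_11 a ▸ ha' _ _ }
  have hfin : Finite L' := Finite.of_injective (fun x : L' => fun i j => (⟨x.1 i j, x.2.2 i j⟩ : R)) (by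
    intro a b h
    apply Subtype.ext
    ext i j
    exact congrArg Subtype.val (congrFun (congrFun h i) j))
  have hlam : lam ∈ R := Algebra.self_mem_adjoin_singleton k lam
  have hx' : ∀ c : k, up (algebraMap k K c) ∈ L' := fun c => ⟨Or.inl (hx c), fun i j => by
    fin_cases i <;> fin_cases j
    exacts [R.one_mem, R.algebraMap_mem c, R.zero_mem, R.one_mem]⟩
  have hy' : ∀ c : k, lo (algebraMap k K c * lam) ∈ L' := fun c => ⟨Or.inl (hy c), fun i j => by
    fin_cases i <;> fin_cases j
    exacts [R.one_mem, R.zero_mem, mul_mem (R.algebraMap_mem c) hlam, R.one_mem]⟩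
  have hneg : -1 ∈ L' := ⟨Or.inr (by simp), fun i j => by
    fin_cases i <;> fin_cases j
    exacts [neg_mem R.one_mem, neg_mem R.zero_mem, neg_mem R.zero_mem, neg_mem R.one_mem]⟩
  have hu1 : up 1 ∈ L' := by simpa using hx' 1
  have hl1 : lo lam ∈ L' := by simpa using hy' 1
  suffices h : ∀ s ∈ R, up s ∈ L' by
    have e : up s = up (s / 2) * up (s / 2) := by rw [up_mul]; congr 1; field_simp; ring
    have hs2 : s / 2 ∈ R := by
      have := mul_mem hs (R.algebraMap_mem 2⁻¹)
      rwa [map_inv₀, map_ofNat, ← div_eq_mul_inv] at this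
    rcases (h _ hs2).1 with h1 | h1
    · exact e ▸ L.mul_mem h1 h1
    · simpa [e] using L.mul_mem h1 h1
  rcases dickson_count (ringChar k) h2 L' hneg one_ne_zero hu1 hl1 h0 with h | ⟨h3, h⟩
  · have e0 : lo lam • (pInf : P1 K) = pt lam⁻¹ := sl_smul_pInf_eq_pt.2 (by simp [h0])
    have k1 : ∀ t, t ≠ 0 → lo t ∈ L' → ∃ β, up β ∈ L' ∧ t⁻¹ = lam⁻¹ + β := by
      intro t ht htL
      obtain ⟨β, hβ, e⟩ := h _ htL ht
      have e1 : up β • pt lam⁻¹ = pt (lam⁻¹ + β) := sl_smul_pt_eq_pt.2 (by simp)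
      rw [e0, e1, sl_smul_pInf_eq_pt] at e
      simp only [lo_00, lo_10] at e
      exact ⟨β, hβ, (eq_inv_of_mul_eq_one_left e.symm).symm⟩
    have k2 : up lam⁻¹ ∈ L' := by
      obtain ⟨β, hβ, e⟩ := k1 _ (mul_ne_zero ((_root_.map_ne_zero _).2 (inv_ne_zero h2k)) h0) (hy' 2⁻¹)
      rw [map_inv₀, map_ofNat, mul_inv, inv_inv] at e
      rwa [show lam⁻¹ = β by linear_combination e]
    have k3 : ∀ t, lo t ∈ L' → up t⁻¹ ∈ L' := by
      intro t htL
      by_cases ht : t = 0
      · simp [ht, up_zero]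
      obtain ⟨β, hβ, e⟩ := k1 t ht htL
      rw [e, ← up_mul]; exact L'.mul_mem k2 hβ
    have k4 : ∀ s, up s ∈ L' → lo s⁻¹ ∈ L' := by
      intro s hs
      have := lo_of_up h0 k2 hl1 (k3 _ (lo_of_up h0 k2 hl1 hs))
      rwa [mul_inv, ← mul_assoc, mul_inv_cancel₀ (pow_ne_zero 2 h0), one_mul] at this
    have k5 : ∀ s, up s ∈ L' → ∀ u, up u ∈ L' → up (s ^ 2 * u) ∈ L' := by
      intro s hs u hu
      by_cases hs0 : s = 0
      · simp [hs0, up_zero]
      have i1 := lo_of_up one_ne_zero (by simpa using hu1) (by simpa using k4 1 hu1) hu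
      have i2 := k3 _ (lo_of_up (inv_ne_zero hs0) (by simpa using hs) (k4 s hs) (k3 _ i1))
      convert i2 using 2
      simp [mul_comm]
    let S : Subalgebra k K :=
      { carrier := {s | up s ∈ L'}
        add_mem' := fun {a b} ha hb => by simpa [up_mul] using L'.mul_mem ha hb
        mul_mem' := fun {a b} ha hb => by
          have h12 := hx' 2⁻¹
          have := L'.mul_mem (L'.mul_mem (k5 _ (up_mul a b ▸ L'.mul_mem ha hb) _ h12) (L'.inv_mem (k5 _ ha _ h12)))
            (L'.inv_mem (k5 _ hb _ h12))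
          rw [up_inv, up_inv, up_mul, up_mul, map_inv₀, map_ofNat] at this
          change up _ ∈ L'
          convert this using 2
          field_simp; ring
        algebraMap_mem' := hx' }
    have : R ≤ S := Algebra.adjoin_le (by
      rintro _ rfl
      have := k3 _ (lo_of_up one_ne_zero (by simpa using hu1) (by simpa using k4 1 hu1) k2)
      change up _ ∈ L'
      simpa using this)
    exact fun s hs => this hs
  · exfalso
    have h3K : (3 : K) = 0 := by
      have := CharP.cast_eq_zero K (ringChar k)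
      rw [h3] at this; exact_mod_cast this
    have hP : (X * (X - 1) * (X + 1) * (X ^ 4 + 1) : K[X]).natDegree = 7 := by compute_degree!
    have hP0 : (X * (X - 1) * (X + 1) * (X ^ 4 + 1) : K[X]) ≠ 0 := fun e => by simp [e] at hP
    have hsub : Finset.univ.image (fun c : k => 2 + algebraMap k K c * lam) ⊆
        (X * (X - 1) * (X + 1) * (X ^ 4 + 1) : K[X]).roots.toFinset := by
      intro y hy
      obtain ⟨c, -, rfl⟩ := Finset.mem_image.1 hy
      have := tr_poly_of_pow h3K (h _ (L'.mul_mem (hx' c) hl1))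
      have e : tr (up (algebraMap k K c) * lo lam) = 2 + algebraMap k K c * lam := by
        simp only [tr, SL2.mul_apply, up_00, up_01, up_10, up_11, lo_00, lo_01, lo_10, lo_11]; ring
      rw [e] at this
      rw [Multiset.mem_toFinset, mem_roots hP0, IsRoot]
      simp only [eval_mul, eval_X, eval_sub, eval_add, eval_one, eval_pow]
      rcases this with h | h | h | h <;> rw [h] <;> ring
    have hc := Finset.card_le_card hsub
    rw [Finset.card_image_of_injective _ (fun a b e => (algebraMap k K).injective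
      (mul_right_cancel₀ h0 (add_left_cancel e))), Finset.card_univ] at hc
    have hc2 := hc.trans ((Multiset.toFinset_card_le _).trans ((card_roots' _).trans hP.le))
    rw [Nat.card_eq_fintype_card] at hk3
    rw [hn, h3] at hc2 hk3
    have : (n : ℕ) ≠ 1 := fun e => hk3 (by rw [e, pow_one])
    have : 3 ^ 2 ≤ 3 ^ (n : ℕ) := Nat.pow_le_pow_right (by norm_num) (by have := n.pos; omega)
    omega

end DL

variable {k K : Type*} [Field k] [Field K] [Algebra k K]

theorem dickson_lemma (hk2 : ringChar k ≠ 2) (hk3 : Nat.card k ≠ 3) {lam : K} (hl : IsAlgebraic k lam)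
    (h0 : lam ≠ 0) {L : Subgroup SL(2, K)} (hx : ∀ c : k, up (algebraMap k K c) ∈ L)
    (hy : ∀ c : k, lo (algebraMap k K c * lam) ∈ L) {s : K} (hs : s ∈ Algebra.adjoin k {lam}) :
    up s ∈ L ∧ lo s ∈ L := by
  have key : ∀ s ∈ Algebra.adjoin k {lam}, up s ∈ L := by
    intro s hs
    rcases finite_or_infinite k with hf | hf
    · let f := IsScalarTower.toAlgHom k K (AlgebraicClosure K)
      have := DL.up_mem_finite (L := L.map (Matrix.SpecialLinearGroup.map (n := Fin 2) (f : K →+* _)))
        (lam := f lam) (fun c => ⟨_, hx c, by rw [map_up]; simp⟩) (fun c => ⟨_, hy c, by rw [map_lo]; simp⟩)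
        hk2 hk3 (hl.algHom f) ((map_ne_zero f).2 h0) (s := f s) (by
          rw [← Set.image_singleton, Algebra.adjoin_image]; exact ⟨s, hs, rfl⟩)
      obtain ⟨g, hg, e⟩ := this
      have : g = up s := map_injective_SL (f : K →+* AlgebraicClosure K)
        (e.trans (map_up (f : K →+* AlgebraicClosure K) s).symm)
      exact this ▸ hg
    · exact DL.up_mem_infinite hx hy (Ring.two_ne_zero hk2) hl hs
  refine ⟨key s hs, ?_⟩
  have hi := DL.inv_mem_adjoin hl (Algebra.self_mem_adjoin_singleton k lam)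
  have := DL.lo_of_up h0 (key _ hi) (by simpa using hy 1) (key _ (mul_mem (pow_mem hi 2) hs))
  rwa [← mul_assoc, ← mul_pow, mul_inv_cancel₀ h0, one_pow, one_mul] at this

theorem dickson_lemma_top (hk2 : ringChar k ≠ 2) (hk3 : Nat.card k ≠ 3) {lam : K} (hl : IsAlgebraic k lam)
    (h0 : lam ≠ 0) (ht : Algebra.adjoin k {lam} = ⊤) {L : Subgroup SL(2, K)}
    (hx : ∀ c : k, up (algebraMap k K c) ∈ L) (hy : ∀ c : k, lo (algebraMap k K c * lam) ∈ L) : L = ⊤ :=
  eq_top_of_up_lo L (fun _ => (dickson_lemma hk2 hk3 hl h0 hx hy (ht ▸ Algebra.mem_top)).1)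
    (fun _ => (dickson_lemma hk2 hk3 hl h0 hx hy (ht ▸ Algebra.mem_top)).2)

end H12
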