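import Cfsg.Agent.H11.FixF

/-! Centraliser and normaliser of a subgroup between the finite Chevalley group and the fixed points of a field
automorphism (`cent_triv`, `norm_fix`). -/

namespace H12.FixN
open Cfsg Cfsg.Lie Equiv H11 H11.StSys

variable {D : ChevalleyDatum} [Good D] [Cert D] {K : Type*} [Field K] {G : Type*} [Group G]

theorem mem_B {S : StSys D K G} (hgen : S.grp = ⊤) (hθ : Function.Injective S.θ) {g : G}
    (h : ∀ i, ∃ t : K, t ≠ 0 ∧ g * S.x (sroot i) t * g⁻¹ = S.x (sroot i) t) : g ∈ S.B := by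
  obtain ⟨b, hb, m, u, hu, rfl⟩ := exists_bnu (S := S) (g := g) (hgen ▸ Subgroup.mem_top g)
  have hw : S.π m = 1 := eq_one_of_pos fun i => by
    by_contra hn
    obtain ⟨t, ht, e⟩ := h i
    have h1 : u * S.x (sroot i) t * u⁻¹ ∈ S.US {r | IsPos r ∧ ¬ IsPos ((S.π m : Perm (Root D)) r)} :=
      mul_mem (mul_mem hu (x_mem_US (by exact ⟨isPos_sroot i, hn⟩) t)) (inv_mem hu)
    have h2 : m * (u * S.x (sroot i) t * u⁻¹) * (m : G)⁻¹ ∈ S.V := (acts_π m).conj_mem (fun r hr => hr.2) h1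
    have h3 : m * (u * S.x (sroot i) t * u⁻¹) * (m : G)⁻¹ = b⁻¹ * S.x (sroot i) t * b := by
      conv_rhs => rw [← e]
      group
    have h4 : b⁻¹ * S.x (sroot i) t * b = 1 := by
      have : b⁻¹ * S.x (sroot i) t * b ∈ S.B ⊓ S.V := Subgroup.mem_inf.2
        ⟨mul_mem (mul_mem (inv_mem hb) (U_le_B (x_mem_U (isPos_sroot i) t))) hb, h3 ▸ h2⟩
      rwa [B_inf_V] at this
    have h5 : S.x (sroot i) t = 1 := by
      calc S.x (sroot i) t = b * (b⁻¹ * S.x (sroot i) t * b) * b⁻¹ := by group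
        _ = 1 := by rw [h4]; group
    exact ht (x_eq_one (S := S) (by rw [h5, map_one]))
  exact mul_mem (mul_mem hb (H_le_B (π_eq_one_iff.1 hw))) (U_le_B (US_mono (fun _ a => a.1) hu))

theorem cent_triv {S : StSys D K G} (hgen : S.grp = ⊤) (hθ : Function.Injective S.θ) {g : G}
    (h : ∀ r, g * S.x r 1 = S.x r 1 * g) : g = 1 := by
  have hH : g ∈ S.H := mem_H_of_forall_conj fun m hm => mem_B hgen hθ fun i => by
    obtain ⟨w, χ, -, hw⟩ := exists_acts hm
    refine ⟨χ (w.1⁻¹ (sroot i)) * 1, by simp, ?_⟩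
    have := hw (w.1⁻¹ (sroot i)) 1
    rw [show w.1 (w.1⁻¹ (sroot i)) = sroot i by simp] at this
    rw [← this]
    calc _ = m * (g * S.x (w.1⁻¹ (sroot i)) 1) * g⁻¹ * m⁻¹ := by group
      _ = _ := by rw [h]; group
  exact hθ ((θ_eq_one_of_commute hH h).trans (map_one _).symm)

theorem tw_field (τ : K ≃+* K) {M : Subgroup (D.group K)} (h1 : ∀ r t, τ t = t → (grpSys D K).x r t ∈ M)
    (h2 : M ≤ fixS (fieldAut D K τ)) : Tw (simpAct_field (D := D) τ) M := by
  refine ⟨grpSys_grp D K, h2, fun i g hg => ?_, fun i => ⟨_, h1 (sroot i).rev 1 (map_one τ), ?_, fun e => ?_⟩⟩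
  · rw [orb_one, posJ_singleton] at hg
    obtain ⟨t, rfl⟩ := mem_US_singleton.1 hg.1
    have := mem_fixS.1 hg.2
    rw [fieldAut_x] at this
    exact h1 _ _ (x_inj (congrArg (grpSys D K).θ this))
  · rw [orb_one]; exact x_mem_US (rev_mem_negJ i) _
  · exact one_ne_zero (x_eq_one (S := grpSys D K) (by rw [e, map_one]))

theorem norm_fix (τ : K ≃+* K) {M : Subgroup (D.group K)} (h1 : ∀ r t, τ t = t → (grpSys D K).x r t ∈ M)
    (h2 : M ≤ fixS (fieldAut D K τ)) : Subgroup.normalizer (M : Set (D.group K)) = fixS (fieldAut D K τ) := by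
  set S := grpSys D K
  set σ := fieldAut D K τ
  have hθ := grpSys_θ_injective D K
  refine le_antisymm (fun g hg => ?_) ?_
  · rw [mem_fixS, ← inv_mul_eq_one]
    refine cent_triv (grpSys_grp D K) hθ fun r => ?_
    have a1 := mem_fixS.1 (h2 ((Subgroup.mem_normalizer_iff.1 hg _).1 (h1 r 1 (map_one τ))))
    have a2 := mem_fixS.1 (h2 (h1 r 1 (map_one τ)))
    rw [map_mul, map_mul, map_inv, a2] at a1
    calc (σ g)⁻¹ * g * S.x r 1 = (σ g)⁻¹ * (g * S.x r 1 * g⁻¹) * g := by group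
      _ = S.x r 1 * ((σ g)⁻¹ * g) := by rw [← a1]; group
  let L : Subgroup (D.group K) := Subgroup.closure {g | ∃ r t, τ t = t ∧ g = S.x r t}
  have hL : ∀ r t, τ t = t → S.x r t ∈ L := fun r t ht => Subgroup.subset_closure ⟨r, t, ht, rfl⟩
  have hLM : L ≤ M := (Subgroup.closure_le _).2 (by rintro _ ⟨r, t, ht, rfl⟩; exact h1 r t ht)
  have T := tw_field τ hL (hLM.trans h2)
  have hn : S.H ⊓ fixS σ ≤ Subgroup.normalizer (L : Set (D.group K)) := by
    have key : ∀ y ∈ S.H ⊓ fixS σ, ∀ l ∈ L, y * l * y⁻¹ ∈ L := fun y hy l hl => by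
      obtain ⟨χ, -, -, h3⟩ := exists_char hy.1
      have : L ≤ L.comap (MulAut.conj y).toMonoidHom := (Subgroup.closure_le _).2 (by
        rintro _ ⟨r, t, ht, rfl⟩
        change y * S.x r t * y⁻¹ ∈ L
        rw [h3]
        refine hL _ _ ?_
        have a1 : σ (y * S.x r t * y⁻¹) = y * S.x r t * y⁻¹ := by
          rw [map_mul, map_mul, map_inv, mem_fixS.1 hy.2, fieldAut_x, ht]
        rw [h3, fieldAut_x] at a1
        exact x_inj (congrArg S.θ a1))
      exact this hl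
    intro y hy
    refine Subgroup.mem_normalizer_iff.2 fun l => ⟨key y hy l, fun h => ?_⟩
    have := key _ (inv_mem hy) _ h
    simpa [mul_assoc] using this
  have hfix : fixS σ = L ⊔ (S.H ⊓ fixS σ) :=
    ((T.mono le_sup_left (sup_le (hLM.trans h2) inf_le_right)).eq_fix fun y hy => Subgroup.mem_sup_right hy).symm
  rw [hfix]
  refine sup_le (hLM.trans Subgroup.le_normalizer) ?_
  have key : ∀ y ∈ S.H ⊓ fixS σ, ∀ k ∈ M, y * k * y⁻¹ ∈ M := fun y hy k hk => by
    obtain ⟨l, hl, z, hz, rfl⟩ := exists_mul_of_mem_sup hn (hfix ▸ h2 hk)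
    have c : y * z = z * y := hθ (by rw [map_mul, map_mul]; exact θ_comm_of_mem_H hy.1 hz.1)
    have : y * (l * z) * y⁻¹ = (y * l * y⁻¹) * l⁻¹ * (l * z) := by
      calc y * (l * z) * y⁻¹ = y * l * y⁻¹ * (y * z) * y⁻¹ := by group
        _ = _ := by rw [c]; group
    rw [this]
    exact mul_mem (mul_mem (hLM ((Subgroup.mem_normalizer_iff.1 (hn hy) l).1 hl)) (inv_mem (hLM hl))) hk
  intro y hy
  refine Subgroup.mem_normalizer_iff.2 fun l => ⟨key y hy l, fun h => ?_⟩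
  have := key _ (inv_mem hy) _ h
  simpa [mul_assoc] using this

end H12.FixN
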