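import Mathlib
import Cfsg.Agent.H12.FrC

/-!
# Groups generated by unitary reflections, IV : maximality of the monomial group
* `dih`, `Fr.meet`, `Fr.le_mn`
-/

namespace H12.Fr

open Module H10 H10.Form H12.Xf

theorem dih {G : Type*} [Group G] [Finite G] {x y : G} (hx : x * x = 1) (hy : y * y = 1) :
    (∃ n : ℕ, y = (x * y) ^ n * x * ((x * y) ^ n)⁻¹) ∨ ∃ n : ℕ, (x * y) ^ n ≠ 1 ∧ (x * y) ^ n * (x * y) ^ n = 1 ∧
      (x * y) ^ n * x = x * (x * y) ^ n ∧ (x * y) ^ n * y = y * (x * y) ^ n ∧ ∃ m : ℕ,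
        x * (x * y) ^ n = (x * y) ^ m * x * ((x * y) ^ m)⁻¹ ∨ y * (x * y) ^ n = (x * y) ^ m * x * ((x * y) ^ m)⁻¹ := by
  have e : y = (x * y)⁻¹ * x := by rw [eq_inv_mul_iff_mul_eq, mul_assoc, hy, mul_one]
  have s : SemiconjBy x (x * y)⁻¹ (x * y) := by
    rw [SemiconjBy, mul_inv_rev, inv_eq_of_mul_eq_one_right hx, inv_eq_of_mul_eq_one_right hy, mul_assoc]
  generalize x * y = r at *
  have c : ∀ m : ℕ, r ^ m * x * (r ^ m)⁻¹ = r ^ (2 * m) * x := fun m => by
    rw [mul_assoc, ← inv_pow, (s.pow_right m).eq, ← mul_assoc, ← pow_add, two_mul]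
  have o := pow_orderOf_eq_one r
  have := orderOf_pos r
  obtain ⟨j, hj | hj⟩ := Nat.even_or_odd' (orderOf r)
  swap
  · rw [hj, pow_succ] at o
    exact .inl ⟨j, by rw [c, e, eq_inv_of_mul_eq_one_left o]⟩
  have z : r ^ j * r ^ j = 1 := by rw [← pow_add, ← two_mul, ← hj, o]
  have a : r ^ j * x = x * r ^ j := by rw [← (s.pow_right j).eq, inv_pow, inv_eq_of_mul_eq_one_right z]
  have b : r ^ j * y = y * r ^ j := by
    rw [e, mul_assoc, ← a, ← mul_assoc, ← mul_assoc, ((Commute.refl r).inv_right.pow_left j).eq]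
  refine .inr ⟨j, pow_ne_one_of_lt_orderOf (by omega) (by omega), z, a, b, ?_⟩
  obtain ⟨m, rfl | rfl⟩ := Nat.even_or_odd' j
  · exact ⟨m, .inl (by rw [c, a])⟩
  · exact ⟨m, .inr (by rw [c, ← b, e, pow_succ, mul_assoc, mul_inv_cancel_left])⟩

variable {F V : Type*} [Field F] [AddCommGroup V] [Module F V] {φ : Form F V} {q : ℕ} {ι : Type*} [Fintype ι] [DecidableEq ι]
  {e f : ι → V} {a b i j k l : ι} {M : Subgroup φ.Isom} {g t z : φ.Isom} [φ.Nondeg] [FiniteDimensional F V]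

namespace Fr
variable (h : Fr φ q M e)
include h

theorem cen (h2 : (2 : F) ≠ 0) (hz : z ∈ M) (c : z * t = t * z) (h1 : t.1 (e a) = -e a) (r : k ≠ l) (h3 : t.1 (e k) = e k)
    (h4 : t.1 (e l) = e l) : z ∈ h.on.Mn := by
  have H : ∀ k, t.1 (e k) = e k → φ.B (e k) (z.1 (e a)) = 0 := fun k s => mul_left_cancel₀ h2 (by
    have := Isom.B_map t (e k) (z.1 (e a))
    rw [s, ← Isom.mul_apply, ← c, Isom.mul_apply, h1, map_neg, map_neg] at this
    linear_combination -this)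
  exact h.mn hz (h.z2 (h.map hz) (i := a) r (H k h3) (H l h4))

theorem cen2 (h2 : (2 : F) = 0) (hz : z ∈ M) (c : z * t = t * z) (r : a ≠ b) (h1 : t.1 (e a) = e b) (h3 : t.1 (e k) = e k) :
    z ∈ h.on.Mn :=
  h.mn hz (h.e4 h2 (h.map hz) (x := z.1 (e b - e a)) (k := k) (i := a) (j := b)
    (fun s => by simpa [h.on.B, r] using congrArg (φ.B (z.1 (e a))) s)
    (by rw [Isom.Q_map, φ.Q_sub, h.on.Q, h.on.Q, h.on.B, if_neg r.symm, map_zero]; linear_combination h2)
    (by rw [map_sub, ← h1, ← Isom.mul_apply, c, Isom.mul_apply, map_sub, ← h3, Isom.B_map, h3, sub_self])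
    fun l s u => by simp [h.on.B, s, u])

theorem dg (h' : Fr φ q M f) (h2 : (2 : F) ≠ 0) (r : k ≠ l)
    (H : ∀ v, t.1 v = v - (2 * φ.B (e k) v) • e k - (2 * φ.B (e l) v) • e l) (ht : t ∈ h'.on.Mn) (i : ι) :
    ∃ c : F, t.1 (f i) = c • f i := by
  obtain ⟨w, -, hw⟩ := h'.on.exists_fix ht (W := Submodule.span F {e k, e l}) (fun v => Submodule.mem_span_pair.2
    ⟨-(2 * φ.B (e k) v), -(2 * φ.B (e l) v), by rw [H]; module⟩) ∅
    (by have := finrank_span_pair_le (F := F) (e k) (e l); have := h.n; simp; omega)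
  rw [H] at hw
  obtain ⟨j, c, s⟩ := h.on.pt_iff.1 (h.star h' (h.z2 h' (i := w) r (by simpa [h.on.B, r, h2] using congrArg (φ.B (e k)) hw)
    (by simpa [h.on.B, r.symm, h2] using congrArg (φ.B (e l)) hw)) i)
  refine ⟨if j = k ∨ j = l then -1 else 1, ?_⟩
  rw [H, s]
  by_cases u : k = j <;> by_cases v : l = j <;> simp_all [h.on.B, eq_comm] <;> module

theorem dg2 (h' : Fr φ q M f) (hz : z ∈ M) (h1 : z ≠ 1) (H : ∀ i, ∃ c : F, z.1 (e i) = c • e i) (h2 : z.1 (f a) = f a) :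
    Meet F e f := by
  choose c H using H
  have G : ∀ i, c i ≠ 1 → φ.B (e i) (f a) = 0 := fun i s => φ.B_symm_zero (mul_left_cancel₀ (sub_ne_zero.2 s) (by
    have := Isom.B_map z (f a) (e i)
    rw [h2, H, map_smul, smul_eq_mul] at this; linear_combination this))
  obtain ⟨i, hi⟩ : ∃ i, c i ≠ 1 := by_contra fun s => h1 (h.on.ext' fun i => by simp [H, show c i = 1 by grind])
  by_cases s : ∃ j, j ≠ i ∧ c j ≠ 1
  · obtain ⟨j, s, u⟩ := s
    exact h.z2 h' s (G j u) (G i hi)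
  have n := h.on.nrm (by simp [h.on.Q]) (H i)
  refine (hi ?_).elim
  rw [← h.on.det_rf (i := i) n, ← h.le z hz, h.on.ext' (g := z) fun j => ?_]
  rw [h.on.rf_e n, H]; grind

theorem odd (h' : Fr φ q M f) (h2 : (2 : F) ≠ 0) : Meet F e f := by
  have := h.hq.finite
  have : Finite V := Module.finite_of_finite F
  have n := h.n
  obtain ⟨k, -⟩ := h.ex [] (by simp)
  obtain ⟨l, hl⟩ := h.ex [k] (by simp)
  obtain ⟨m, hm⟩ := h.ex [k, l] (by simp)
  obtain ⟨i, hi⟩ := h.ex [k, l, m] (by simp)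
  obtain ⟨j, hj⟩ := h.ex [k, l, m, i] (by simp)
  simp only [List.mem_cons, List.not_mem_nil, or_false, not_or] at hl hm hi hj
  have kl : k ≠ l := Ne.symm hl
  have n1 : φ.σ (-1) * -1 = 1 := by simp
  have xM := h.rr (i := k) (j := l) n1
  have yM := h'.sr (k := m) kl
  rw [map_neg, map_one] at xM
  have xN := mul_mem (h.on.rf_mem (i := k) n1) (h.on.rf_mem (i := l) n1)
  have yN := mul_mem (h'.on.sw_mem kl) (h'.on.rf_mem (i := m) n1)
  have X : ∀ v, (rf φ e k (-1) * rf φ e l (-1)).1 v = v - (2 * φ.B (e k) v) • e k - (2 * φ.B (e l) v) • e l := fun v => by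
    rw [Isom.mul_apply, h.on.rf_apply n1, h.on.rf_apply n1]; simp only [map_add, map_smul, h.on.B, kl, if_false]; module
  have Y : ∀ d, (sw φ f k l * rf φ f m (-1)).1 (f d) = (if m = d then -1 else 1 : F) • f (Equiv.swap k l d) := fun d => by
    rw [Isom.mul_apply, h'.on.rf_e n1, map_smul, h'.on.sw_e kl]
  set W := Submodule.span F {x | x ∈ [e k, e l, f k - f l, f m]}
  have W4 : finrank F W ≤ 4 := finrank_span_list_le _
  have yW : sw φ f k l * rf φ f m (-1) ∈ Dsp φ W := mul_mem (quasi_dsp (h'.on.cd_sw kl) (Submodule.subset_span (by simp)))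
    (quasi_dsp (cd_unit h.hq.herm (h'.on.Q m) n1) (Submodule.subset_span (by simp)))
  have xW : rf φ e k (-1) * rf φ e l (-1) ∈ Dsp φ W := mul_mem
    (quasi_dsp (cd_unit h.hq.herm (h.on.Q k) n1) (Submodule.subset_span (by simp)))
    (quasi_dsp (cd_unit h.hq.herm (h.on.Q l) n1) (Submodule.subset_span (by simp)))
  generalize rf φ e k (-1) * rf φ e l (-1) = x at *
  generalize sw φ f k l * rf φ f m (-1) = y at *
  have x2 : x * x = 1 := Isom.ext fun v => by
    rw [Isom.mul_apply, X, X]; simp only [map_sub, map_smul, h.on.B, kl, hl, if_false, if_true, smul_eq_mul, Isom.one_apply]; module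
  have y2 : y * y = 1 := h'.on.ext' fun d => by
    rw [Isom.mul_apply, Y, map_smul, Y, Equiv.swap_apply_self, smul_smul]
    by_cases s : m = d
    · simp [← s, Equiv.swap_apply_of_ne_of_ne hm.1 hm.2]
    · simp [s, Equiv.eq_symm_apply, ← (Equiv.swap k l).symm_apply_eq, Equiv.swap_apply_of_ne_of_ne hm.1 hm.2]
  have D : ∀ {g : ι → V} (h' : Fr φ q M g) (s : ℕ), (x * y) ^ s * x * ((x * y) ^ s)⁻¹ ∈ h'.on.Mn →
      ∀ i, ∃ c : F, ((x * y) ^ s * x * ((x * y) ^ s)⁻¹).1 (g i) = c • g i := fun h' s => by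
    refine (h.map (pow_mem (mul_mem xM yM) s)).dg h' h2 kl fun v => ?_
    generalize (x * y) ^ s = r
    rw [Isom.mul_apply, Isom.mul_apply, X, ← Isom.B_map r, ← Isom.B_map r (e l)]; simp
  obtain ⟨s, r⟩ | ⟨s, z1, z2, z3, z4, s', r⟩ := dih x2 y2
  · obtain ⟨c, u⟩ := D h' s (r ▸ yN) k
    rw [← r, Y] at u
    simpa [h'.on.B, hl, hm] using congrArg (φ.B (f l)) u
  have zM := pow_mem (mul_mem xM yM) s
  have zW := pow_mem (mul_mem xW yW) s
  specialize @D
  generalize (x * y) ^ s = z at *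
  have ze := h.cen h2 zM z3 (a := k) (k := i) (l := j) (by rw [X]; simp [h.on.B, hl]; module) (Ne.symm hj.2.2.2)
    (by simp [X, h.on.B, Ne.symm hi.1, Ne.symm hi.2.1]) (by simp [X, h.on.B, Ne.symm hj.1, Ne.symm hj.2.1])
  have zf := h'.cen h2 zM z4 (a := m) (k := i) (l := j) (by simp [Y, Equiv.swap_apply_of_ne_of_ne, hm]) (Ne.symm hj.2.2.2)
    (by simp [Y, Equiv.swap_apply_of_ne_of_ne, hi, Ne.symm hi.2.2]) (by simp [Y, Equiv.swap_apply_of_ne_of_ne, hj, Ne.symm hj.2.2.1])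
  obtain r | r := r
  · obtain ⟨d, -, hd⟩ := h'.on.exists_fix zf zW ∅ (by simp; omega)
    refine h.dg2 h' zM z1 (fun a => ?_) hd
    obtain ⟨c, u⟩ := D h s' (r ▸ mul_mem xN ze) a
    obtain ⟨c', u'⟩ := D h 0 (by simpa) a
    rw [← r] at u
    exact ⟨c * c', by rw [mul_smul, ← u', pow_zero, one_mul, inv_one, mul_one, ← map_smul, ← u, ← Isom.mul_apply, ← mul_assoc,
      x2, one_mul]⟩
  have Z : ∀ d, ∃ c : F, z.1 (f d) = c • f (Equiv.swap k l d) := fun d => by
    obtain ⟨c, u⟩ := D h' s' (r ▸ mul_mem yN zf) d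
    rw [← r] at u
    exact ⟨c * _, by rw [mul_smul, ← Y, ← map_smul, ← u, ← Isom.mul_apply, ← mul_assoc, y2, one_mul]⟩
  choose c Z using Z
  obtain ⟨a, -, ha⟩ := h.on.exists_fix ze zW ∅ (by simp; omega)
  obtain ⟨b, ab, hb⟩ := h.on.exists_fix ze zW {a} (by simp; omega)
  by_cases u : ∃ d, d ≠ k ∧ d ≠ l ∧ c d ≠ 1
  · obtain ⟨d, u1, u2, u3⟩ := u
    have G : ∀ a, z.1 (e a) = e a → φ.B (e a) (f d) = 0 := fun a s => mul_left_cancel₀ (sub_ne_zero.2 u3) (by
      have := Isom.B_map z (e a) (f d)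
      rw [s, Z, Equiv.swap_apply_of_ne_of_ne u1 u2, map_smul, smul_eq_mul] at this; linear_combination this)
    exact h.z2 h' (by simpa using ab) (G b hb) (G a ha)
  have c1 := h'.on.nrm (by simp [h'.on.Q]) (Z k)
  have c2 := h'.on.nrm (by simp [h'.on.Q]) (Z l)
  have c3 := congrArg (fun g : φ.Isom => φ.B (f k) (g.1 (f k))) z2
  have c4 := congrArg (fun g : φ.Isom => (φ.det g : F)) (h'.on.ext' (g := z * sw φ f k l) (g' := rf φ f k (c l) * rf φ f l (c k))
    fun d => by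
      rw [Isom.mul_apply, Isom.mul_apply, h'.on.sw_e kl, Z, Equiv.swap_apply_self, h'.on.rf_e c1, map_smul, h'.on.rf_e c2, smul_smul]
      by_cases v : d = k
      · simp [v, hl]
      by_cases w : d = l
      · simp [w, kl]
      simp [Equiv.swap_apply_of_ne_of_ne v w, Ne.symm v, Ne.symm w, show c d = 1 by grind])
  simp [Isom.mul_apply, Z, h'.on.B, h.le z zM, h'.on.det_sw kl, h'.on.det_rf c1, h'.on.det_rf c2] at c3 c4
  exact (h2 (by linear_combination -c4 - c3)).elim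

theorem even (h' : Fr φ q M f) (h2 : (2 : F) = 0) : Meet F e f := by
  have := h.hq.finite
  have : Finite V := Module.finite_of_finite F
  have n := h.n
  obtain ⟨k, -⟩ := h.ex [] (by simp)
  obtain ⟨l, hl⟩ := h.ex [k] (by simp)
  obtain ⟨m, hm⟩ := h.ex [k, l] (by simp)
  obtain ⟨i, hi⟩ := h.ex [k, l, m] (by simp)
  obtain ⟨j, hj⟩ := h.ex [k, l, m, i] (by simp)
  simp only [List.mem_cons, List.not_mem_nil, or_false, not_or] at hl hm hi hj
  have kl : k ≠ l := Ne.symm hl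
  have mi : m ≠ i := Ne.symm hi.2.2
  have xM := h.mem _ (by rw [h.on.det_sw kl, Units.val_neg, Units.val_one]; linear_combination -h2) (h.on.sw_mem kl)
  have yM := h'.mem _ (by simp [h'.on.det_sw kl, h'.on.det_sw mi]) (mul_mem (h'.on.sw_mem kl) (h'.on.sw_mem mi))
  have X := h.on.sw_e kl
  have X' := h.on.sw_apply kl
  have Y : ∀ d, (sw φ f k l * sw φ f m i).1 (f d) = f (Equiv.swap k l (Equiv.swap m i d)) := fun d => by
    rw [Isom.mul_apply, h'.on.sw_e mi, h'.on.sw_e kl]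
  set W := Submodule.span F {x | x ∈ [e k - e l, f k - f l, f m - f i]}
  have W4 : finrank F W ≤ 3 := finrank_span_list_le _
  have yW : sw φ f k l * sw φ f m i ∈ Dsp φ W := mul_mem (quasi_dsp (h'.on.cd_sw kl) (Submodule.subset_span (by simp)))
    (quasi_dsp (h'.on.cd_sw mi) (Submodule.subset_span (by simp)))
  have xW : sw φ e k l ∈ Dsp φ W := quasi_dsp (h.on.cd_sw kl) (Submodule.subset_span (by simp))
  generalize sw φ e k l = x at *
  generalize sw φ f k l * sw φ f m i = y at *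
  have x2 : x * x = 1 := h.on.ext' fun d => by simp [Isom.mul_apply, X]
  have y2 : y * y = 1 := h'.on.ext' fun d => by
    rw [Isom.mul_apply, Y, Y, Isom.one_apply]; congr 1; simp only [Equiv.swap_apply_def]; grind
  have Y1 : y.1 (f k) = f l := by rw [Y]; congr 1; simp only [Equiv.swap_apply_def]; grind
  obtain ⟨s, r⟩ | ⟨s, z1, z2, z3, z4, -⟩ := dih x2 y2
  · generalize (x * y) ^ s = g at r
    have H : ∀ v, ∃ c : F, y.1 v = v - c • g.1 (e k - e l) := fun v => ⟨_, by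
      rw [r, Isom.mul_apply, Isom.mul_apply, X', map_sub, map_smul, Isom.apply_inv_apply]⟩
    obtain ⟨c, u⟩ := H (f k)
    obtain ⟨c', u'⟩ := H (f m)
    rw [Y1] at u
    rw [show y.1 (f m) = f i by rw [Y]; congr 1; simp only [Equiv.swap_apply_def]; grind] at u'
    generalize g.1 (e k - e l) = w at *
    have a1 := congrArg (φ.B (f k)) u
    have a2 := congrArg (φ.B (f k)) u'
    have a3 := congrArg (φ.B (f m)) u'
    simp [h'.on.B, kl, mi, Ne.symm hm.1, Ne.symm hi.1] at a1 a2 a3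
    obtain rfl | a2 := a2
    · simp at a3
    · simp [a2] at a1
  have zM := pow_mem (mul_mem xM yM) s
  have zW := pow_mem (mul_mem xW yW) s
  generalize (x * y) ^ s = z at *
  have ze := h.cen2 h2 zM z3 kl (k := m) (by simp [X]) (by simp [X, Equiv.swap_apply_of_ne_of_ne, hm])
  have zf := h'.cen2 h2 zM z4 kl (k := j) Y1 (by simp [Y, Equiv.swap_apply_of_ne_of_ne, hj])
  obtain ⟨d, -, hd⟩ := h'.on.exists_fix zf zW ∅ (by simp; omega)
  obtain ⟨a, ha⟩ := not_forall.1 (mt (h.on.ext' (g := z) (g' := 1)) z1)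
  obtain ⟨b, hb⟩ := ze a
  refine h.on.meet (h'.e4 h2 h (x := z.1 (e a) - e a) (k := d) (i := a) (j := b) (sub_ne_zero.2 ha) ?_
    (by rw [map_sub, ← hd, Isom.B_map, hd, sub_self]) fun l s u => by simp [hb l u, h.on.B, s])
  have := Isom.B_map z (z.1 (e a)) (e a)
  rw [← Isom.mul_apply, z2, Isom.one_apply] at this
  rw [φ.Q_sub, Isom.Q_map, h.on.Q, h.hq.herm.T_eq, h.hq.herm.σ_B, this]
  linear_combination (1 - φ.B (z.1 (e a)) (e a)) * h2

theorem le_mn : M ≤ h.on.Mn := fun _ hg => h.mn hg ((em _).elim (h.even (h.map hg)) (h.odd (h.map hg)))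

end Fr
end H12.Fr
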