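import Mathlib
import Cfsg.Agent.L.Fz0

/-! Part `T` of the interface `L.Fz`: the 276 involutions are the pairs of a 24-set. -/

set_option autoImplicit false

namespace H12.Fz
universe u
open L.Fz

section A
variable {V : Type u} [CommGroup V] {D P : Set V} {t s r w x y v : V}

structure Hp (D : Set V) : Prop where
  sq : ∀ x : V, x * x = 1
  n1 : (1 : V) ∉ D
  one : ∀ t ∈ D, ∀ s ∈ D, ∀ r ∈ D, s * t ∈ D → r * t ∈ D → r ≠ s → r ≠ s * t → (s * r ∈ D ↔ s * r * t ∉ D)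
  tr : ∀ t ∈ D, ∀ s ∈ D, ∀ r ∈ D, ∀ w ∈ D, s * t ∈ D → r * t ∈ D → w * t ∈ D → r ≠ s * t → w ≠ s * t → r ≠ w →
    s * r ∈ D → s * w ∈ D → r * w ∈ D

def Nh (D : Set V) (t s : V) : Set V := {r | r ∈ D ∧ r * t ∈ D ∧ (r = s ∨ (s * r ∈ D ∧ r ≠ s * t))}

theorem Hp.cc (h : Hp D) (x y : V) : x * y * y = x := by rw [mul_assoc, h.sq, mul_one]

theorem Hp.dis (h : Hp D) (ht : t ∈ D) (hs : s ∈ D) (st : s * t ∈ D) (hr : r ∈ Nh D t s) : r * t ∉ Nh D t s := by
  rintro ⟨-, -, h2⟩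
  obtain ⟨r1, r2, r3⟩ := hr
  by_cases e : r = s
  · subst e
    rcases h2 with h2 | h2
    · exact h.n1 (by rwa [mul_eq_left.1 h2] at ht)
    · exact h2.2 rfl
  · obtain ⟨r3, r4⟩ := r3.resolve_left e
    rcases h2 with h2 | h2
    · exact r4 (by rw [← h2, h.cc])
    · exact (h.one t ht s hs r r1 st r2 e r4).1 r3 (by rw [mul_assoc]; exact h2.1)

theorem Hp.cov (h : Hp D) (ht : t ∈ D) (hs : s ∈ D) (st : s * t ∈ D) (r1 : r ∈ D) (r2 : r * t ∈ D) :
    r ∈ Nh D t s ∨ r * t ∈ Nh D t s := by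
  have r3 : r * t * t ∈ D := by rwa [h.cc]
  by_cases e : r = s
  · exact .inl ⟨r1, r2, .inl e⟩
  by_cases e' : r = s * t
  · exact .inr ⟨r2, r3, .inl (by rw [e', h.cc])⟩
  by_cases k : s * r ∈ D
  · exact .inl ⟨r1, r2, .inr ⟨k, e'⟩⟩
  · refine .inr ⟨r2, r3, .inr ⟨?_, fun e2 => e (mul_right_cancel e2)⟩⟩
    by_contra k2
    exact k ((h.one t ht s hs r r1 st r2 e e').2 (by rwa [mul_assoc]))

theorem Hp.card [Finite V] (h : Hp D) (ht : t ∈ D) (hs : s ∈ D) (st : s * t ∈ D)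
    (b : {s | s ∈ D ∧ s * t ∈ D}.ncard = 44) : (Nh D t s).ncard = 22 := by
  have e : {s | s ∈ D ∧ s * t ∈ D} = Nh D t s ∪ (· * t) '' Nh D t s := by
    ext r
    constructor
    · rintro ⟨r1, r2⟩
      rcases h.cov ht hs st r1 r2 with k | k
      · exact .inl k
      · exact .inr ⟨_, k, h.cc _ _⟩
    · rintro (k | ⟨q, k, rfl⟩)
      · exact ⟨k.1, k.2.1⟩
      · exact ⟨k.2.1, by simpa only [h.cc] using k.1⟩
  have dj : Disjoint (Nh D t s) ((· * t) '' Nh D t s) := by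
    rw [Set.disjoint_right]
    rintro _ ⟨q, k, rfl⟩
    exact h.dis ht hs st k
  rw [e, Set.ncard_union_eq dj, Set.ncard_image_of_injective _ (mul_left_injective t)] at b
  omega

theorem Hp.cl (h : Hp D) (ht : t ∈ D) (hs : s ∈ D) (st : s * t ∈ D) (hr : r ∈ Nh D t s) (hw : w ∈ Nh D t s)
    (n : r ≠ w) : r * w ∈ D := by
  obtain ⟨r1, r2, r3 | r3⟩ := hr <;> obtain ⟨w1, w2, w3 | w3⟩ := hw
  · exact absurd (r3.trans w3.symm) n
  · rw [r3]; exact w3.1
  · rw [w3, mul_comm]; exact r3.1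
  · exact h.tr t ht s hs r r1 w w1 st r2 w2 r3.2 w3.2 n r3.1 w3.1

structure Cl (D P : Set V) : Prop where
  sub : ∀ x ∈ P, x ∈ D
  cl : ∀ x ∈ P, ∀ y ∈ P, x ≠ y → x * y ∈ D
  tri : ∀ x ∈ P, ∀ y ∈ P, ∀ w ∈ P, x * y ≠ w

theorem Hp.mkCl (h : Hp D) (ht : t ∈ D) (hs : s ∈ D) (st : s * t ∈ D) : Cl D (insert t (Nh D t s)) := by
  have sub : ∀ x ∈ insert t (Nh D t s), x ∈ D := by
    rintro x (rfl | k)
    exacts [ht, k.1]
  refine ⟨sub, ?_, ?_⟩
  · rintro x (rfl | kx) y (rfl | ky) n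
    · exact absurd rfl n
    · rw [mul_comm]; exact ky.2.1
    · exact kx.2.1
    · exact h.cl ht hs st kx ky n
  · intro x hx y hy w hw e
    have n1 : x ≠ y := by rintro rfl; exact h.n1 (by rw [← h.sq x, e]; exact sub w hw)
    have n2 : x ≠ w := by rintro rfl; exact h.n1 (by rw [← mul_eq_left.1 e]; exact sub y hy)
    have n3 : y ≠ w := by rintro rfl; exact h.n1 (by rw [← mul_eq_right.1 e]; exact sub x hx)
    rcases hx with rfl | kx
    · exact h.dis ht hs st (hy.resolve_left n1.symm) (by rw [mul_comm, e]; exact hw.resolve_left n2.symm)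
    rcases hy with rfl | ky
    · exact h.dis ht hs st kx (by rw [e]; exact hw.resolve_left n3.symm)
    rcases hw with rfl | kw
    · exact h.dis ht hs st kx (by
        have : x * (x * y) = y := by rw [← mul_assoc, h.sq, one_mul]
        rw [e] at this; rw [this]; exact ky)
    · exact (h.one t ht x kx.1 y ky.1 kx.2.1 ky.2.1 n1.symm fun e2 => h.dis ht hs st kx (e2 ▸ ky)).1
        (h.cl ht hs st kx ky n1) (by rw [e]; exact kw.2.1)

theorem Hp.three (h : Hp D) (c : Cl D P) (hx : x ∈ P) (hy : y ∈ P) (hw : w ∈ P) (n1 : x ≠ y) (n2 : x ≠ w) (n3 : y ≠ w) :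
    x * y * w ∉ D ∧ x * y * w ≠ 1 :=
  ⟨(h.one w (c.sub w hw) x (c.sub x hx) y (c.sub y hy) (c.cl x hx w hw n2) (c.cl y hy w hw n3) n1.symm
    (c.tri x hx w hw y hy).symm).1 (c.cl x hx y hy n1), fun e => c.tri x hx y hy w hw (by rw [← h.cc (x * y) w, e, one_mul])⟩

theorem Hp.four (h : Hp D) (c : Cl D P) (hx : x ∈ P) (hy : y ∈ P) (hw : w ∈ P) (hv : v ∈ P) (n1 : x ≠ y) (n2 : x ≠ w)
    (n3 : x ≠ v) (n4 : y ≠ w) (n5 : y ≠ v) (n6 : w ≠ v) : x * y * (w * v) ∉ D ∧ x * y * (w * v) ≠ 1 := by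
  have e0 : x * (x * y) = y := by rw [← mul_assoc, h.sq, one_mul]
  refine ⟨fun k => ?_, fun k => ?_⟩
  · have := h.one (x * y) (c.cl x hx y hy n1) x (c.sub x hx) (w * v) (c.cl w hw v hv n6) (by rw [e0]; exact c.sub y hy)
      (by rwa [mul_comm]) (c.tri w hw v hv x hx) (by rw [e0]; exact c.tri w hw v hv y hy)
    refine (h.three c hx hw hv n2 n3 n6).1 ?_
    rw [mul_assoc]
    refine this.2 ?_
    have e : x * (w * v) * (x * y) = y * w * v := by rw [mul_right_comm, e0, mul_assoc]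
    rw [e]
    exact (h.three c hy hw hv n4 n5 n6).1
  · refine (h.three c hx hy hw n1 n2 n4).1 ?_
    rw [← h.cc (x * y * w) v, mul_assoc (x * y), k, one_mul]
    exact c.sub v hv

theorem Hp.q4 (h : Hp D) (c : Cl D P) (hx : x ∈ insert 1 P) (hy : y ∈ insert 1 P) (hw : w ∈ insert 1 P) (hv : v ∈ insert 1 P)
    (n1 : x ≠ y) (n2 : x ≠ w) (n3 : x ≠ v) (n4 : y ≠ w) (n5 : y ≠ v) (n6 : w ≠ v) :
    x * y * (w * v) ∉ D ∧ x * y * (w * v) ≠ 1 := by
  rcases hx with rfl | hx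
  · rw [one_mul, ← mul_assoc]
    exact h.three c (hy.resolve_left n1.symm) (hw.resolve_left n2.symm) (hv.resolve_left n3.symm) n4 n5 n6
  rcases hy with rfl | hy
  · rw [mul_one, ← mul_assoc]
    exact h.three c hx (hw.resolve_left n4.symm) (hv.resolve_left n5.symm) n2 n3 n6
  rcases hw with rfl | hw
  · rw [one_mul]
    exact h.three c hx hy (hv.resolve_left n6.symm) n1 n3 n5
  rcases hv with rfl | hv
  · rw [mul_one]
    exact h.three c hx hy hw n1 n2 n4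
  · exact h.four c hx hy hw hv n1 n2 n3 n4 n5 n6

theorem Hp.om [Finite V] (h : Hp D) (ht : t ∈ D) (b : {s | s ∈ D ∧ s * t ∈ D}.ncard = 44) :
    ∃ O : Set V, O.ncard = 24 ∧ (∀ x ∈ O, ∀ y ∈ O, x ≠ y → x * y ∈ D) ∧
      (∀ x ∈ O, ∀ y ∈ O, ∀ w ∈ O, ∀ v ∈ O, x ≠ y → x * y = w * v → x = w ∧ y = v ∨ x = v ∧ y = w) ∧
      ∀ x ∈ O, ∀ y ∈ O, ∀ w ∈ O, ∀ v ∈ O, x ≠ y → x ≠ w → x ≠ v → y ≠ w → y ≠ v → w ≠ v → x * y * (w * v) ∉ D := by
  obtain ⟨s, hs, st⟩ : {s | s ∈ D ∧ s * t ∈ D}.Nonempty := Set.nonempty_of_ncard_ne_zero (by omega)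
  have c := h.mkCl ht hs st
  refine ⟨insert 1 (insert t (Nh D t s)), ?_, ?_, ?_, fun x hx y hy w hw v hv a1 a2 a3 a4 a5 a6 =>
    (h.q4 c hx hy hw hv a1 a2 a3 a4 a5 a6).1⟩
  · rw [Set.ncard_insert_of_notMem (fun k => h.n1 (c.sub 1 k)),
      Set.ncard_insert_of_notMem (fun k => h.n1 (by rw [← h.sq t]; exact k.2.1)), h.card ht hs st b]
  · rintro x (rfl | hx) y (rfl | hy) n
    · exact absurd rfl n
    · rw [one_mul]; exact c.sub y hy
    · rw [mul_one]; exact c.sub x hx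
    · exact c.cl x hx y hy n
  · intro x hx y hy w hw v hv n e
    by_cases a : x = w
    · subst a; exact .inl ⟨rfl, mul_left_cancel e⟩
    by_cases a2 : x = v
    · subst a2; exact .inr ⟨rfl, mul_left_cancel (e.trans (mul_comm _ _))⟩
    by_cases a3 : y = w
    · subst a3; exact absurd (mul_right_cancel (e.trans (mul_comm _ _))) a2
    by_cases a4 : y = v
    · subst a4; exact absurd (mul_right_cancel e) a
    by_cases a5 : w = v
    · subst a5; exact absurd (by rw [← h.cc x y, e, h.sq, one_mul]) n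
    · exact absurd (by rw [e, h.sq]) (h.q4 c hx hy hw hv n a a2 a3 a4 a5).2

end A

section B
variable {G : Type u} [Group G] {D : Set G} {Ω : Type u} {τ : Ω → Ω → G}

structure T0 (D : Set G) (τ : Ω → Ω → G) : Prop where
  card : Nat.card Ω = 24
  refl : ∀ i, τ i i = 1
  mul : ∀ i j k, τ i j * τ j k = τ i k
  symm : ∀ i j, τ i j = τ j i
  mem : ∀ i j, i ≠ j → τ i j ∈ D
  inj : ∀ i j k l, i ≠ j → τ i j = τ k l → i = k ∧ j = l ∨ i = l ∧ j = k
  non : ∀ i j k l, i ≠ j → i ≠ k → i ≠ l → j ≠ k → j ≠ l → k ≠ l → τ i j * τ k l ∉ D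

theorem T0.surj [Finite G] (h : T0 D τ) (d : D.ncard = 276) : ∀ t ∈ D, ∃ i j, i ≠ j ∧ τ i j = t := by
  classical
  haveI : Finite Ω := Nat.finite_of_card_ne_zero (by rw [h.card]; norm_num)
  haveI := Fintype.ofFinite Ω
  let g : {a : Sym2 Ω // ¬ a.IsDiag} → D := fun a => ⟨Sym2.lift ⟨τ, h.symm⟩ a.1, by
    obtain ⟨a, ha⟩ := a
    induction a using Sym2.ind with
    | h i j => exact h.mem i j (by simpa using ha)⟩
  have gi : Function.Injective g := by
    rintro ⟨a, ha⟩ ⟨b, hb⟩ e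
    induction a using Sym2.ind with
    | h i j =>
    induction b using Sym2.ind with
    | h k l => exact Subtype.ext (Sym2.eq_iff.2 (h.inj i j k l (by simpa using ha) (congrArg Subtype.val e)))
  have := (gi.bijective_of_nat_card_le (by
    rw [Nat.card_coe_set_eq, d, Nat.card_eq_fintype_card, Sym2.card_subtype_not_diag, ← Nat.card_eq_fintype_card, h.card]
    decide)).2
  intro t ht
  obtain ⟨⟨a, ha⟩, e⟩ := this ⟨t, ht⟩
  induction a using Sym2.ind with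
  | h i j => exact ⟨i, j, by simpa using ha, congrArg Subtype.val e⟩

theorem T0.ex2 (h : T0 D τ) (i j : Ω) : ∃ k, k ≠ i ∧ k ≠ j := by
  classical
  haveI : Finite Ω := Nat.finite_of_card_ne_zero (by rw [h.card]; norm_num)
  haveI := Fintype.ofFinite Ω
  by_contra! k
  have : (Finset.univ : Finset Ω) ⊆ {i, j} := fun x _ => by
    by_cases e : x = i
    · simp [e]
    · simp [k x e]
  have := (Finset.card_le_card this).trans Finset.card_le_two
  rw [Finset.card_univ, ← Nat.card_eq_fintype_card, h.card] at this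
  omega

theorem T0.mul' (h : T0 D τ) (a b c : Ω) : τ a b * τ a c = τ b c := by rw [h.symm a b, h.mul]

theorem T0.share (h : T0 D τ) {a b c d : Ω} (n : a ≠ b) (n' : c ≠ d) (k : τ a b * τ c d ∈ D) :
    a = c ∨ a = d ∨ b = c ∨ b = d := by
  by_contra! e
  exact h.non a b c d n e.1 e.2.1 e.2.2.1 e.2.2.2 n' k

def R (τ : Ω → Ω → G) (φ : G ≃* G) (i a : Ω) : Prop := ∀ j, j ≠ i → ∃ b, b ≠ a ∧ φ (τ i j) = τ a b

theorem T0.uniq (h : T0 D τ) {φ : G ≃* G} {i a a' : Ω} (r : R τ φ i a) (r' : R τ φ i a') : a = a' := by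
  by_contra n
  have k : ∀ j, j ≠ i → φ (τ i j) = τ a a' := fun j hj => by
    obtain ⟨b, hb, e⟩ := r j hj
    obtain ⟨b', -, e'⟩ := r' j hj
    rcases h.inj a b a' b' hb.symm (e.symm.trans e') with q | q
    · exact absurd q.1 n
    · rw [e, q.2]
  obtain ⟨j, hj, -⟩ := h.ex2 i i
  obtain ⟨l, hl, hl'⟩ := h.ex2 i j
  rcases h.inj i j i l hj.symm (φ.injective ((k j hj).trans (k l hl).symm)) with q | q
  · exact hl' q.2.symm
  · exact hl q.1.symm

theorem T0.exR (h : T0 D τ) (su : ∀ t ∈ D, ∃ i j, i ≠ j ∧ τ i j = t) {φ : G ≃* G} (hφ : ∀ t ∈ D, φ t ∈ D) (i : Ω) :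
    ∃ a, R τ φ i a := by
  obtain ⟨j, hj, -⟩ := h.ex2 i i
  obtain ⟨l, hl, hl'⟩ := h.ex2 i j
  have adj : ∀ p q, p ≠ q → φ (τ i p) * φ (τ i q) ∈ D := fun p q n => by
    rw [← map_mul, h.mul']; exact hφ _ (h.mem p q n)
  obtain ⟨a, b, c, ab, ac, e1, e2⟩ : ∃ a b c, a ≠ b ∧ a ≠ c ∧ φ (τ i j) = τ a b ∧ φ (τ i l) = τ a c := by
    obtain ⟨a, b, n, e⟩ := su _ (hφ _ (h.mem i j hj.symm))
    obtain ⟨c, d, n', e'⟩ := su _ (hφ _ (h.mem i l hl.symm))
    rcases h.share n n' (by rw [e, e']; exact adj j l hl'.symm) with rfl | rfl | rfl | rfl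
    · exact ⟨a, b, d, n, n', e.symm, e'.symm⟩
    · exact ⟨a, b, c, n, n'.symm, e.symm, e'.symm.trans (h.symm _ _)⟩
    · exact ⟨b, a, d, n.symm, n', e.symm.trans (h.symm _ _), e'.symm⟩
    · exact ⟨b, a, c, n.symm, n'.symm, e.symm.trans (h.symm _ _), e'.symm.trans (h.symm _ _)⟩
  refine ⟨a, fun p hp => ?_⟩
  by_cases p1 : p = j
  · exact ⟨b, ab.symm, p1 ▸ e1⟩
  by_cases p2 : p = l
  · exact ⟨c, ac.symm, p2 ▸ e2⟩
  obtain ⟨x, y, n, e⟩ := su _ (hφ _ (h.mem i p hp.symm))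
  by_cases x1 : x = a
  · subst x1; exact ⟨y, n.symm, e.symm⟩
  by_cases y1 : y = a
  · subst y1; exact ⟨x, n, e.symm.trans (h.symm _ _)⟩
  exfalso
  have s1 := h.share n ab (by rw [e, ← e1]; exact adj p j p1)
  have s2 := h.share n ac (by rw [e, ← e2]; exact adj p l p2)
  have bc : b ≠ c := by
    rintro rfl
    rcases h.inj i j i l hj.symm (φ.injective (e1.trans e2.symm)) with q | q
    · exact hl' q.2.symm
    · exact hl q.1.symm
  have e3 : τ x y = τ b c := by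
    rcases s1 with s | s | s | s
    · exact absurd s x1
    · rcases s2 with q | q | q | q
      · exact absurd q x1
      · exact absurd (s.symm.trans q) bc
      · exact absurd q y1
      · rw [s, q]
    · exact absurd s y1
    · rcases s2 with q | q | q | q
      · exact absurd q x1
      · rw [s, q, h.symm]
      · exact absurd q y1
      · exact absurd (s.symm.trans q) bc
  have : τ i p = τ j l := φ.injective (by rw [← e, e3, ← h.mul' a, ← e1, ← e2, ← map_mul, h.mul'])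
  rcases h.inj i p j l hp.symm this with q | q
  · exact hj q.1.symm
  · exact hl q.1.symm

theorem T0.act (h : T0 D τ) {φ : G ≃* G} {f : Ω → Ω} (r : ∀ i, R τ φ i (f i)) (i j : Ω) : φ (τ i j) = τ (f i) (f j) := by
  by_cases n : i = j
  · rw [n, h.refl, h.refl, map_one]
  obtain ⟨b, hb, e⟩ := r i j (Ne.symm n)
  obtain ⟨b', hb', e'⟩ := r j i n
  rcases h.inj _ _ _ _ hb.symm (e.symm.trans ((congrArg φ (h.symm i j)).trans e')) with q | q
  · exfalso
    obtain ⟨k, k1, k2⟩ := h.ex2 i j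
    obtain ⟨c, hc, g⟩ := r i k k1
    obtain ⟨c', hc', g'⟩ := r j k k2
    have : τ (f j) c' = τ b c := by rw [← g', ← h.mul' i j k, map_mul, e, g, h.mul']
    rcases h.inj _ _ _ _ hc'.symm this with p | p
    · exact hb (p.1.symm.trans q.1.symm)
    · exact hc (p.1.symm.trans q.1.symm)
  · rw [e, q.2]

theorem T0.tr (h : T0 D τ) (su : ∀ t ∈ D, ∃ i j, i ≠ j ∧ τ i j = t) {M : Subgroup G}
    (Dc : ∀ m ∈ M, ∀ t ∈ D, m * t * m⁻¹ ∈ D) : ∃ σ : M →* Equiv.Perm Ω, Tr M D τ σ := by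
  choose f hf using fun (m : M) (i : Ω) => h.exR su (φ := MulAut.conj (m : G)) (fun t ht => Dc m m.2 t ht) i
  have ac : ∀ (m : M) i j, (m : G) * τ i j * (m : G)⁻¹ = τ (f m i) (f m j) := fun m => h.act (hf m)
  have fi : ∀ (m : M) i j, i ≠ j → f m j ≠ f m i := fun m i j n e => by
    have := ac m i j
    rw [e, h.refl] at this
    have t1 : τ i j = τ i i := by rw [h.refl]; simpa [mul_inv_eq_one] using this
    rcases h.inj i j i i n t1 with q | q <;> exact n q.2.symm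
  letI : MulAction M Ω :=
    { smul := f
      one_smul := fun i => h.uniq (hf 1 i) fun j hj => ⟨j, hj, by simp⟩
      mul_smul := fun m n i => h.uniq (hf (m * n) i) fun j hj =>
        ⟨f m (f n j), fi m _ _ (fi n i j hj.symm).symm, by
          show _ = τ (f m (f n i)) _
          rw [← ac, ← ac]; simp [mul_assoc]⟩ }
  exact ⟨MulAction.toPermHom M Ω, h.card, h.refl, h.mul, h.symm, h.mem, su, h.inj, h.non, ac⟩

end B

theorem t : TStmt.{u} := by
  intro G _ _ A M B D z c n x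
  have cm : ∀ a b : A, a * b = b * a := fun a b => Subtype.ext (by
    have h1 := c.sq _ (a * b).2
    have h2 := c.sq _ a.2
    have h3 := c.sq _ b.2
    simp only [Subgroup.coe_mul] at h1 ⊢
    rw [← inv_eq_of_mul_eq_one_right h1, mul_inv_rev, inv_eq_of_mul_eq_one_right h2, inv_eq_of_mul_eq_one_right h3])
  letI : CommGroup A := { (inferInstance : Group A) with mul_comm := cm }
  have sq : ∀ a : A, a * a = 1 := fun a => Subtype.ext (c.sq _ a.2)
  have hp : Hp (Subtype.val ⁻¹' D : Set A) :=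
    ⟨sq, fun k => (c.DA 1 k).2 rfl, fun t ht s hs r hr a b e e' =>
      x.one t ht s hs r hr a b (fun q => e (Subtype.ext q)) (fun q => e' (Subtype.ext q)),
      fun t ht s hs r hr w hw a b d e e' e'' =>
      x.tr t ht s hs r hr w hw a b d (fun q => e (Subtype.ext q)) (fun q => e' (Subtype.ext q)) (fun q => e'' (Subtype.ext q))⟩
  obtain ⟨t, ht, -⟩ := c.exD
  obtain ⟨O, o1, o2, o3, o4⟩ := hp.om (t := ⟨t, (c.DA t ht).1⟩) ht (by
    rw [← n.b t ht, ← Set.ncard_image_of_injective _ Subtype.val_injective]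
    congr 1
    ext s
    exact ⟨by rintro ⟨s, k, rfl⟩; exact k, fun k => ⟨⟨s, (c.DA s k.1).1⟩, k, rfl⟩⟩)
  have h : T0 D fun i j : O => ((i.1 * j.1 : A) : G) :=
    ⟨o1, fun i => congrArg Subtype.val (sq i.1), fun i j k => congrArg Subtype.val (show i.1 * j.1 * (j.1 * k.1) = i.1 * k.1 by
        rw [← mul_assoc, hp.cc]), fun i j => congrArg Subtype.val (cm _ _),
      fun i j e => o2 _ i.2 _ j.2 fun q => e (Subtype.ext q),
      fun i j k l e q => by
        simpa only [Subtype.ext_iff] using o3 _ i.2 _ j.2 _ k.2 _ l.2 (fun q => e (Subtype.ext q)) (Subtype.ext q),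
      fun i j k l a1 a2 a3 a4 a5 a6 => o4 _ i.2 _ j.2 _ k.2 _ l.2 (fun q => a1 (Subtype.ext q)) (fun q => a2 (Subtype.ext q))
        (fun q => a3 (Subtype.ext q)) (fun q => a4 (Subtype.ext q)) (fun q => a5 (Subtype.ext q)) (fun q => a6 (Subtype.ext q))⟩
  obtain ⟨σ, hσ⟩ := h.tr (h.surj n.d) c.Dc
  exact ⟨O, _, σ, hσ⟩

end H12.Fz
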