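import Cfsg.Agent.H12.InvC

/-! Certificates for the classes of involutions of `E6(q)`, `q` even. -/

namespace H12.Inv
open Cfsg Cfsg.Lie H11 H11.StSys H12.Lie
set_option maxRecDepth 100000

/-- certificates for the subsets of nodes -/
def invE6C : List (List ℕ × List (Bool × List ℕ × List ℕ)) := [
  ([71, 60, 44, 39], [(true, [0, 2, 3, 4, 5, 1, 3, 4, 2, 3, 0, 2, 1, 3, 4, 5, 1, 3, 4, 2, 3, 0, 2, 1, 3, 4, 2, 3, 0, 2, 1, 3, 0, 2, 1, 0], [71, 60, 44, 39])]),
  ([], []),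
  ([69, 65, 53], [(true, [3, 4, 5, 1, 3, 4, 2, 3, 0, 2, 1, 3, 4, 5, 3, 4, 2, 3, 0, 2, 1, 3, 4, 2, 3, 0, 2, 1, 3, 0, 2, 0], [55, 65, 67])]),
  ([], []),
  ([], []),
  ([], []),
  ([], []),
  ([], []),
  ([71, 60, 44], [(true, [3, 4, 5, 1, 3, 4, 2, 3, 0, 2, 1, 3, 4, 5, 3, 4, 2, 3, 0, 2, 1, 3, 4, 3, 2, 1, 3, 0, 2, 0], [55, 65, 67])]),
  ([], []),
  ([70, 63, 51], []),
  ([], []),
  ([], []),
  ([], []),
  ([], []),
  ([], []),
  ([], []),
  ([], []),
  ([], []),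
  ([], []),
  ([71, 60, 43, 40], []),
  ([], []),
  ([68, 66, 53], []),
  ([], []),
  ([], []),
  ([], []),
  ([], []),
  ([], []),
  ([71, 60], [(true, [0, 2, 3, 4, 5, 1, 3, 4, 2, 3, 0, 2, 1, 3, 4, 5, 0, 2, 1, 3, 4, 2, 1, 3, 2, 1, 0], [68, 66])]),
  ([], []),
  ([68, 66], []),
  ([], []),
  ([], []),
  ([71, 59, 45, 39], []),
  ([], []),
  ([69, 64, 54], []),
  ([], []),
  ([], []),
  ([], []),
  ([], []),
  ([], []),
  ([71, 59, 45], []),
  ([], []),
  ([70, 62, 52], []),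
  ([], []),
  ([], []),
  ([], []),
  ([], []),
  ([], []),
  ([], []),
  ([], []),
  ([], []),
  ([], []),
  ([71, 58, 44, 41], []),
  ([], []),
  ([67, 65, 55], []),
  ([], []),
  ([], []),
  ([], []),
  ([], []),
  ([], []),
  ([71], [(true, [1, 3, 4, 2, 3, 0, 2, 1, 3, 4, 5, 4, 3, 2, 1, 3, 4, 0, 2, 3, 1], [71])]),
  ([], []),
  ([], [])]
/-- programs for the classes of involutions of the Weyl group -/
def invE6Z : List (List ℕ × List (Bool × List ℕ × List ℕ)) := [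
  ([], []),
  ([71], []),
  ([68, 66], []),
  ([55, 65, 67], []),
  ([71, 60, 44, 39], [(true, [4, 5, 4, 2, 3, 0, 2, 1, 3, 4, 1, 3, 2, 1, 0], [47, 43, 40, 51]), (false, [50, 37, 42, 46], [47, 43, 40]), (true, [4, 3, 0, 2, 1, 3, 4, 5, 3, 4, 0, 2, 1, 0], [55, 65, 67])])]
/-- representatives and ranks -/
def invE6T : List (List ℕ × List ℕ) := [([71], [143, 0, 93, 95, 97, 99, 101, 103, 105, 107, 109, 111, 123, 125, 127, 129, 131, 133, 135, 137, 139, 141]),
  ([68, 66], [133, 137, 43, 57, 59, 8, 73, 0, 75, 77, 81, 83, 91, 97, 99, 105, 109, 111, 113, 115, 117, 121, 119, 123, 127, 131, 125, 129, 135, 139, 141, 143]),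
  ([55, 65, 67], [111, 135, 131, 21, 27, 29, 59, 0, 31, 4, 73, 79, 87, 83, 95, 101, 99, 107, 109, 2, 75, 77, 81, 89, 119, 141, 91, 121, 97, 103, 125, 129, 143, 105, 127, 137, 133, 139])]
theorem invE6_0 : chkA fastE6 [71, 60, 44, 39] 0 = true := by decide +kernel
theorem invE6_c0 : allLt 64 (fun i => chkI fastE6 id id (invE6Z.map Prod.fst) [71, 60, 44, 39] (i + 0)
    (invE6C.getD (i + 0) ([], []))) = true := by decide +kernel
theorem invE6_c : ∀ i < 64, chkI fastE6 id id (invE6Z.map Prod.fst) [71, 60, 44, 39] i (invE6C.getD i ([], [])) = true := by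
  intro i hi
  exact allLt_spec invE6_c0 hi
theorem invE6_z : (invE6Z.all fun p => chkP fastE6 id id ([] :: invE6T.map Prod.fst) p.2 p.1) = true := by
  decide +kernel
theorem invE6_r : (invE6T.all fun p => rkc fastE6 p.2 (cols fastE6 p.1)) = true := by decide +kernel
theorem invE6_s : (invE6T.all fun p => eqv fastE6 (p.1 ++ p.1) [] && Nat.blt 0 p.2.length) = true := by decide +kernel

end H12.Inv
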