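import Cfsg.Agent.H12.InvC

/-! Certificates for the classes of involutions of `E7(q)`, `q` even. -/

namespace H12.Inv
open Cfsg Cfsg.Lie H11 H11.StSys H12.Lie
set_option maxRecDepth 100000

/-- certificates for the subsets of nodes -/
def invE7C : List (List ℕ × List (Bool × List ℕ × List ℕ)) := [
  ([125, 92, 87, 78, 73, 66, 63], [(true, [6, 5, 4, 3, 2, 1, 3, 4, 5, 6, 0, 2, 3, 4, 5, 1, 3, 4, 2, 3, 0, 2, 1, 3, 4, 5, 6, 0, 2, 3, 4, 5, 1, 3, 4, 2, 3, 0, 2, 1, 3, 4, 5, 1, 3, 4, 2, 3, 0, 2, 1, 3, 4, 2, 3, 0, 2, 1, 3, 0, 2, 1, 0], [125, 92, 87, 78, 73, 66, 63])]),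
  ([123, 114, 109, 78, 66, 63], [(true, [6, 5, 4, 3, 2, 1, 3, 4, 5, 6, 0, 2, 3, 4, 5, 1, 3, 4, 2, 3, 0, 2, 1, 3, 4, 5, 6, 0, 2, 3, 4, 5, 1, 3, 4, 2, 3, 0, 2, 1, 3, 4, 5, 1, 3, 4, 2, 3, 0, 2, 1, 3, 4, 2, 3, 0, 2, 1, 3, 0, 2, 1], [123, 114, 109, 78, 66, 63])]),
  ([125, 92, 66, 73, 87, 63], [(true, [6, 5, 4, 3, 2, 1, 3, 4, 5, 6, 0, 2, 3, 4, 5, 1, 3, 4, 2, 3, 0, 2, 1, 3, 4, 5, 6, 0, 2, 3, 4, 5, 1, 3, 4, 2, 3, 0, 2, 1, 3, 4, 5, 1, 3, 4, 2, 3, 0, 2, 1, 3, 4, 0, 2, 0], [123, 114, 109, 78, 66, 63])]),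
  ([123, 114, 109, 66, 63], [(true, [6, 5, 4, 3, 2, 1, 3, 4, 5, 6, 0, 2, 3, 4, 5, 1, 3, 4, 2, 3, 0, 2, 1, 3, 4, 5, 6, 0, 2, 3, 4, 5, 1, 3, 4, 2, 3, 0, 2, 1, 3, 4, 5, 1, 3, 4, 2, 3, 0, 2, 1, 3, 4, 2, 3, 0, 2, 1, 3, 0, 2], [123, 114, 109, 66, 63])]),
  ([125, 92, 87, 78, 66, 63], [(true, [6, 5, 4, 3, 2, 1, 3, 4, 5, 6, 0, 2, 3, 4, 5, 1, 3, 4, 2, 3, 0, 2, 1, 3, 4, 5, 6, 0, 2, 3, 4, 5, 1, 3, 4, 2, 3, 0, 2, 1, 3, 4, 5, 1, 3, 4, 2, 3, 0, 2, 1, 3, 4, 2, 3, 0, 2, 1, 3, 1], [123, 114, 109, 78, 66, 63])]),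
  ([124, 108, 103, 78, 66, 63], []),
  ([125, 92, 87, 66, 63], [(true, [6, 5, 4, 3, 2, 1, 3, 4, 5, 6, 0, 2, 3, 4, 5, 1, 3, 4, 2, 3, 0, 2, 1, 3, 4, 5, 6, 0, 2, 3, 4, 5, 1, 3, 4, 2, 3, 0, 2, 1, 3, 4, 5, 1, 3, 4, 2, 3, 0, 2, 1, 3, 4, 2, 3, 0, 2, 1, 3], [123, 114, 109, 66, 63])]),
  ([124, 108, 103, 66, 63], []),
  ([125, 92, 80, 83, 75, 63], [(true, [6, 5, 4, 3, 2, 1, 3, 4, 5, 6, 0, 2, 3, 4, 5, 1, 3, 4, 2, 3, 0, 2, 1, 3, 4, 5, 6, 0, 2, 3, 4, 5, 1, 3, 4, 2, 3, 0, 2, 1, 3, 4, 5, 1, 3, 4, 2, 3, 0, 2, 1, 3, 4, 0, 2, 3, 1, 0], [123, 114, 109, 78, 66, 63])]),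
  ([118, 121, 109, 80, 63], [(true, [6, 5, 4, 3, 2, 1, 3, 4, 5, 6, 0, 2, 3, 4, 5, 1, 3, 4, 2, 3, 0, 2, 1, 3, 4, 5, 6, 0, 2, 3, 4, 5, 1, 3, 4, 2, 3, 0, 2, 1, 3, 4, 5, 1, 3, 4, 2, 3, 0, 2, 1, 3, 4, 3, 2, 1, 3, 0, 2], [123, 114, 109, 66, 63])]),
  ([125, 92, 84, 74, 70, 63], []),
  ([122, 117, 109, 70, 63], []),
  ([125, 92, 84, 79, 70, 63], []),
  ([121, 118, 100, 87, 63], []),
  ([125, 92, 80, 75, 63], []),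
  ([123, 114, 96, 84, 63], []),
  ([125, 92, 78, 87, 73, 63], [(true, [6, 5, 4, 3, 2, 1, 3, 4, 5, 6, 0, 2, 3, 4, 5, 1, 3, 4, 2, 3, 0, 2, 1, 3, 4, 5, 6, 0, 2, 3, 4, 5, 1, 3, 4, 2, 3, 0, 2, 1, 3, 4, 5, 4, 3, 2, 1, 3, 4, 0, 2, 3, 0, 2, 1, 0], [123, 114, 109, 78, 66, 63])]),
  ([114, 123, 109, 78, 63], [(true, [6, 5, 4, 3, 2, 1, 3, 4, 5, 6, 0, 2, 3, 4, 5, 1, 3, 4, 2, 3, 0, 2, 1, 3, 4, 5, 6, 0, 2, 3, 4, 5, 1, 3, 4, 2, 3, 0, 2, 1, 3, 4, 5, 2, 3, 0, 2, 1, 3, 4, 3, 2, 1, 3, 0, 2, 1], [123, 114, 109, 66, 63])]),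
  ([63, 125, 87, 73, 92], [(true, [6, 5, 4, 3, 2, 1, 3, 4, 5, 6, 0, 2, 3, 4, 5, 1, 3, 4, 2, 3, 0, 2, 1, 3, 4, 5, 6, 4, 5, 3, 4, 2, 3, 0, 2, 1, 3, 4, 2, 3, 0, 2, 1, 3, 0, 2, 0], [123, 114, 109, 66, 63])]),
  ([123, 114, 109, 63], [(true, [6, 5, 4, 3, 2, 1, 3, 4, 5, 6, 0, 2, 3, 4, 5, 1, 3, 4, 2, 3, 0, 2, 1, 3, 4, 5, 6, 0, 2, 3, 4, 5, 1, 3, 4, 2, 3, 0, 2, 1, 3, 4, 5, 3, 4, 2, 3, 0, 2, 1, 3, 4, 2, 3, 0, 2, 1, 3, 0, 2], [123, 114, 109, 63])]),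
  ([92, 125, 87, 78, 63], [(true, [6, 5, 4, 3, 2, 1, 3, 4, 5, 6, 0, 2, 3, 4, 5, 1, 3, 4, 2, 3, 0, 2, 1, 3, 4, 5, 6, 0, 2, 3, 4, 5, 1, 3, 4, 2, 3, 0, 2, 1, 3, 4, 5, 2, 3, 0, 2, 1, 3, 4, 3, 2, 1, 3, 1], [123, 114, 109, 66, 63])]),
  ([124, 108, 103, 78, 63], []),
  ([125, 92, 87, 63], [(true, [6, 5, 4, 3, 2, 1, 3, 4, 5, 6, 0, 2, 3, 4, 5, 1, 3, 4, 2, 3, 0, 2, 1, 3, 4, 5, 6, 0, 2, 3, 4, 5, 1, 3, 4, 2, 3, 0, 2, 1, 3, 4, 5, 3, 4, 2, 3, 0, 2, 1, 3, 4, 2, 3, 0, 2, 1, 3], [123, 114, 109, 63])]),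
  ([124, 108, 103, 63], []),
  ([125, 92, 84, 79, 74, 63], []),
  ([122, 117, 109, 79, 63], []),
  ([125, 92, 83, 75, 63], []),
  ([121, 118, 109, 63], []),
  ([125, 92, 83, 80, 63], []),
  ([123, 114, 99, 84, 63], []),
  ([125, 92, 63], [(true, [6, 5, 4, 3, 2, 1, 3, 4, 5, 6, 0, 2, 3, 4, 5, 1, 3, 4, 2, 3, 0, 2, 1, 3, 4, 5, 6, 0, 2, 3, 4, 5, 1, 3, 4, 2, 3, 0, 2, 1, 3, 4, 5, 0, 2, 3, 4, 1, 3, 2, 0], [125, 92, 63])]),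
  ([121, 118, 63], []),
  ([125, 89, 78, 90, 73, 68], [(true, [6, 5, 4, 3, 2, 1, 3, 4, 5, 6, 0, 2, 3, 4, 5, 1, 3, 4, 2, 3, 0, 2, 1, 3, 4, 5, 6, 1, 3, 4, 2, 3, 0, 2, 1, 3, 4, 5, 4, 3, 2, 1, 3, 4, 2, 3, 0, 2, 1, 3, 0, 2, 1, 0], [123, 114, 109, 78, 66, 63])]),
  ([111, 123, 112, 78, 68], [(true, [6, 5, 4, 3, 2, 1, 3, 4, 5, 6, 0, 2, 3, 4, 5, 1, 3, 4, 2, 3, 0, 2, 1, 3, 4, 5, 6, 4, 5, 3, 4, 2, 3, 0, 2, 1, 3, 4, 5, 2, 3, 0, 2, 1, 3, 4, 2, 3, 0, 2, 1, 3, 0, 2, 1], [123, 114, 109, 66, 63])]),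
  ([68, 125, 90, 73, 89], [(true, [6, 5, 4, 3, 2, 1, 3, 4, 5, 6, 0, 2, 3, 4, 5, 1, 3, 4, 2, 3, 0, 2, 1, 3, 4, 5, 6, 4, 5, 3, 4, 2, 3, 0, 2, 1, 3, 4, 5, 2, 3, 0, 2, 1, 3, 4, 0, 2, 0], [123, 114, 109, 66, 63])]),
  ([123, 111, 112, 68], [(true, [6, 5, 4, 3, 2, 1, 3, 4, 5, 6, 0, 2, 3, 4, 5, 1, 3, 4, 2, 3, 0, 2, 1, 3, 4, 5, 6, 3, 4, 5, 1, 3, 4, 2, 3, 0, 2, 1, 3, 4, 5, 3, 4, 2, 3, 0, 2, 1, 3, 4, 2, 3, 0, 2, 1, 3, 0, 2], [123, 114, 109, 63])]),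
  ([89, 125, 90, 78, 68], [(true, [6, 5, 4, 3, 2, 1, 3, 4, 5, 6, 0, 2, 3, 4, 5, 1, 3, 4, 2, 3, 0, 2, 1, 3, 4, 5, 6, 4, 5, 3, 4, 2, 3, 0, 2, 1, 3, 4, 5, 2, 3, 0, 2, 1, 3, 4, 2, 3, 0, 2, 1, 3, 1], [123, 114, 109, 66, 63])]),
  ([124, 106, 105, 78, 68], []),
  ([125, 89, 90, 68], [(true, [6, 5, 4, 3, 2, 1, 3, 4, 5, 6, 0, 2, 3, 4, 5, 1, 3, 4, 2, 3, 0, 2, 1, 3, 4, 5, 6, 3, 4, 5, 1, 3, 4, 2, 3, 0, 2, 1, 3, 4, 5, 3, 4, 2, 3, 0, 2, 1, 3, 4, 2, 3, 0, 2, 1, 3], [123, 114, 109, 63])]),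
  ([124, 106, 105, 68], []),
  ([82, 125, 90, 83, 77], [(true, [6, 5, 4, 3, 2, 1, 3, 4, 5, 6, 0, 2, 3, 4, 5, 1, 3, 4, 2, 3, 0, 2, 1, 3, 4, 5, 6, 4, 5, 3, 4, 2, 3, 0, 2, 1, 3, 4, 5, 2, 3, 0, 2, 1, 3, 4, 0, 2, 3, 1, 0], [123, 114, 109, 66, 63])]),
  ([118, 111, 119, 82], [(true, [6, 5, 4, 3, 2, 1, 3, 4, 5, 6, 0, 2, 3, 4, 5, 1, 3, 4, 2, 3, 0, 2, 1, 3, 4, 5, 6, 3, 4, 5, 1, 3, 4, 2, 3, 0, 2, 1, 3, 4, 5, 3, 4, 2, 3, 0, 2, 1, 3, 4, 3, 2, 1, 3, 0, 2], [123, 114, 109, 63])]),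
  ([125, 90, 86, 74, 72], []),
  ([122, 115, 111, 72], []),
  ([125, 90, 86, 79, 72], []),
  ([119, 118, 102, 89], []),
  ([125, 90, 82, 77], []),
  ([123, 112, 98, 86], []),
  ([125, 91, 88, 78, 73, 65], []),
  ([123, 113, 110, 78, 65], []),
  ([125, 91, 88, 73, 65], []),
  ([123, 113, 110, 65], []),
  ([125, 91, 88, 78, 65], []),
  ([124, 107, 104, 78, 65], []),
  ([125, 91, 88, 65], []),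
  ([124, 107, 104, 65], []),
  ([125, 87, 85, 82, 77], []),
  ([119, 116, 114, 82], []),
  ([125, 89, 84, 76, 68], []),
  ([120, 117, 112, 68], []),
  ([125, 89, 84, 81, 68], []),
  ([119, 111, 107, 92], []),
  ([125, 82, 77], []),
  ([111, 107, 92], []),
  ([125, 87, 78, 92, 73, 66], [(true, [1, 3, 4, 5, 6, 2, 3, 4, 5, 1, 3, 4, 2, 3, 0, 2, 1, 3, 4, 5, 6, 1, 3, 4, 2, 3, 0, 2, 1, 3, 4, 5, 1, 3, 4, 2, 3, 0, 2, 1, 3, 4, 2, 3, 0, 2, 1, 3, 0, 2, 1, 0], [123, 114, 109, 78, 66, 63])]),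
  ([109, 123, 114, 78, 66], [(true, [2, 3, 4, 5, 6, 0, 2, 3, 4, 5, 1, 3, 4, 2, 3, 0, 2, 1, 3, 4, 5, 6, 4, 5, 3, 4, 2, 3, 0, 2, 1, 3, 4, 5, 1, 3, 4, 2, 3, 0, 2, 1, 3, 4, 2, 3, 0, 2, 1, 3, 0, 2, 1], [123, 114, 109, 66, 63])]),
  ([66, 125, 92, 73, 87], [(true, [2, 3, 4, 5, 6, 0, 2, 3, 4, 5, 1, 3, 4, 2, 3, 0, 2, 1, 3, 4, 5, 6, 4, 5, 3, 4, 2, 3, 0, 2, 1, 3, 4, 5, 1, 3, 4, 2, 3, 0, 2, 1, 3, 4, 0, 2, 0], [123, 114, 109, 66, 63])]),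
  ([123, 109, 114, 66], [(true, [3, 2, 1, 3, 4, 5, 6, 0, 2, 3, 4, 5, 1, 3, 4, 2, 3, 0, 2, 1, 3, 4, 5, 6, 3, 4, 5, 1, 3, 4, 2, 3, 0, 2, 1, 3, 4, 5, 1, 3, 4, 2, 3, 0, 2, 1, 3, 4, 2, 3, 0, 2, 1, 3, 0, 2], [123, 114, 109, 63])]),
  ([87, 125, 92, 78, 66], [(true, [2, 3, 4, 5, 6, 0, 2, 3, 4, 5, 1, 3, 4, 2, 3, 0, 2, 1, 3, 4, 5, 6, 4, 5, 3, 4, 2, 3, 0, 2, 1, 3, 4, 5, 1, 3, 4, 2, 3, 0, 2, 1, 3, 4, 2, 3, 0, 2, 1, 3, 1], [123, 114, 109, 66, 63])]),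
  ([124, 108, 103, 78, 66], []),
  ([125, 87, 92, 66], [(true, [3, 2, 1, 3, 4, 5, 6, 0, 2, 3, 4, 5, 1, 3, 4, 2, 3, 0, 2, 1, 3, 4, 5, 6, 3, 4, 5, 1, 3, 4, 2, 3, 0, 2, 1, 3, 4, 5, 1, 3, 4, 2, 3, 0, 2, 1, 3, 4, 2, 3, 0, 2, 1, 3], [123, 114, 109, 63])]),
  ([124, 108, 103, 66], []),
  ([80, 125, 92, 83, 75], [(true, [2, 3, 4, 5, 6, 0, 2, 3, 4, 5, 1, 3, 4, 2, 3, 0, 2, 1, 3, 4, 5, 6, 4, 5, 3, 4, 2, 3, 0, 2, 1, 3, 4, 5, 1, 3, 4, 2, 3, 0, 2, 1, 3, 4, 0, 2, 3, 1, 0], [123, 114, 109, 66, 63])]),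
  ([118, 109, 121, 80], [(true, [3, 2, 1, 3, 4, 5, 6, 0, 2, 3, 4, 5, 1, 3, 4, 2, 3, 0, 2, 1, 3, 4, 5, 6, 3, 4, 5, 1, 3, 4, 2, 3, 0, 2, 1, 3, 4, 5, 1, 3, 4, 2, 3, 0, 2, 1, 3, 4, 3, 2, 1, 3, 0, 2], [123, 114, 109, 63])]),
  ([125, 92, 84, 74, 70], []),
  ([122, 117, 109, 70], []),
  ([125, 92, 84, 79, 70], []),
  ([121, 118, 100, 87], []),
  ([125, 92, 80, 75], []),
  ([123, 114, 96, 84], []),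
  ([78, 125, 92, 87, 73], [(true, [2, 3, 4, 5, 6, 0, 2, 3, 4, 5, 1, 3, 4, 2, 3, 0, 2, 1, 3, 4, 5, 6, 4, 5, 3, 4, 2, 3, 0, 2, 1, 3, 4, 5, 4, 3, 2, 1, 3, 4, 0, 2, 3, 0, 2, 1, 0], [123, 114, 109, 66, 63])]),
  ([114, 109, 123, 78], [(true, [3, 2, 1, 3, 4, 5, 6, 0, 2, 3, 4, 5, 1, 3, 4, 2, 3, 0, 2, 1, 3, 4, 5, 6, 3, 4, 5, 1, 3, 4, 2, 3, 0, 2, 1, 3, 4, 5, 2, 3, 0, 2, 1, 3, 4, 3, 2, 1, 3, 0, 2, 1], [123, 114, 109, 63])]),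
  ([125, 92, 87, 73], [(true, [5, 4, 3, 2, 1, 3, 4, 5, 6, 0, 2, 3, 4, 5, 1, 3, 4, 2, 3, 0, 2, 1, 3, 4, 5, 6, 0, 2, 3, 4, 5, 1, 3, 4, 2, 3, 0, 2, 1, 3, 4, 5, 3, 4, 2, 3, 0, 2, 1, 3, 4, 2, 3, 0, 2, 1, 3, 0, 2, 0], [125, 92, 87, 73])]),
  ([123, 114, 109], [(true, [5, 4, 3, 2, 1, 3, 4, 5, 6, 0, 2, 3, 4, 5, 1, 3, 4, 2, 3, 0, 2, 1, 3, 4, 5, 6, 0, 2, 3, 4, 5, 1, 3, 4, 2, 3, 0, 2, 1, 3, 4, 5, 3, 4, 2, 3, 0, 2, 1, 3, 4, 2, 3, 0, 2, 1, 3, 0, 2], [123, 114, 109])]),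
  ([92, 87, 125, 78], [(true, [3, 2, 1, 3, 4, 5, 6, 0, 2, 3, 4, 5, 1, 3, 4, 2, 3, 0, 2, 1, 3, 4, 5, 6, 3, 4, 5, 1, 3, 4, 2, 3, 0, 2, 1, 3, 4, 5, 2, 3, 0, 2, 1, 3, 4, 3, 2, 1, 3, 1], [123, 114, 109, 63])]),
  ([124, 108, 103, 78], []),
  ([125, 92, 87], [(true, [5, 4, 3, 2, 1, 3, 4, 5, 6, 0, 2, 3, 4, 5, 1, 3, 4, 2, 3, 0, 2, 1, 3, 4, 5, 6, 0, 2, 3, 4, 5, 1, 3, 4, 2, 3, 0, 2, 1, 3, 4, 5, 3, 4, 2, 3, 0, 2, 1, 3, 4, 2, 3, 0, 2, 1, 3], [123, 114, 109])]),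
  ([124, 108, 103], []),
  ([125, 92, 84, 79, 74], []),
  ([122, 117, 109, 79], []),
  ([125, 92, 83, 75], []),
  ([121, 118, 109], []),
  ([125, 92, 83, 80], []),
  ([123, 114, 99, 84], []),
  ([125, 92], [(true, [5, 4, 3, 2, 1, 3, 4, 5, 6, 0, 2, 3, 4, 5, 1, 3, 4, 2, 3, 0, 2, 1, 3, 4, 5, 6, 0, 2, 3, 4, 5, 1, 3, 4, 2, 3, 0, 2, 1, 3, 4, 5, 0, 2, 3, 4, 1, 3, 2, 0], [125, 92])]),
  ([121, 118], []),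
  ([125, 91, 88, 78, 73, 67], []),
  ([123, 113, 110, 78, 67], []),
  ([125, 91, 88, 73, 67], []),
  ([123, 113, 110, 67], []),
  ([125, 91, 88, 78, 67], []),
  ([124, 107, 104, 78, 67], []),
  ([125, 91, 88, 67], []),
  ([124, 107, 104, 67], []),
  ([125, 91, 83, 81, 76], []),
  ([120, 118, 110, 81], []),
  ([125, 91, 85, 74, 71], []),
  ([122, 116, 110, 71], []),
  ([125, 91, 85, 79, 71], []),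
  ([120, 118, 101, 88], []),
  ([125, 91, 81, 76], []),
  ([123, 113, 97, 85], []),
  ([125, 90, 89, 78, 73], []),
  ([123, 112, 111, 78], []),
  ([125, 90, 89, 73], []),
  ([123, 112, 111], []),
  ([125, 90, 89, 78], []),
  ([124, 106, 105, 78], []),
  ([125, 90, 89], []),
  ([124, 106, 105], []),
  ([125, 88, 86, 80, 75], []),
  ([121, 115, 113, 80], []),
  ([125, 87, 85, 77], []),
  ([119, 116, 114], []),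
  ([125, 87, 85, 82], []),
  ([122, 109, 104, 89], []),
  ([125], [(true, [0, 2, 3, 4, 5, 1, 3, 4, 2, 3, 0, 2, 1, 3, 4, 5, 6, 5, 4, 3, 2, 1, 3, 4, 5, 0, 2, 3, 4, 1, 3, 2, 0], [125])]),
  ([], [])]
/-- programs for the classes of involutions of the Weyl group -/
def invE7Z : List (List ℕ × List (Bool × List ℕ × List ℕ)) := [
  ([], []),
  ([125, 92, 87, 78, 73, 66, 63], [(true, [4, 5, 6, 0, 2, 3, 4, 5, 1, 3, 4, 2, 3, 0, 2, 1, 3, 4, 5, 2, 1, 3, 4, 0, 2, 3, 0], [79, 74, 70, 92, 84, 63, 125]), (false, [83, 66, 73, 78], [79, 74, 70, 92, 63, 125]), (true, [5, 6, 2, 1, 3, 4, 5, 3, 2, 1], [79, 74, 92, 70, 84, 125]), (false, [83, 66, 73, 78], [79, 74, 92, 70, 125]), (true, [5, 4, 3, 0, 2, 1, 3, 4, 5, 6, 5, 4, 3, 2, 1, 3, 4, 5, 2, 3, 2, 0], [79, 92, 74, 70, 84]), (false, [83, 66, 73,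 78], [79, 92, 74, 70]), (true, [2, 3, 4, 5, 6, 0, 2, 3, 4, 5, 3, 0, 2, 1, 3, 4, 1, 3, 2, 1, 0], [109, 123, 114, 63]), (false, [], [123, 114, 109, 63])]),
  ([123, 114, 109, 78, 66, 63], [(true, [4, 5, 6, 0, 2, 3, 4, 5, 1, 3, 4, 2, 3, 0, 2, 1, 3, 4, 5, 1, 3], [79, 74, 92, 70, 84, 125]), (false, [83, 66, 73, 78], [79, 74, 92, 70, 125]), (true, [5, 4, 3, 0, 2, 1, 3, 4, 5, 6, 5, 4, 3, 2, 1, 3, 4, 5, 2, 3, 2, 0], [79, 92, 74, 70, 84]), (false, [83, 66, 73, 78], [79, 92, 74, 70]), (true, [2, 3, 4, 5, 6, 0, 2, 3, 4, 5, 3, 0, 2, 1, 3, 4, 1, 3, 2, 1, 0], [109, 123, 114, 63]), (false, [], [123, 114, 109, 63])]),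
  ([123, 114, 109, 66, 63], [(true, [0, 2, 3, 4, 5, 6, 3, 0, 2, 1, 3, 4, 5, 2, 3, 4, 0, 2, 3, 0, 2], [92, 79, 74, 70, 84]), (false, [83, 66, 73, 78], [92, 79, 74, 70]), (true, [2, 3, 4, 5, 6, 0, 2, 3, 4, 5, 3, 0, 2, 1, 3, 4, 1, 3, 2, 1, 0], [123, 109, 114, 63]), (false, [], [123, 114, 109, 63])]),
  ([123, 114, 109, 63], []),
  ([125, 92, 63], []),
  ([125, 92, 87, 73], [(true, [4, 5, 6, 0, 2, 3, 4, 5, 1, 3, 4, 2, 3, 0, 2, 1, 3, 4, 5, 2, 1, 3, 4, 0, 2, 3, 0], [79, 74, 70, 84]), (false, [83, 66, 73, 78], [79, 74, 70]), (true, [5, 3, 4, 2, 3, 0, 2, 1, 3, 4, 5, 6, 4, 3, 0, 2, 1, 3, 4, 5, 1, 3, 4, 0, 2, 1, 0], [123, 114, 109])]),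
  ([123, 114, 109], []),
  ([125, 92], []),
  ([125], [])]
/-- representatives and ranks -/
def invE7T : List (List ℕ × List ℕ) := [([123, 114, 109, 63], [219, 229, 127, 35, 67, 8, 91, 93, 13, 89, 111, 113, 21, 109, 0, 27, 117, 31, 123, 2, 147, 39, 179, 43, 183, 175, 49, 155, 149, 151, 57, 173, 167, 169, 249, 189, 71, 211, 75, 215, 207, 81, 197, 191, 193, 145, 233, 235, 237, 99, 205, 199, 201, 251, 165, 241, 243, 245, 131, 223, 137, 227, 12]),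
  ([125, 92, 63], [251, 127, 8, 33, 45, 51, 53, 13, 197, 59, 61, 21, 205, 63, 27, 211, 31, 215, 217, 65, 39, 223, 43, 227, 229, 49, 233, 235, 237, 57, 241, 243, 245, 247, 249, 2, 71, 131, 75, 137, 81, 145, 89, 155, 99, 165, 109, 173, 117, 179, 123, 183, 12]),
  ([123, 114, 109], [219, 229, 247, 35, 67, 8, 91, 93, 87, 89, 111, 113, 107, 109, 0, 115, 117, 121, 123, 2, 147, 177, 179, 181, 183, 175, 153, 155, 149, 151, 171, 173, 167, 169, 249, 189, 209, 211, 213, 215, 207, 195, 197, 191, 193, 231, 233, 235, 237, 203, 205, 199, 201, 251, 239, 241, 243, 245, 221, 223, 225, 227]),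
  ([125, 92], [251, 185, 8, 33, 45, 51, 53, 195, 197, 59, 61, 203, 205, 63, 209, 211, 213, 215, 217, 65, 221, 223, 225, 227, 229, 231, 233, 235, 237, 239, 241, 243, 245, 247, 249, 2, 129, 131, 135, 137, 143, 145, 153, 155, 163, 165, 171, 173, 177, 179, 181, 183]),
  ([125], [251, 4, 187, 189, 191, 193, 195, 197, 199, 201, 203, 205, 207, 209, 211, 213, 215, 217, 219, 221, 223, 225, 227, 229, 231, 233, 235, 237, 239, 241, 243, 245, 247, 249])]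
theorem invE7_0 : chkA fastE7 [125, 92, 87, 78, 73, 66, 63] 0 = true := by decide +kernel
theorem invE7_c0 : allLt 32 (fun i => chkI fastE7 id id (invE7Z.map Prod.fst) [125, 92, 87, 78, 73, 66, 63] (i + 0)
    (invE7C.getD (i + 0) ([], []))) = true := by decide +kernel
theorem invE7_c32 : allLt 32 (fun i => chkI fastE7 id id (invE7Z.map Prod.fst) [125, 92, 87, 78, 73, 66, 63] (i + 32)
    (invE7C.getD (i + 32) ([], []))) = true := by decide +kernel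
theorem invE7_c64 : allLt 32 (fun i => chkI fastE7 id id (invE7Z.map Prod.fst) [125, 92, 87, 78, 73, 66, 63] (i + 64)
    (invE7C.getD (i + 64) ([], []))) = true := by decide +kernel
theorem invE7_c96 : allLt 32 (fun i => chkI fastE7 id id (invE7Z.map Prod.fst) [125, 92, 87, 78, 73, 66, 63] (i + 96)
    (invE7C.getD (i + 96) ([], []))) = true := by decide +kernel
theorem invE7_c : ∀ i < 128, chkI fastE7 id id (invE7Z.map Prod.fst) [125, 92, 87, 78, 73, 66, 63] i (invE7C.getD i ([], [])) = true := by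
  intro i hi
  by_cases h : i < 32
  · simpa [Nat.sub_add_cancel (show 0 ≤ i by omega)] using allLt_spec invE7_c0 (show i - 0 < 32 by omega)
  by_cases h : i < 64
  · simpa [Nat.sub_add_cancel (show 32 ≤ i by omega)] using allLt_spec invE7_c32 (show i - 32 < 32 by omega)
  by_cases h : i < 96
  · simpa [Nat.sub_add_cancel (show 64 ≤ i by omega)] using allLt_spec invE7_c64 (show i - 64 < 32 by omega)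
  simpa [Nat.sub_add_cancel (show 96 ≤ i by omega)] using allLt_spec invE7_c96 (show i - 96 < 32 by omega)
theorem invE7_z : (invE7Z.all fun p => chkP fastE7 id id ([] :: invE7T.map Prod.fst) p.2 p.1) = true := by
  decide +kernel
theorem invE7_r : (invE7T.all fun p => rkc fastE7 p.2 (cols fastE7 p.1)) = true := by decide +kernel
theorem invE7_s : (invE7T.all fun p => eqv fastE7 (p.1 ++ p.1) [] && Nat.blt 0 p.2.length) = true := by decide +kernel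

end H12.Inv
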