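import Cfsg.Agent.H12.InvC

/-! Certificates for the classes of involutions of `E8(q)`, `q` even. -/

namespace H12.Inv
open Cfsg Cfsg.Lie H11 H11.StSys H12.Lie
set_option maxRecDepth 100000

/-- certificates for the subsets of nodes -/
def invE8C : List (List ℕ × List (Bool × List ℕ × List ℕ)) := [
  ([239, 226, 159, 152, 141, 135, 126, 121], [(true, [7, 6, 5, 4, 3, 2, 1, 3, 4, 5, 6, 0, 2, 3, 4, 5, 1, 3, 4, 2, 3, 0, 2, 1, 3, 4, 5, 6, 7, 6, 5, 4, 3, 2, 1, 3, 4, 5, 6, 0, 2, 3, 4, 5, 1, 3, 4, 2, 3, 0, 2, 1, 3, 4, 5, 6, 7, 6, 5, 4, 3, 2, 1, 3, 4, 5, 6, 0, 2, 3, 4, 5, 1, 3, 4, 2, 3, 0, 2, 1, 3, 4, 5, 6, 0, 2, 3, 4, 5, 1, 3, 4, 2, 3, 0, 2, 1, 3, 4, 5, 1, 3, 4, 2, 3, 0, 2, 1, 3, 4, 2, 3, 0, 2, 1, 3, 0, 2, 1, 0], [239, 226, 159, 152, 141, 135, 126,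 121])]),
  ([239, 214, 191, 184, 141, 126, 121], [(true, [7, 6, 5, 4, 3, 2, 1, 3, 4, 5, 6, 0, 2, 3, 4, 5, 1, 3, 4, 2, 3, 0, 2, 1, 3, 4, 5, 6, 7, 6, 5, 4, 3, 2, 1, 3, 4, 5, 6, 0, 2, 3, 4, 5, 1, 3, 4, 2, 3, 0, 2, 1, 3, 4, 5, 6, 7, 6, 5, 4, 3, 2, 1, 3, 4, 5, 6, 0, 2, 3, 4, 5, 1, 3, 4, 2, 3, 0, 2, 1, 3, 4, 5, 6, 0, 2, 3, 4, 5, 1, 3, 4, 2, 3, 0, 2, 1, 3, 4, 5, 1, 3, 4, 2, 3, 0, 2, 1, 3, 4, 2, 3, 0, 2, 1, 3, 0, 2, 1], [239, 214, 191, 184, 141, 126, 121])]),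
  ([239, 226, 159, 126, 135, 152, 121], [(true, [7, 6, 5, 4, 3, 2, 1, 3, 4, 5, 6, 0, 2, 3, 4, 5, 1, 3, 4, 2, 3, 0, 2, 1, 3, 4, 5, 6, 7, 6, 5, 4, 3, 2, 1, 3, 4, 5, 6, 0, 2, 3, 4, 5, 1, 3, 4, 2, 3, 0, 2, 1, 3, 4, 5, 6, 7, 6, 5, 4, 3, 2, 1, 3, 4, 5, 6, 0, 2, 3, 4, 5, 1, 3, 4, 2, 3, 0, 2, 1, 3, 4, 5, 6, 0, 2, 3, 4, 5, 1, 3, 4, 2, 3, 0, 2, 1, 3, 4, 5, 1, 3, 4, 2, 3, 0, 2, 1, 3, 4, 0, 2, 0], [239, 214, 191, 184, 141, 126, 121])]),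
  ([239, 214, 191, 184, 126, 121], [(true, [7, 6, 5, 4, 3, 2, 1, 3, 4, 5, 6, 0, 2, 3, 4, 5, 1, 3, 4, 2, 3, 0, 2, 1, 3, 4, 5, 6, 7, 6, 5, 4, 3, 2, 1, 3, 4, 5, 6, 0, 2, 3, 4, 5, 1, 3, 4, 2, 3, 0, 2, 1, 3, 4, 5, 6, 7, 6, 5, 4, 3, 2, 1, 3, 4, 5, 6, 0, 2, 3, 4, 5, 1, 3, 4, 2, 3, 0, 2, 1, 3, 4, 5, 6, 0, 2, 3, 4, 5, 1, 3, 4, 2, 3, 0, 2, 1, 3, 4, 5, 1, 3, 4, 2, 3, 0, 2, 1, 3, 4, 2, 3, 0, 2, 1, 3, 0, 2], [239, 214, 191, 184, 126, 121])]),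
  ([239, 226, 159, 152, 141, 126, 121], [(true, [7, 6, 5, 4, 3, 2, 1, 3, 4, 5, 6, 0, 2, 3, 4, 5, 1, 3, 4, 2, 3, 0, 2, 1, 3, 4, 5, 6, 7, 6, 5, 4, 3, 2, 1, 3, 4, 5, 6, 0, 2, 3, 4, 5, 1, 3, 4, 2, 3, 0, 2, 1, 3, 4, 5, 6, 7, 6, 5, 4, 3, 2, 1, 3, 4, 5, 6, 0, 2, 3, 4, 5, 1, 3, 4, 2, 3, 0, 2, 1, 3, 4, 5, 6, 0, 2, 3, 4, 5, 1, 3, 4, 2, 3, 0, 2, 1, 3, 4, 5, 1, 3, 4, 2, 3, 0, 2, 1, 3, 4, 2, 3, 0, 2, 1, 3, 1], [239, 214, 191, 184, 141, 126, 121])]),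
  ([239, 219, 181, 174, 141, 126, 121], []),
  ([239, 226, 159, 152, 126, 121], [(true, [7, 6, 5, 4, 3, 2, 1, 3, 4, 5, 6, 0, 2, 3, 4, 5, 1, 3, 4, 2, 3, 0, 2, 1, 3, 4, 5, 6, 7, 6, 5, 4, 3, 2, 1, 3, 4, 5, 6, 0, 2, 3, 4, 5, 1, 3, 4, 2, 3, 0, 2, 1, 3, 4, 5, 6, 7, 6, 5, 4, 3, 2, 1, 3, 4, 5, 6, 0, 2, 3, 4, 5, 1, 3, 4, 2, 3, 0, 2, 1, 3, 4, 5, 6, 0, 2, 3, 4, 5, 1, 3, 4, 2, 3, 0, 2, 1, 3, 4, 5, 1, 3, 4, 2, 3, 0, 2, 1, 3, 4, 2, 3, 0, 2, 1, 3], [239, 214, 191, 184, 126, 121])]),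
  ([239, 219, 181, 174, 126, 121], []),
  ([239, 226, 159, 143, 147, 137, 121], [(true, [7, 6, 5, 4, 3, 2, 1, 3, 4, 5, 6, 0, 2, 3, 4, 5, 1, 3, 4, 2, 3, 0, 2, 1, 3, 4, 5, 6, 7, 6, 5, 4, 3, 2, 1, 3, 4, 5, 6, 0, 2, 3, 4, 5, 1, 3, 4, 2, 3, 0, 2, 1, 3, 4, 5, 6, 7, 6, 5, 4, 3, 2, 1, 3, 4, 5, 6, 0, 2, 3, 4, 5, 1, 3, 4, 2, 3, 0, 2, 1, 3, 4, 5, 6, 0, 2, 3, 4, 5, 1, 3, 4, 2, 3, 0, 2, 1, 3, 4, 5, 1, 3, 4, 2, 3, 0, 2, 1, 3, 4, 0, 2, 3, 1, 0], [239, 214, 191, 184, 141, 126, 121])]),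
  ([239, 200, 207, 184, 143, 121], [(true, [7, 6, 5, 4, 3, 2, 1, 3, 4, 5, 6, 0, 2, 3, 4, 5, 1, 3, 4, 2, 3, 0, 2, 1, 3, 4, 5, 6, 7, 6, 5, 4, 3, 2, 1, 3, 4, 5, 6, 0, 2, 3, 4, 5, 1, 3, 4, 2, 3, 0, 2, 1, 3, 4, 5, 6, 7, 6, 5, 4, 3, 2, 1, 3, 4, 5, 6, 0, 2, 3, 4, 5, 1, 3, 4, 2, 3, 0, 2, 1, 3, 4, 5, 6, 0, 2, 3, 4, 5, 1, 3, 4, 2, 3, 0, 2, 1, 3, 4, 5, 1, 3, 4, 2, 3, 0, 2, 1, 3, 4, 3, 2, 1, 3, 0, 2], [239, 214, 191, 184, 126, 121])]),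
  ([239, 226, 159, 148, 136, 131, 121], []),
  ([239, 210, 197, 184, 131, 121], []),
  ([239, 226, 159, 148, 142, 131, 121], []),
  ([239, 207, 200, 170, 152, 121], []),
  ([239, 226, 159, 143, 137, 121], []),
  ([239, 214, 191, 165, 148, 121], []),
  ([239, 226, 159, 141, 152, 135, 121], [(true, [7, 6, 5, 4, 3, 2, 1, 3, 4, 5, 6, 0, 2, 3, 4, 5, 1, 3, 4, 2, 3, 0, 2, 1, 3, 4, 5, 6, 7, 6, 5, 4, 3, 2, 1, 3, 4, 5, 6, 0, 2, 3, 4, 5, 1, 3, 4, 2, 3, 0, 2, 1, 3, 4, 5, 6, 7, 6, 5, 4, 3, 2, 1, 3, 4, 5, 6, 0, 2, 3, 4, 5, 1, 3, 4, 2, 3, 0, 2, 1, 3, 4, 5, 6, 0, 2, 3, 4, 5, 1, 3, 4, 2, 3, 0, 2, 1, 3, 4, 5, 4, 3, 2, 1, 3, 4, 0, 2, 3, 0, 2, 1, 0], [239, 214, 191, 184, 141, 126, 121])]),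
  ([239, 191, 214, 184, 141, 121], [(true, [7, 6, 5, 4, 3, 2, 1, 3, 4, 5, 6, 0, 2, 3, 4, 5, 1, 3, 4, 2, 3, 0, 2, 1, 3, 4, 5, 6, 7, 6, 5, 4, 3, 2, 1, 3, 4, 5, 6, 0, 2, 3, 4, 5, 1, 3, 4, 2, 3, 0, 2, 1, 3, 4, 5, 6, 7, 6, 5, 4, 3, 2, 1, 3, 4, 5, 6, 0, 2, 3, 4, 5, 1, 3, 4, 2, 3, 0, 2, 1, 3, 4, 5, 6, 0, 2, 3, 4, 5, 1, 3, 4, 2, 3, 0, 2, 1, 3, 4, 5, 2, 3, 0, 2, 1, 3, 4, 3, 2, 1, 3, 0, 2, 1], [239, 214, 191, 184, 126, 121])]),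
  ([239, 121, 226, 152, 135, 159], [(true, [7, 6, 5, 4, 3, 2, 1, 3, 4, 5, 6, 0, 2, 3, 4, 5, 1, 3, 4, 2, 3, 0, 2, 1, 3, 4, 5, 6, 7, 6, 5, 4, 3, 2, 1, 3, 4, 5, 6, 0, 2, 3, 4, 5, 1, 3, 4, 2, 3, 0, 2, 1, 3, 4, 5, 6, 7, 6, 5, 4, 3, 2, 1, 3, 4, 5, 6, 0, 2, 3, 4, 5, 1, 3, 4, 2, 3, 0, 2, 1, 3, 4, 5, 6, 4, 5, 3, 4, 2, 3, 0, 2, 1, 3, 4, 2, 3, 0, 2, 1, 3, 0, 2, 0], [239, 214, 191, 184, 126, 121])]),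
  ([239, 214, 191, 184, 121], [(true, [7, 6, 5, 4, 3, 2, 1, 3, 4, 5, 6, 0, 2, 3, 4, 5, 1, 3, 4, 2, 3, 0, 2, 1, 3, 4, 5, 6, 7, 6, 5, 4, 3, 2, 1, 3, 4, 5, 6, 0, 2, 3, 4, 5, 1, 3, 4, 2, 3, 0, 2, 1, 3, 4, 5, 6, 7, 6, 5, 4, 3, 2, 1, 3, 4, 5, 6, 0, 2, 3, 4, 5, 1, 3, 4, 2, 3, 0, 2, 1, 3, 4, 5, 6, 0, 2, 3, 4, 5, 1, 3, 4, 2, 3, 0, 2, 1, 3, 4, 5, 3, 4, 2, 3, 0, 2, 1, 3, 4, 2, 3, 0, 2, 1, 3, 0, 2], [239, 214, 191, 184, 121])]),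
  ([239, 159, 226, 152, 141, 121], [(true, [7, 6, 5, 4, 3, 2, 1, 3, 4, 5, 6, 0, 2, 3, 4, 5, 1, 3, 4, 2, 3, 0, 2, 1, 3, 4, 5, 6, 7, 6, 5, 4, 3, 2, 1, 3, 4, 5, 6, 0, 2, 3, 4, 5, 1, 3, 4, 2, 3, 0, 2, 1, 3, 4, 5, 6, 7, 6, 5, 4, 3, 2, 1, 3, 4, 5, 6, 0, 2, 3, 4, 5, 1, 3, 4, 2, 3, 0, 2, 1, 3, 4, 5, 6, 0, 2, 3, 4, 5, 1, 3, 4, 2, 3, 0, 2, 1, 3, 4, 5, 2, 3, 0, 2, 1, 3, 4, 3, 2, 1, 3, 1], [239, 214, 191, 184, 126, 121])]),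
  ([239, 219, 181, 174, 141, 121], []),
  ([239, 226, 159, 152, 121], [(true, [7, 6, 5, 4, 3, 2, 1, 3, 4, 5, 6, 0, 2, 3, 4, 5, 1, 3, 4, 2, 3, 0, 2, 1, 3, 4, 5, 6, 7, 6, 5, 4, 3, 2, 1, 3, 4, 5, 6, 0, 2, 3, 4, 5, 1, 3, 4, 2, 3, 0, 2, 1, 3, 4, 5, 6, 7, 6, 5, 4, 3, 2, 1, 3, 4, 5, 6, 0, 2, 3, 4, 5, 1, 3, 4, 2, 3, 0, 2, 1, 3, 4, 5, 6, 0, 2, 3, 4, 5, 1, 3, 4, 2, 3, 0, 2, 1, 3, 4, 5, 3, 4, 2, 3, 0, 2, 1, 3, 4, 2, 3, 0, 2, 1, 3], [239, 214, 191, 184, 121])]),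
  ([239, 219, 181, 174, 121], []),
  ([239, 226, 159, 148, 142, 136, 121], []),
  ([239, 210, 197, 184, 142, 121], []),
  ([239, 226, 159, 147, 137, 121], []),
  ([239, 207, 200, 184, 121], []),
  ([239, 226, 159, 147, 143, 121], []),
  ([239, 214, 191, 169, 148, 121], []),
  ([239, 226, 159, 121], [(true, [7, 6, 5, 4, 3, 2, 1, 3, 4, 5, 6, 0, 2, 3, 4, 5, 1, 3, 4, 2, 3, 0, 2, 1, 3, 4, 5, 6, 7, 6, 5, 4, 3, 2, 1, 3, 4, 5, 6, 0, 2, 3, 4, 5, 1, 3, 4, 2, 3, 0, 2, 1, 3, 4, 5, 6, 7, 6, 5, 4, 3, 2, 1, 3, 4, 5, 6, 0, 2, 3, 4, 5, 1, 3, 4, 2, 3, 0, 2, 1, 3, 4, 5, 6, 0, 2, 3, 4, 5, 1, 3, 4, 2, 3, 0, 2, 1, 3, 4, 5, 0, 2, 3, 4, 1, 3, 2, 0], [239, 226, 159, 121])]),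
  ([239, 207, 200, 121], []),
  ([239, 226, 154, 141, 156, 135, 128], [(true, [7, 6, 5, 4, 3, 2, 1, 3, 4, 5, 6, 0, 2, 3, 4, 5, 1, 3, 4, 2, 3, 0, 2, 1, 3, 4, 5, 6, 7, 6, 5, 4, 3, 2, 1, 3, 4, 5, 6, 0, 2, 3, 4, 5, 1, 3, 4, 2, 3, 0, 2, 1, 3, 4, 5, 6, 7, 6, 5, 4, 3, 2, 1, 3, 4, 5, 6, 0, 2, 3, 4, 5, 1, 3, 4, 2, 3, 0, 2, 1, 3, 4, 5, 6, 1, 3, 4, 2, 3, 0, 2, 1, 3, 4, 5, 4, 3, 2, 1, 3, 4, 2, 3, 0, 2, 1, 3, 0, 2, 1, 0], [239, 214, 191, 184, 141, 126, 121])]),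
  ([239, 186, 214, 188, 141, 128], [(true, [7, 6, 5, 4, 3, 2, 1, 3, 4, 5, 6, 0, 2, 3, 4, 5, 1, 3, 4, 2, 3, 0, 2, 1, 3, 4, 5, 6, 7, 6, 5, 4, 3, 2, 1, 3, 4, 5, 6, 0, 2, 3, 4, 5, 1, 3, 4, 2, 3, 0, 2, 1, 3, 4, 5, 6, 7, 6, 5, 4, 3, 2, 1, 3, 4, 5, 6, 0, 2, 3, 4, 5, 1, 3, 4, 2, 3, 0, 2, 1, 3, 4, 5, 6, 4, 5, 3, 4, 2, 3, 0, 2, 1, 3, 4, 5, 2, 3, 0, 2, 1, 3, 4, 2, 3, 0, 2, 1, 3, 0, 2, 1], [239, 214, 191, 184, 126, 121])]),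
  ([239, 128, 226, 156, 135, 154], [(true, [7, 6, 5, 4, 3, 2, 1, 3, 4, 5, 6, 0, 2, 3, 4, 5, 1, 3, 4, 2, 3, 0, 2, 1, 3, 4, 5, 6, 7, 6, 5, 4, 3, 2, 1, 3, 4, 5, 6, 0, 2, 3, 4, 5, 1, 3, 4, 2, 3, 0, 2, 1, 3, 4, 5, 6, 7, 6, 5, 4, 3, 2, 1, 3, 4, 5, 6, 0, 2, 3, 4, 5, 1, 3, 4, 2, 3, 0, 2, 1, 3, 4, 5, 6, 4, 5, 3, 4, 2, 3, 0, 2, 1, 3, 4, 5, 2, 3, 0, 2, 1, 3, 4, 0, 2, 0], [239, 214, 191, 184, 126, 121])]),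
  ([239, 214, 186, 188, 128], [(true, [7, 6, 5, 4, 3, 2, 1, 3, 4, 5, 6, 0, 2, 3, 4, 5, 1, 3, 4, 2, 3, 0, 2, 1, 3, 4, 5, 6, 7, 6, 5, 4, 3, 2, 1, 3, 4, 5, 6, 0, 2, 3, 4, 5, 1, 3, 4, 2, 3, 0, 2, 1, 3, 4, 5, 6, 7, 6, 5, 4, 3, 2, 1, 3, 4, 5, 6, 0, 2, 3, 4, 5, 1, 3, 4, 2, 3, 0, 2, 1, 3, 4, 5, 6, 3, 4, 5, 1, 3, 4, 2, 3, 0, 2, 1, 3, 4, 5, 3, 4, 2, 3, 0, 2, 1, 3, 4, 2, 3, 0, 2, 1, 3, 0, 2], [239, 214, 191, 184, 121])]),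
  ([239, 154, 226, 156, 141, 128], [(true, [7, 6, 5, 4, 3, 2, 1, 3, 4, 5, 6, 0, 2, 3, 4, 5, 1, 3, 4, 2, 3, 0, 2, 1, 3, 4, 5, 6, 7, 6, 5, 4, 3, 2, 1, 3, 4, 5, 6, 0, 2, 3, 4, 5, 1, 3, 4, 2, 3, 0, 2, 1, 3, 4, 5, 6, 7, 6, 5, 4, 3, 2, 1, 3, 4, 5, 6, 0, 2, 3, 4, 5, 1, 3, 4, 2, 3, 0, 2, 1, 3, 4, 5, 6, 4, 5, 3, 4, 2, 3, 0, 2, 1, 3, 4, 5, 2, 3, 0, 2, 1, 3, 4, 2, 3, 0, 2, 1, 3, 1], [239, 214, 191, 184, 126, 121])]),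
  ([239, 219, 178, 176, 141, 128], []),
  ([239, 226, 154, 156, 128], [(true, [7, 6, 5, 4, 3, 2, 1, 3, 4, 5, 6, 0, 2, 3, 4, 5, 1, 3, 4, 2, 3, 0, 2, 1, 3, 4, 5, 6, 7, 6, 5, 4, 3, 2, 1, 3, 4, 5, 6, 0, 2, 3, 4, 5, 1, 3, 4, 2, 3, 0, 2, 1, 3, 4, 5, 6, 7, 6, 5, 4, 3, 2, 1, 3, 4, 5, 6, 0, 2, 3, 4, 5, 1, 3, 4, 2, 3, 0, 2, 1, 3, 4, 5, 6, 3, 4, 5, 1, 3, 4, 2, 3, 0, 2, 1, 3, 4, 5, 3, 4, 2, 3, 0, 2, 1, 3, 4, 2, 3, 0, 2, 1, 3], [239, 214, 191, 184, 121])]),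
  ([239, 219, 178, 176, 128], []),
  ([239, 145, 226, 156, 147, 139], [(true, [7, 6, 5, 4, 3, 2, 1, 3, 4, 5, 6, 0, 2, 3, 4, 5, 1, 3, 4, 2, 3, 0, 2, 1, 3, 4, 5, 6, 7, 6, 5, 4, 3, 2, 1, 3, 4, 5, 6, 0, 2, 3, 4, 5, 1, 3, 4, 2, 3, 0, 2, 1, 3, 4, 5, 6, 7, 6, 5, 4, 3, 2, 1, 3, 4, 5, 6, 0, 2, 3, 4, 5, 1, 3, 4, 2, 3, 0, 2, 1, 3, 4, 5, 6, 4, 5, 3, 4, 2, 3, 0, 2, 1, 3, 4, 5, 2, 3, 0, 2, 1, 3, 4, 0, 2, 3, 1, 0], [239, 214, 191, 184, 126, 121])]),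
  ([239, 200, 186, 204, 145], [(true, [7, 6, 5, 4, 3, 2, 1, 3, 4, 5, 6, 0, 2, 3, 4, 5, 1, 3, 4, 2, 3, 0, 2, 1, 3, 4, 5, 6, 7, 6, 5, 4, 3, 2, 1, 3, 4, 5, 6, 0, 2, 3, 4, 5, 1, 3, 4, 2, 3, 0, 2, 1, 3, 4, 5, 6, 7, 6, 5, 4, 3, 2, 1, 3, 4, 5, 6, 0, 2, 3, 4, 5, 1, 3, 4, 2, 3, 0, 2, 1, 3, 4, 5, 6, 3, 4, 5, 1, 3, 4, 2, 3, 0, 2, 1, 3, 4, 5, 3, 4, 2, 3, 0, 2, 1, 3, 4, 3, 2, 1, 3, 0, 2], [239, 214, 191, 184, 121])]),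
  ([239, 226, 156, 150, 136, 133], []),
  ([239, 210, 194, 186, 133], []),
  ([239, 226, 156, 150, 142, 133], []),
  ([239, 204, 200, 172, 154], []),
  ([239, 226, 156, 145, 139], []),
  ([239, 214, 188, 167, 150], []),
  ([239, 226, 157, 153, 141, 135, 124], []),
  ([239, 214, 189, 185, 141, 124], []),
  ([239, 226, 157, 153, 135, 124], []),
  ([239, 214, 189, 185, 124], []),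
  ([239, 226, 157, 153, 141, 124], []),
  ([239, 219, 179, 175, 141, 124], []),
  ([239, 226, 157, 153, 124], []),
  ([239, 219, 179, 175, 124], []),
  ([239, 226, 152, 149, 145, 139], []),
  ([239, 204, 195, 191, 145], []),
  ([239, 226, 154, 148, 138, 128], []),
  ([239, 205, 197, 188, 128], []),
  ([239, 226, 154, 148, 144, 128], []),
  ([239, 204, 186, 179, 159], []),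
  ([239, 226, 145, 139], []),
  ([239, 186, 179, 159], []),
  ([239, 226, 152, 141, 159, 135, 126], [(true, [7, 6, 5, 4, 3, 2, 1, 3, 4, 5, 6, 0, 2, 3, 4, 5, 1, 3, 4, 2, 3, 0, 2, 1, 3, 4, 5, 6, 7, 6, 5, 4, 3, 2, 1, 3, 4, 5, 6, 0, 2, 3, 4, 5, 1, 3, 4, 2, 3, 0, 2, 1, 3, 4, 5, 6, 7, 1, 3, 4, 5, 6, 2, 3, 4, 5, 1, 3, 4, 2, 3, 0, 2, 1, 3, 4, 5, 6, 1, 3, 4, 2, 3, 0, 2, 1, 3, 4, 5, 1, 3, 4, 2, 3, 0, 2, 1, 3, 4, 2, 3, 0, 2, 1, 3, 0, 2, 1, 0], [239, 214, 191, 184, 141, 126, 121])]),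
  ([239, 184, 214, 191, 141, 126], [(true, [7, 6, 5, 4, 3, 2, 1, 3, 4, 5, 6, 0, 2, 3, 4, 5, 1, 3, 4, 2, 3, 0, 2, 1, 3, 4, 5, 6, 7, 6, 5, 4, 3, 2, 1, 3, 4, 5, 6, 0, 2, 3, 4, 5, 1, 3, 4, 2, 3, 0, 2, 1, 3, 4, 5, 6, 7, 2, 3, 4, 5, 6, 0, 2, 3, 4, 5, 1, 3, 4, 2, 3, 0, 2, 1, 3, 4, 5, 6, 4, 5, 3, 4, 2, 3, 0, 2, 1, 3, 4, 5, 1, 3, 4, 2, 3, 0, 2, 1, 3, 4, 2, 3, 0, 2, 1, 3, 0, 2, 1], [239, 214, 191, 184, 126, 121])]),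
  ([239, 126, 226, 159, 135, 152], [(true, [7, 6, 5, 4, 3, 2, 1, 3, 4, 5, 6, 0, 2, 3, 4, 5, 1, 3, 4, 2, 3, 0, 2, 1, 3, 4, 5, 6, 7, 6, 5, 4, 3, 2, 1, 3, 4, 5, 6, 0, 2, 3, 4, 5, 1, 3, 4, 2, 3, 0, 2, 1, 3, 4, 5, 6, 7, 2, 3, 4, 5, 6, 0, 2, 3, 4, 5, 1, 3, 4, 2, 3, 0, 2, 1, 3, 4, 5, 6, 4, 5, 3, 4, 2, 3, 0, 2, 1, 3, 4, 5, 1, 3, 4, 2, 3, 0, 2, 1, 3, 4, 0, 2, 0], [239, 214, 191, 184, 126, 121])]),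
  ([239, 214, 184, 191, 126], [(true, [7, 6, 5, 4, 3, 2, 1, 3, 4, 5, 6, 0, 2, 3, 4, 5, 1, 3, 4, 2, 3, 0, 2, 1, 3, 4, 5, 6, 7, 6, 5, 4, 3, 2, 1, 3, 4, 5, 6, 0, 2, 3, 4, 5, 1, 3, 4, 2, 3, 0, 2, 1, 3, 4, 5, 6, 7, 3, 2, 1, 3, 4, 5, 6, 0, 2, 3, 4, 5, 1, 3, 4, 2, 3, 0, 2, 1, 3, 4, 5, 6, 3, 4, 5, 1, 3, 4, 2, 3, 0, 2, 1, 3, 4, 5, 1, 3, 4, 2, 3, 0, 2, 1, 3, 4, 2, 3, 0, 2, 1, 3, 0, 2], [239, 214, 191, 184, 121])]),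
  ([239, 152, 226, 159, 141, 126], [(true, [7, 6, 5, 4, 3, 2, 1, 3, 4, 5, 6, 0, 2, 3, 4, 5, 1, 3, 4, 2, 3, 0, 2, 1, 3, 4, 5, 6, 7, 6, 5, 4, 3, 2, 1, 3, 4, 5, 6, 0, 2, 3, 4, 5, 1, 3, 4, 2, 3, 0, 2, 1, 3, 4, 5, 6, 7, 2, 3, 4, 5, 6, 0, 2, 3, 4, 5, 1, 3, 4, 2, 3, 0, 2, 1, 3, 4, 5, 6, 4, 5, 3, 4, 2, 3, 0, 2, 1, 3, 4, 5, 1, 3, 4, 2, 3, 0, 2, 1, 3, 4, 2, 3, 0, 2, 1, 3, 1], [239, 214, 191, 184, 126, 121])]),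
  ([239, 219, 181, 174, 141, 126], []),
  ([239, 226, 152, 159, 126], [(true, [7, 6, 5, 4, 3, 2, 1, 3, 4, 5, 6, 0, 2, 3, 4, 5, 1, 3, 4, 2, 3, 0, 2, 1, 3, 4, 5, 6, 7, 6, 5, 4, 3, 2, 1, 3, 4, 5, 6, 0, 2, 3, 4, 5, 1, 3, 4, 2, 3, 0, 2, 1, 3, 4, 5, 6, 7, 3, 2, 1, 3, 4, 5, 6, 0, 2, 3, 4, 5, 1, 3, 4, 2, 3, 0, 2, 1, 3, 4, 5, 6, 3, 4, 5, 1, 3, 4, 2, 3, 0, 2, 1, 3, 4, 5, 1, 3, 4, 2, 3, 0, 2, 1, 3, 4, 2, 3, 0, 2, 1, 3], [239, 214, 191, 184, 121])]),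
  ([239, 219, 181, 174, 126], []),
  ([239, 143, 226, 159, 147, 137], [(true, [7, 6, 5, 4, 3, 2, 1, 3, 4, 5, 6, 0, 2, 3, 4, 5, 1, 3, 4, 2, 3, 0, 2, 1, 3, 4, 5, 6, 7, 6, 5, 4, 3, 2, 1, 3, 4, 5, 6, 0, 2, 3, 4, 5, 1, 3, 4, 2, 3, 0, 2, 1, 3, 4, 5, 6, 7, 2, 3, 4, 5, 6, 0, 2, 3, 4, 5, 1, 3, 4, 2, 3, 0, 2, 1, 3, 4, 5, 6, 4, 5, 3, 4, 2, 3, 0, 2, 1, 3, 4, 5, 1, 3, 4, 2, 3, 0, 2, 1, 3, 4, 0, 2, 3, 1, 0], [239, 214, 191, 184, 126, 121])]),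
  ([239, 200, 184, 207, 143], [(true, [7, 6, 5, 4, 3, 2, 1, 3, 4, 5, 6, 0, 2, 3, 4, 5, 1, 3, 4, 2, 3, 0, 2, 1, 3, 4, 5, 6, 7, 6, 5, 4, 3, 2, 1, 3, 4, 5, 6, 0, 2, 3, 4, 5, 1, 3, 4, 2, 3, 0, 2, 1, 3, 4, 5, 6, 7, 3, 2, 1, 3, 4, 5, 6, 0, 2, 3, 4, 5, 1, 3, 4, 2, 3, 0, 2, 1, 3, 4, 5, 6, 3, 4, 5, 1, 3, 4, 2, 3, 0, 2, 1, 3, 4, 5, 1, 3, 4, 2, 3, 0, 2, 1, 3, 4, 3, 2, 1, 3, 0, 2], [239, 214, 191, 184, 121])]),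
  ([239, 226, 159, 148, 136, 131], []),
  ([239, 210, 197, 184, 131], []),
  ([239, 226, 159, 148, 142, 131], []),
  ([239, 207, 200, 170, 152], []),
  ([239, 226, 159, 143, 137], []),
  ([239, 214, 191, 165, 148], []),
  ([239, 141, 226, 159, 152, 135], [(true, [7, 6, 5, 4, 3, 2, 1, 3, 4, 5, 6, 0, 2, 3, 4, 5, 1, 3, 4, 2, 3, 0, 2, 1, 3, 4, 5, 6, 7, 6, 5, 4, 3, 2, 1, 3, 4, 5, 6, 0, 2, 3, 4, 5, 1, 3, 4, 2, 3, 0, 2, 1, 3, 4, 5, 6, 7, 2, 3, 4, 5, 6, 0, 2, 3, 4, 5, 1, 3, 4, 2, 3, 0, 2, 1, 3, 4, 5, 6, 4, 5, 3, 4, 2, 3, 0, 2, 1, 3, 4, 5, 4, 3, 2, 1, 3, 4, 0, 2, 3, 0, 2, 1, 0], [239, 214, 191, 184, 126, 121])]),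
  ([239, 191, 184, 214, 141], [(true, [7, 6, 5, 4, 3, 2, 1, 3, 4, 5, 6, 0, 2, 3, 4, 5, 1, 3, 4, 2, 3, 0, 2, 1, 3, 4, 5, 6, 7, 6, 5, 4, 3, 2, 1, 3, 4, 5, 6, 0, 2, 3, 4, 5, 1, 3, 4, 2, 3, 0, 2, 1, 3, 4, 5, 6, 7, 3, 2, 1, 3, 4, 5, 6, 0, 2, 3, 4, 5, 1, 3, 4, 2, 3, 0, 2, 1, 3, 4, 5, 6, 3, 4, 5, 1, 3, 4, 2, 3, 0, 2, 1, 3, 4, 5, 2, 3, 0, 2, 1, 3, 4, 3, 2, 1, 3, 0, 2, 1], [239, 214, 191, 184, 121])]),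
  ([226, 159, 152, 239, 135], [(true, [2, 3, 0, 2, 1, 3, 4, 5, 6, 7, 3, 2, 1, 3, 4, 5, 6, 0, 2, 3, 4, 5, 1, 3, 4, 2, 3, 0, 2, 1, 3, 4, 5, 6, 7, 5, 4, 3, 2, 1, 3, 4, 5, 6, 0, 2, 3, 4, 5, 1, 3, 4, 2, 3, 0, 2, 1, 3, 4, 5, 6, 0, 2, 3, 4, 5, 1, 3, 4, 2, 3, 0, 2, 1, 3, 4, 5, 3, 4, 2, 3, 0, 2, 1, 3, 4, 2, 3, 0, 2, 1, 3, 0, 2, 0], [239, 214, 191, 184, 121])]),
  ([239, 214, 191, 184], [(true, [0, 2, 3, 4, 5, 1, 3, 4, 2, 3, 0, 2, 1, 3, 4, 5, 6, 7, 5, 4, 3, 2, 1, 3, 4, 5, 6, 0, 2, 3, 4, 5, 1, 3, 4, 2, 3, 0, 2, 1, 3, 4, 5, 6, 7, 2, 1, 3, 4, 5, 6, 0, 2, 3, 4, 5, 1, 3, 4, 2, 3, 0, 2, 1, 3, 4, 5, 6, 2, 3, 4, 5, 1, 3, 4, 2, 3, 0, 2, 1, 3, 4, 5, 4, 2, 3, 0, 2, 1, 3, 4, 3, 0, 2, 1, 3, 0, 2], [226, 220, 213, 216])]),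
  ([239, 159, 152, 226, 141], [(true, [7, 6, 5, 4, 3, 2, 1, 3, 4, 5, 6, 0, 2, 3, 4, 5, 1, 3, 4, 2, 3, 0, 2, 1, 3, 4, 5, 6, 7, 6, 5, 4, 3, 2, 1, 3, 4, 5, 6, 0, 2, 3, 4, 5, 1, 3, 4, 2, 3, 0, 2, 1, 3, 4, 5, 6, 7, 3, 2, 1, 3, 4, 5, 6, 0, 2, 3, 4, 5, 1, 3, 4, 2, 3, 0, 2, 1, 3, 4, 5, 6, 3, 4, 5, 1, 3, 4, 2, 3, 0, 2, 1, 3, 4, 5, 2, 3, 0, 2, 1, 3, 4, 3, 2, 1, 3, 1], [239, 214, 191, 184, 121])]),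
  ([239, 219, 181, 174, 141], []),
  ([239, 226, 159, 152], [(true, [0, 2, 3, 4, 5, 1, 3, 4, 2, 3, 0, 2, 1, 3, 4, 5, 6, 7, 5, 4, 3, 2, 1, 3, 4, 5, 6, 0, 2, 3, 4, 5, 1, 3, 4, 2, 3, 0, 2, 1, 3, 4, 5, 6, 7, 2, 1, 3, 4, 5, 6, 0, 2, 3, 4, 5, 1, 3, 4, 2, 3, 0, 2, 1, 3, 4, 5, 6, 2, 3, 4, 5, 1, 3, 4, 2, 3, 0, 2, 1, 3, 4, 5, 4, 2, 3, 0, 2, 1, 3, 4, 3, 0, 2, 1, 3], [226, 220, 213, 216])]),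
  ([239, 219, 181, 174], []),
  ([239, 226, 159, 148, 142, 136], []),
  ([239, 210, 197, 184, 142], []),
  ([239, 226, 159, 147, 137], []),
  ([239, 207, 200, 184], []),
  ([239, 226, 159, 147, 143], []),
  ([239, 214, 191, 169, 148], []),
  ([239, 226, 159], [(true, [6, 0, 2, 3, 4, 5, 1, 3, 4, 2, 3, 0, 2, 1, 3, 4, 5, 6, 7, 6, 5, 4, 3, 2, 1, 3, 4, 5, 6, 0, 2, 3, 4, 5, 1, 3, 4, 2, 3, 0, 2, 1, 3, 4, 5, 6, 7, 5, 4, 3, 2, 1, 3, 4, 5, 6, 0, 2, 3, 4, 5, 1, 3, 4, 2, 3, 0, 2, 1, 3, 4, 5, 6, 0, 2, 3, 4, 5, 1, 3, 4, 2, 3, 0, 2, 1, 3, 4, 5, 4, 3, 2, 0], [228, 222, 218])]),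
  ([239, 207, 200], []),
  ([239, 226, 157, 153, 141, 135, 127], []),
  ([239, 214, 189, 185, 141, 127], []),
  ([239, 226, 157, 153, 135, 127], []),
  ([239, 214, 189, 185, 127], []),
  ([239, 226, 157, 153, 141, 127], []),
  ([239, 219, 179, 175, 141, 127], []),
  ([239, 226, 157, 153, 127], []),
  ([239, 219, 179, 175, 127], []),
  ([239, 226, 157, 147, 144, 138], []),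
  ([239, 205, 200, 185, 144], []),
  ([239, 226, 157, 149, 136, 132], []),
  ([239, 210, 195, 185, 132], []),
  ([239, 226, 157, 149, 142, 132], []),
  ([239, 205, 200, 171, 153], []),
  ([239, 226, 157, 144, 138], []),
  ([239, 214, 189, 166, 149], []),
  ([239, 226, 156, 154, 141, 135], []),
  ([239, 214, 188, 186, 141], []),
  ([239, 226, 156, 154, 135], []),
  ([239, 214, 188, 186], []),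
  ([239, 226, 156, 154, 141], []),
  ([239, 219, 178, 176, 141], []),
  ([239, 226, 156, 154], []),
  ([239, 219, 178, 176], []),
  ([239, 226, 153, 150, 143, 137], []),
  ([239, 207, 194, 189, 143], []),
  ([239, 226, 152, 149, 139], []),
  ([239, 204, 195, 191], []),
  ([239, 226, 152, 149, 145], []),
  ([239, 210, 184, 175, 154], []),
  ([239, 226], [(true, [2, 3, 4, 5, 6, 0, 2, 3, 4, 5, 1, 3, 4, 2, 3, 0, 2, 1, 3, 4, 5, 6, 7, 6, 5, 4, 3, 2, 1, 3, 4, 5, 6, 0, 2, 3, 4, 5, 1, 3, 4, 2, 3, 0, 2, 1, 3, 4, 5, 6, 7, 0, 2, 3, 4, 5, 1, 3, 4, 2, 3, 0, 2, 1, 3, 4, 5, 6, 5, 4, 3, 2, 1, 3, 4, 5, 0, 2, 3, 4, 1, 3, 2, 0], [232, 233])]),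
  ([239], [(true, [7, 6, 5, 4, 3, 2, 1, 3, 4, 5, 6, 0, 2, 3, 4, 5, 1, 3, 4, 2, 3, 0, 2, 1, 3, 4, 5, 6, 7, 6, 5, 4, 3, 2, 1, 3, 4, 5, 6, 0, 2, 3, 4, 5, 1, 3, 4, 2, 3, 0, 2, 1, 3, 4, 5, 6, 7], [239])]),
  ([237, 228, 152, 141, 161, 135, 126], [(true, [1, 3, 4, 5, 6, 2, 3, 4, 5, 1, 3, 4, 2, 3, 0, 2, 1, 3, 4, 5, 6, 7, 6, 5, 4, 3, 2, 1, 3, 4, 5, 6, 0, 2, 3, 4, 5, 1, 3, 4, 2, 3, 0, 2, 1, 3, 4, 5, 6, 7, 1, 3, 4, 5, 6, 2, 3, 4, 5, 1, 3, 4, 2, 3, 0, 2, 1, 3, 4, 5, 6, 0, 2, 3, 4, 5, 1, 3, 4, 2, 3, 0, 2, 1, 3, 4, 5, 1, 3, 4, 2, 3, 0, 2, 1, 3, 4, 2, 3, 0, 2, 1, 3, 0, 2, 1, 0], [239, 214, 191, 184, 141, 126, 121])]),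
  ([237, 184, 216, 193, 141, 126], [(true, [2, 3, 4, 5, 6, 0, 2, 3, 4, 5, 1, 3, 4, 2, 3, 0, 2, 1, 3, 4, 5, 6, 7, 6, 5, 4, 3, 2, 1, 3, 4, 5, 6, 0, 2, 3, 4, 5, 1, 3, 4, 2, 3, 0, 2, 1, 3, 4, 5, 6, 7, 2, 3, 4, 5, 6, 0, 2, 3, 4, 5, 1, 3, 4, 2, 3, 0, 2, 1, 3, 4, 5, 6, 0, 2, 3, 4, 5, 1, 3, 4, 2, 3, 0, 2, 1, 3, 4, 5, 1, 3, 4, 2, 3, 0, 2, 1, 3, 4, 2, 3, 0, 2, 1, 3, 0, 2, 1], [239, 214, 191, 184, 126, 121])]),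
  ([237, 126, 228, 161, 135, 152], [(true, [2, 3, 4, 5, 6, 0, 2, 3, 4, 5, 1, 3, 4, 2, 3, 0, 2, 1, 3, 4, 5, 6, 7, 6, 5, 4, 3, 2, 1, 3, 4, 5, 6, 0, 2, 3, 4, 5, 1, 3, 4, 2, 3, 0, 2, 1, 3, 4, 5, 6, 7, 2, 3, 4, 5, 6, 0, 2, 3, 4, 5, 1, 3, 4, 2, 3, 0, 2, 1, 3, 4, 5, 6, 0, 2, 3, 4, 5, 1, 3, 4, 2, 3, 0, 2, 1, 3, 4, 5, 1, 3, 4, 2, 3, 0, 2, 1, 3, 4, 0, 2, 0], [239, 214, 191, 184, 126, 121])]),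
  ([237, 216, 184, 193, 126], [(true, [3, 2, 1, 3, 4, 5, 6, 0, 2, 3, 4, 5, 1, 3, 4, 2, 3, 0, 2, 1, 3, 4, 5, 6, 7, 6, 5, 4, 3, 2, 1, 3, 4, 5, 6, 0, 2, 3, 4, 5, 1, 3, 4, 2, 3, 0, 2, 1, 3, 4, 5, 6, 7, 3, 2, 1, 3, 4, 5, 6, 0, 2, 3, 4, 5, 1, 3, 4, 2, 3, 0, 2, 1, 3, 4, 5, 6, 0, 2, 3, 4, 5, 1, 3, 4, 2, 3, 0, 2, 1, 3, 4, 5, 1, 3, 4, 2, 3, 0, 2, 1, 3, 4, 2, 3, 0, 2, 1, 3, 0, 2], [239, 214, 191, 184, 121])]),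
  ([237, 152, 228, 161, 141, 126], [(true, [2, 3, 4, 5, 6, 0, 2, 3, 4, 5, 1, 3, 4, 2, 3, 0, 2, 1, 3, 4, 5, 6, 7, 6, 5, 4, 3, 2, 1, 3, 4, 5, 6, 0, 2, 3, 4, 5, 1, 3, 4, 2, 3, 0, 2, 1, 3, 4, 5, 6, 7, 2, 3, 4, 5, 6, 0, 2, 3, 4, 5, 1, 3, 4, 2, 3, 0, 2, 1, 3, 4, 5, 6, 0, 2, 3, 4, 5, 1, 3, 4, 2, 3, 0, 2, 1, 3, 4, 5, 1, 3, 4, 2, 3, 0, 2, 1, 3, 4, 2, 3, 0, 2, 1, 3, 1], [239, 214, 191, 184, 126, 121])]),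
  ([237, 221, 183, 174, 141, 126], []),
  ([237, 228, 152, 161, 126], [(true, [3, 2, 1, 3, 4, 5, 6, 0, 2, 3, 4, 5, 1, 3, 4, 2, 3, 0, 2, 1, 3, 4, 5, 6, 7, 6, 5, 4, 3, 2, 1, 3, 4, 5, 6, 0, 2, 3, 4, 5, 1, 3, 4, 2, 3, 0, 2, 1, 3, 4, 5, 6, 7, 3, 2, 1, 3, 4, 5, 6, 0, 2, 3, 4, 5, 1, 3, 4, 2, 3, 0, 2, 1, 3, 4, 5, 6, 0, 2, 3, 4, 5, 1, 3, 4, 2, 3, 0, 2, 1, 3, 4, 5, 1, 3, 4, 2, 3, 0, 2, 1, 3, 4, 2, 3, 0, 2, 1, 3], [239, 214, 191, 184, 121])]),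
  ([237, 221, 183, 174, 126], []),
  ([237, 143, 228, 161, 147, 137], [(true, [2, 3, 4, 5, 6, 0, 2, 3, 4, 5, 1, 3, 4, 2, 3, 0, 2, 1, 3, 4, 5, 6, 7, 6, 5, 4, 3, 2, 1, 3, 4, 5, 6, 0, 2, 3, 4, 5, 1, 3, 4, 2, 3, 0, 2, 1, 3, 4, 5, 6, 7, 2, 3, 4, 5, 6, 0, 2, 3, 4, 5, 1, 3, 4, 2, 3, 0, 2, 1, 3, 4, 5, 6, 0, 2, 3, 4, 5, 1, 3, 4, 2, 3, 0, 2, 1, 3, 4, 5, 1, 3, 4, 2, 3, 0, 2, 1, 3, 4, 0, 2, 3, 1, 0], [239, 214, 191, 184, 126, 121])]),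
  ([237, 202, 184, 209, 143], [(true, [3, 2, 1, 3, 4, 5, 6, 0, 2, 3, 4, 5, 1, 3, 4, 2, 3, 0, 2, 1, 3, 4, 5, 6, 7, 6, 5, 4, 3, 2, 1, 3, 4, 5, 6, 0, 2, 3, 4, 5, 1, 3, 4, 2, 3, 0, 2, 1, 3, 4, 5, 6, 7, 3, 2, 1, 3, 4, 5, 6, 0, 2, 3, 4, 5, 1, 3, 4, 2, 3, 0, 2, 1, 3, 4, 5, 6, 0, 2, 3, 4, 5, 1, 3, 4, 2, 3, 0, 2, 1, 3, 4, 5, 1, 3, 4, 2, 3, 0, 2, 1, 3, 4, 3, 2, 1, 3, 0, 2], [239, 214, 191, 184, 121])]),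
  ([237, 228, 161, 148, 136, 131], []),
  ([237, 212, 199, 184, 131], []),
  ([237, 228, 161, 148, 142, 131], []),
  ([237, 209, 202, 170, 152], []),
  ([237, 228, 161, 143, 137], []),
  ([237, 216, 193, 165, 148], []),
  ([237, 141, 228, 161, 152, 135], [(true, [2, 3, 4, 5, 6, 0, 2, 3, 4, 5, 1, 3, 4, 2, 3, 0, 2, 1, 3, 4, 5, 6, 7, 6, 5, 4, 3, 2, 1, 3, 4, 5, 6, 0, 2, 3, 4, 5, 1, 3, 4, 2, 3, 0, 2, 1, 3, 4, 5, 6, 7, 2, 3, 4, 5, 6, 0, 2, 3, 4, 5, 1, 3, 4, 2, 3, 0, 2, 1, 3, 4, 5, 6, 0, 2, 3, 4, 5, 1, 3, 4, 2, 3, 0, 2, 1, 3, 4, 5, 4, 3, 2, 1, 3, 4, 0, 2, 3, 0, 2, 1, 0], [239, 214, 191, 184, 126, 121])]),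
  ([237, 193, 184, 216, 141], [(true, [3, 2, 1, 3, 4, 5, 6, 0, 2, 3, 4, 5, 1, 3, 4, 2, 3, 0, 2, 1, 3, 4, 5, 6, 7, 6, 5, 4, 3, 2, 1, 3, 4, 5, 6, 0, 2, 3, 4, 5, 1, 3, 4, 2, 3, 0, 2, 1, 3, 4, 5, 6, 7, 3, 2, 1, 3, 4, 5, 6, 0, 2, 3, 4, 5, 1, 3, 4, 2, 3, 0, 2, 1, 3, 4, 5, 6, 0, 2, 3, 4, 5, 1, 3, 4, 2, 3, 0, 2, 1, 3, 4, 5, 2, 3, 0, 2, 1, 3, 4, 3, 2, 1, 3, 0, 2, 1], [239, 214, 191, 184, 121])]),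
  ([228, 161, 152, 237, 135], [(true, [3, 2, 1, 3, 4, 5, 6, 0, 2, 3, 4, 5, 1, 3, 4, 2, 3, 0, 2, 1, 3, 4, 5, 6, 7, 6, 5, 4, 3, 2, 1, 3, 4, 5, 6, 0, 2, 3, 4, 5, 1, 3, 4, 2, 3, 0, 2, 1, 3, 4, 5, 6, 7, 3, 2, 1, 3, 4, 5, 6, 0, 2, 3, 4, 5, 1, 3, 4, 2, 3, 0, 2, 1, 3, 4, 5, 6, 4, 5, 3, 4, 2, 3, 0, 2, 1, 3, 4, 2, 3, 0, 2, 1, 3, 0, 2, 0], [239, 214, 191, 184, 121])]),
  ([237, 216, 193, 184], [(true, [2, 1, 3, 4, 5, 6, 0, 2, 3, 4, 5, 1, 3, 4, 2, 3, 0, 2, 1, 3, 4, 5, 6, 7, 6, 5, 4, 3, 2, 1, 3, 4, 5, 6, 0, 2, 3, 4, 5, 1, 3, 4, 2, 3, 0, 2, 1, 3, 4, 5, 6, 7, 4, 3, 2, 1, 3, 4, 5, 6, 0, 2, 3, 4, 5, 1, 3, 4, 2, 3, 0, 2, 1, 3, 4, 5, 6, 5, 4, 3, 2, 1, 3, 4, 5, 4, 2, 3, 0, 2, 1, 3, 4, 3, 0, 2, 1, 3, 0, 2], [226, 220, 213, 216])]),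
  ([237, 161, 152, 228, 141], [(true, [3, 2, 1, 3, 4, 5, 6, 0, 2, 3, 4, 5, 1, 3, 4, 2, 3, 0, 2, 1, 3, 4, 5, 6, 7, 6, 5, 4, 3, 2, 1, 3, 4, 5, 6, 0, 2, 3, 4, 5, 1, 3, 4, 2, 3, 0, 2, 1, 3, 4, 5, 6, 7, 3, 2, 1, 3, 4, 5, 6, 0, 2, 3, 4, 5, 1, 3, 4, 2, 3, 0, 2, 1, 3, 4, 5, 6, 0, 2, 3, 4, 5, 1, 3, 4, 2, 3, 0, 2, 1, 3, 4, 5, 2, 3, 0, 2, 1, 3, 4, 3, 2, 1, 3, 1], [239, 214, 191, 184, 121])]),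
  ([237, 221, 183, 174, 141], []),
  ([237, 228, 161, 152], [(true, [2, 1, 3, 4, 5, 6, 0, 2, 3, 4, 5, 1, 3, 4, 2, 3, 0, 2, 1, 3, 4, 5, 6, 7, 6, 5, 4, 3, 2, 1, 3, 4, 5, 6, 0, 2, 3, 4, 5, 1, 3, 4, 2, 3, 0, 2, 1, 3, 4, 5, 6, 7, 4, 3, 2, 1, 3, 4, 5, 6, 0, 2, 3, 4, 5, 1, 3, 4, 2, 3, 0, 2, 1, 3, 4, 5, 6, 5, 4, 3, 2, 1, 3, 4, 5, 4, 2, 3, 0, 2, 1, 3, 4, 3, 0, 2, 1, 3], [226, 220, 213, 216])]),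
  ([237, 221, 183, 174], []),
  ([237, 228, 161, 148, 142, 136], []),
  ([237, 212, 199, 184, 142], []),
  ([237, 228, 161, 147, 137], []),
  ([237, 209, 202, 184], []),
  ([237, 228, 161, 147, 143], []),
  ([237, 216, 193, 169, 148], []),
  ([237, 228, 161], [(true, [6, 5, 4, 3, 2, 1, 3, 4, 5, 6, 0, 2, 3, 4, 5, 1, 3, 4, 2, 3, 0, 2, 1, 3, 4, 5, 6, 7, 6, 5, 4, 3, 2, 1, 3, 4, 5, 6, 0, 2, 3, 4, 5, 1, 3, 4, 2, 3, 0, 2, 1, 3, 4, 5, 6, 7, 6, 5, 4, 3, 2, 1, 3, 4, 5, 6, 0, 2, 3, 4, 5, 1, 3, 4, 2, 3, 0, 2, 1, 3, 4, 5, 6, 5, 4, 3, 2, 1, 3, 4, 5, 4, 3, 2, 0], [228, 222, 218])]),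
  ([237, 209, 202], []),
  ([235, 141, 230, 161, 156, 135], [(true, [2, 3, 4, 5, 6, 0, 2, 3, 4, 5, 1, 3, 4, 2, 3, 0, 2, 1, 3, 4, 5, 6, 7, 6, 5, 4, 3, 2, 1, 3, 4, 5, 6, 0, 2, 3, 4, 5, 1, 3, 4, 2, 3, 0, 2, 1, 3, 4, 5, 6, 7, 2, 3, 4, 5, 6, 0, 2, 3, 4, 5, 1, 3, 4, 2, 3, 0, 2, 1, 3, 4, 5, 6, 1, 3, 4, 2, 3, 0, 2, 1, 3, 4, 5, 4, 3, 2, 1, 3, 4, 2, 3, 0, 2, 1, 3, 0, 2, 1, 0], [239, 214, 191, 184, 126, 121])]),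
  ([235, 193, 188, 218, 141], [(true, [3, 2, 1, 3, 4, 5, 6, 0, 2, 3, 4, 5, 1, 3, 4, 2, 3, 0, 2, 1, 3, 4, 5, 6, 7, 6, 5, 4, 3, 2, 1, 3, 4, 5, 6, 0, 2, 3, 4, 5, 1, 3, 4, 2, 3, 0, 2, 1, 3, 4, 5, 6, 7, 3, 2, 1, 3, 4, 5, 6, 0, 2, 3, 4, 5, 1, 3, 4, 2, 3, 0, 2, 1, 3, 4, 5, 6, 4, 5, 3, 4, 2, 3, 0, 2, 1, 3, 4, 5, 2, 3, 0, 2, 1, 3, 4, 2, 3, 0, 2, 1, 3, 0, 2, 1], [239, 214, 191, 184, 121])]),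
  ([230, 161, 156, 235, 135], [(true, [3, 2, 1, 3, 4, 5, 6, 0, 2, 3, 4, 5, 1, 3, 4, 2, 3, 0, 2, 1, 3, 4, 5, 6, 7, 6, 5, 4, 3, 2, 1, 3, 4, 5, 6, 0, 2, 3, 4, 5, 1, 3, 4, 2, 3, 0, 2, 1, 3, 4, 5, 6, 7, 3, 2, 1, 3, 4, 5, 6, 0, 2, 3, 4, 5, 1, 3, 4, 2, 3, 0, 2, 1, 3, 4, 5, 6, 4, 5, 3, 4, 2, 3, 0, 2, 1, 3, 4, 5, 2, 3, 0, 2, 1, 3, 4, 0, 2, 0], [239, 214, 191, 184, 121])]),
  ([235, 218, 193, 188], [(true, [2, 1, 3, 4, 5, 6, 0, 2, 3, 4, 5, 1, 3, 4, 2, 3, 0, 2, 1, 3, 4, 5, 6, 7, 6, 5, 4, 3, 2, 1, 3, 4, 5, 6, 0, 2, 3, 4, 5, 1, 3, 4, 2, 3, 0, 2, 1, 3, 4, 5, 6, 7, 4, 3, 2, 1, 3, 4, 5, 6, 0, 2, 3, 4, 5, 1, 3, 4, 2, 3, 0, 2, 1, 3, 4, 5, 6, 4, 5, 1, 3, 4, 2, 3, 0, 2, 1, 3, 4, 5, 4, 2, 3, 0, 2, 1, 3, 4, 1, 3, 0, 2], [226, 220, 213, 216])]),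
  ([235, 161, 156, 230, 141], [(true, [3, 2, 1, 3, 4, 5, 6, 0, 2, 3, 4, 5, 1, 3, 4, 2, 3, 0, 2, 1, 3, 4, 5, 6, 7, 6, 5, 4, 3, 2, 1, 3, 4, 5, 6, 0, 2, 3, 4, 5, 1, 3, 4, 2, 3, 0, 2, 1, 3, 4, 5, 6, 7, 3, 2, 1, 3, 4, 5, 6, 0, 2, 3, 4, 5, 1, 3, 4, 2, 3, 0, 2, 1, 3, 4, 5, 6, 4, 5, 3, 4, 2, 3, 0, 2, 1, 3, 4, 5, 2, 3, 0, 2, 1, 3, 4, 2, 3, 0, 2, 1, 3, 1], [239, 214, 191, 184, 121])]),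
  ([235, 223, 183, 178, 141], []),
  ([235, 230, 161, 156], [(true, [2, 1, 3, 4, 5, 6, 0, 2, 3, 4, 5, 1, 3, 4, 2, 3, 0, 2, 1, 3, 4, 5, 6, 7, 6, 5, 4, 3, 2, 1, 3, 4, 5, 6, 0, 2, 3, 4, 5, 1, 3, 4, 2, 3, 0, 2, 1, 3, 4, 5, 6, 7, 4, 3, 2, 1, 3, 4, 5, 6, 0, 2, 3, 4, 5, 1, 3, 4, 2, 3, 0, 2, 1, 3, 4, 5, 6, 4, 5, 1, 3, 4, 2, 3, 0, 2, 1, 3, 4, 5, 4, 2, 3, 0, 2, 1, 3, 4, 1, 3], [226, 220, 213, 216])]),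
  ([235, 223, 183, 178], []),
  ([233, 161, 156, 232, 147], [(true, [3, 2, 1, 3, 4, 5, 6, 0, 2, 3, 4, 5, 1, 3, 4, 2, 3, 0, 2, 1, 3, 4, 5, 6, 7, 6, 5, 4, 3, 2, 1, 3, 4, 5, 6, 0, 2, 3, 4, 5, 1, 3, 4, 2, 3, 0, 2, 1, 3, 4, 5, 6, 7, 3, 2, 1, 3, 4, 5, 6, 0, 2, 3, 4, 5, 1, 3, 4, 2, 3, 0, 2, 1, 3, 4, 5, 6, 4, 5, 3, 4, 2, 3, 0, 2, 1, 3, 4, 5, 2, 3, 0, 2, 1, 3, 4, 0, 2, 3, 1, 0], [239, 214, 191, 184, 121])]),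
  ([232, 218, 209, 204], [(true, [2, 1, 3, 4, 5, 6, 0, 2, 3, 4, 5, 1, 3, 4, 2, 3, 0, 2, 1, 3, 4, 5, 6, 7, 6, 5, 4, 3, 2, 1, 3, 4, 5, 6, 0, 2, 3, 4, 5, 1, 3, 4, 2, 3, 0, 2, 1, 3, 4, 5, 6, 7, 4, 3, 2, 1, 3, 4, 5, 6, 0, 2, 3, 4, 5, 1, 3, 4, 2, 3, 0, 2, 1, 3, 4, 5, 6, 4, 5, 1, 3, 4, 2, 3, 0, 2, 1, 3, 4, 5, 4, 2, 3, 0, 2, 1, 3, 4, 0, 2, 1, 3, 2, 1], [226, 220, 213, 216])]),
  ([234, 231, 161, 156, 136], []),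
  ([234, 218, 199, 194], []),
  ([234, 231, 161, 156, 142], []),
  ([230, 224, 209, 204], []),
  ([233, 232, 161, 156], []),
  ([231, 225, 193, 188], []),
  ([236, 229, 161, 153, 141, 135], []),
  ([236, 217, 193, 185, 141], []),
  ([236, 229, 161, 153, 135], []),
  ([236, 217, 193, 185], []),
  ([236, 229, 161, 153, 141], []),
  ([236, 222, 183, 175, 141], []),
  ([236, 229, 161, 153], []),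
  ([236, 222, 183, 175], []),
  ([233, 232, 161, 152, 149], []),
  ([232, 216, 213, 204], []),
  ([235, 230, 161, 148, 138], []),
  ([235, 212, 203, 188], []),
  ([235, 230, 161, 148, 144], []),
  ([228, 222, 218, 204], []),
  ([233, 232, 161], []),
  ([228, 222, 218], []),
  ([238, 227, 160, 152, 141, 135, 126], []),
  ([238, 215, 192, 184, 141, 126], []),
  ([238, 227, 160, 152, 135, 126], []),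
  ([238, 215, 192, 184, 126], []),
  ([238, 227, 160, 152, 141, 126], []),
  ([238, 220, 182, 174, 141, 126], []),
  ([238, 227, 160, 152, 126], []),
  ([238, 220, 182, 174, 126], []),
  ([238, 227, 160, 147, 143, 137], []),
  ([238, 208, 201, 184, 143], []),
  ([238, 227, 160, 148, 136, 131], []),
  ([238, 211, 198, 184, 131], []),
  ([238, 227, 160, 148, 142, 131], []),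
  ([238, 208, 201, 170, 152], []),
  ([238, 227, 160, 143, 137], []),
  ([238, 215, 192, 165, 148], []),
  ([238, 227, 160, 152, 141, 135], []),
  ([238, 215, 192, 184, 141], []),
  ([238, 227, 160, 152, 135], []),
  ([238, 215, 192, 184], []),
  ([238, 227, 160, 152, 141], []),
  ([238, 220, 182, 174, 141], []),
  ([238, 227, 160, 152], []),
  ([238, 220, 182, 174], []),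
  ([238, 227, 160, 148, 142, 136], []),
  ([238, 211, 198, 184, 142], []),
  ([238, 227, 160, 147, 137], []),
  ([238, 208, 201, 184], []),
  ([238, 227, 160, 147, 143], []),
  ([238, 215, 192, 169, 148], []),
  ([238, 227, 160], []),
  ([238, 208, 201], []),
  ([235, 230, 159, 158, 141, 135], []),
  ([235, 218, 191, 190, 141], []),
  ([235, 230, 159, 158, 135], []),
  ([235, 218, 191, 190], []),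
  ([235, 230, 159, 158, 141], []),
  ([235, 223, 181, 180, 141], []),
  ([235, 230, 159, 158], []),
  ([235, 223, 181, 180], []),
  ([233, 232, 159, 158, 147], []),
  ([232, 218, 207, 206], []),
  ([234, 231, 159, 158, 136], []),
  ([234, 218, 197, 196], []),
  ([234, 231, 159, 158, 142], []),
  ([230, 224, 207, 206], []),
  ([233, 232, 159, 158], []),
  ([231, 225, 191, 190], []),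
  ([237, 228, 157, 155, 141, 135], []),
  ([237, 216, 189, 187, 141], []),
  ([237, 228, 157, 155, 135], []),
  ([237, 216, 189, 187], []),
  ([237, 228, 157, 155, 141], []),
  ([237, 221, 179, 177, 141], []),
  ([237, 228, 157, 155], []),
  ([237, 221, 179, 177], []),
  ([233, 232, 156, 154, 151], []),
  ([232, 214, 211, 209], []),
  ([236, 229, 153, 150, 140], []),
  ([236, 207, 198, 193], []),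
  ([236, 229, 153, 150, 146], []),
  ([226, 220, 216, 213], []),
  ([233, 232], []),
  ([], [])]
/-- programs for the classes of involutions of the Weyl group -/
def invE8Z : List (List ℕ × List (Bool × List ℕ × List ℕ)) := [
  ([], []),
  ([239], []),
  ([232, 233], []),
  ([228, 222, 218], []),
  ([226, 220, 213, 216], []),
  ([239, 226, 159, 152, 141, 135, 126, 121], [(true, [4, 5, 6, 7, 2, 3, 4, 5, 6, 0, 2, 3, 4, 5, 1, 3, 4, 2, 3, 0, 2, 1, 3, 4, 5, 6, 7, 5, 3, 4, 2, 3, 0, 2, 1, 3, 4, 5, 6, 4, 3, 0, 2, 1, 3, 4, 5, 1, 3, 2, 0], [142, 136, 131, 239, 121, 159, 226, 148]), (false, [147, 126, 135, 141], [142, 136, 131, 239, 121, 159, 226]), (true, [5, 6, 7, 2, 1, 3, 4, 5, 6, 0, 2, 3, 4, 5, 1, 3, 4, 2, 3, 0, 2, 1, 3, 4, 5, 6, 7, 5, 4, 3, 2,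 1, 3, 4, 5, 0, 2, 3, 4, 2, 1, 3, 0, 2, 1, 0], [142, 136, 159, 131, 226, 239, 148]), (false, [147, 126, 135, 141], [142, 136, 159, 131, 226, 239]), (true, [5, 6, 7, 3, 4, 5, 6, 0, 2, 3, 4, 5, 1, 3, 4, 2, 3, 0, 2, 1, 3, 4, 5, 6, 7, 5, 4, 3, 2, 1, 3, 4, 5, 0, 2, 3, 4, 2, 1, 3, 2, 0], [142, 136, 239, 121, 131, 148]), (false, [147, 126, 135, 141], [142, 136, 239, 121, 131]), (true, [4, 5, 6, 7, 1, 3, 4, 5, 6, 0, 2, 3, 4, 5, 1, 3, 4, 2, 3, 0, 2, 1, 3, 4, 5, 6, 7, 5, 6, 4, 5, 3, 4, 1], [142, 226, 136, 131, 148]), (false, [147, 126, 135, 141], [142, 226, 136, 131]), (true, [6, 7, 2, 1, 3, 4, 5, 6, 0, 2, 3, 4, 5, 1, 3, 4, 2, 3, 0, 2, 1, 3, 4, 5, 6, 7, 2, 1, 3, 4, 5, 6, 4, 3, 0, 2, 1, 3, 4, 5, 4, 0, 2, 1, 0], [226, 220, 213, 216])]),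
  ([239, 214, 191, 184, 141, 126, 121], [(true, [4, 5, 6, 7, 2, 3, 4, 5, 6, 0, 2, 3, 4, 5, 1, 3, 4, 2, 3, 0, 2, 1, 3, 4, 5, 6, 7, 5, 3, 4, 2, 3, 0, 2, 1, 3, 4, 5, 6, 4, 3, 0, 2, 1, 3, 4, 5, 1, 3], [142, 136, 131, 239, 121, 226, 148]), (false, [147, 126, 135, 141], [142, 136, 131, 239, 121, 226]), (true, [5, 6, 7, 2, 1, 3, 4, 5, 6, 0, 2, 3, 4, 5, 1, 3, 4, 2, 3, 0, 2, 1, 3, 4, 5, 6, 7, 5, 4, 3, 2, 1, 3, 4, 5, 0, 2, 3, 4, 2, 1, 3, 0, 2, 1, 0], [142, 136, 159, 131, 226, 148]), (false, [147, 126, 135, 141], [142, 136, 159, 131, 226]), (true, [5, 4, 3, 0, 2, 1, 3, 4, 5, 6, 5, 4, 3, 2, 1, 3, 4, 5, 2, 3, 2, 0], [142, 159, 136, 131, 148]), (false, [147, 126, 135, 141], [142, 159, 136, 131]), (true, [1, 3, 4, 5, 6, 2, 3, 4, 5, 1, 3, 4, 2, 3, 0, 2,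 1, 3, 4, 5, 6, 7, 0, 2, 1, 3, 4, 5, 6, 3, 0, 2, 1, 3, 4, 5, 1, 3, 4, 1, 3, 0, 2, 1, 0], [226, 220, 213, 216])]),
  ([239, 214, 191, 184, 126, 121], [(true, [4, 5, 6, 7, 2, 3, 4, 5, 6, 0, 2, 3, 4, 5, 1, 3, 4, 2, 3, 0, 2, 1, 3, 4, 5, 6, 7, 5, 3, 4, 2, 3, 0, 2, 1, 3, 4, 5, 6, 4, 3, 0, 2, 1, 3, 4, 5, 1, 3], [142, 136, 131, 239, 226, 148]), (false, [147, 126, 135, 141], [142, 136, 131, 239, 226]), (true, [5, 6, 7, 2, 1, 3, 4, 5, 6, 0, 2, 3, 4, 5, 1, 3, 4, 2, 3, 0, 2, 1, 3, 4, 5, 6, 7, 5, 4, 3, 2, 1, 3, 4, 5, 0, 2, 3, 4, 2, 1, 3, 0, 2, 1, 0], [142, 136, 159, 131, 148]), (false, [147, 126, 135, 141], [142, 136, 159, 131]), (true, [1, 3, 4, 5, 6, 2, 3, 4, 5, 1, 3, 4, 2, 3, 0, 2, 1, 3, 4, 5, 6, 7, 1, 3, 4, 5, 6, 3, 2, 1, 3, 4, 5, 1, 3, 4, 3, 0, 2,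 1, 0], [226, 220, 213, 216])]),
  ([239, 214, 191, 184, 121], [(true, [4, 5, 6, 7, 2, 3, 4, 5, 6, 0, 2, 3, 4, 5, 1, 3, 4, 2, 3, 0, 2, 1, 3, 4, 5, 6, 7, 5, 3, 4, 2, 3, 0, 2, 1, 3, 4, 5, 6, 4, 3, 0, 2, 1, 3, 4, 5, 1, 3], [142, 136, 131, 239, 148]), (false, [147, 126, 135, 141], [142, 136, 131, 239]), (true, [5, 4, 2, 3, 0, 2, 1, 3, 4, 5, 6, 7, 2, 3, 0, 2, 1, 3, 4, 5, 6, 4, 3, 0, 2, 1, 3, 4, 5, 1, 3, 4, 3, 0, 2, 1, 0], [226, 220, 213, 216])]),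
  ([239, 226, 159, 121], [(true, [4, 5, 6, 7, 2, 3, 4, 5, 6, 0, 2, 3, 4, 5, 1, 3, 4, 2, 3, 0, 2, 1, 3, 4, 5, 6, 7, 5, 3, 4, 2, 3, 0, 2, 1, 3, 4, 5, 6, 4, 3, 0, 2, 1, 3, 4, 5, 1, 3, 2, 0], [142, 136, 131, 148]), (false, [147, 126, 135, 141], [142, 136, 131]), (true, [6, 7, 5, 6, 4, 5, 3, 4, 2, 3, 0, 2, 1, 3, 4, 5, 6, 7, 2, 3, 0, 2, 1, 3, 4, 5, 6, 4, 3, 0, 2, 1, 3, 4, 5, 1, 3, 4, 3, 0, 2, 1, 0], [228, 222, 218])])]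
/-- representatives and ranks -/
def invE8T : List (List ℕ × List ℕ) := [([239], [479, 2, 241, 245, 251, 259, 269, 281, 293, 303, 311, 317, 321, 323, 337, 347, 355, 361, 365, 367, 375, 381, 385, 387, 393, 397, 399, 403, 405, 407, 413, 417, 419, 423, 425, 427, 431, 433, 435, 437, 441, 443, 445, 447, 449, 451, 455, 457, 459, 461, 463, 465, 467, 469, 471, 473, 475, 477]),
  ([232, 233], [467, 465, 187, 189, 191, 193, 195, 197, 2, 6, 271, 273, 275, 277, 279, 281, 325, 327, 329, 331, 333, 335, 337, 339, 341, 343, 345, 347, 349, 351, 353, 355, 357, 359, 361, 363, 365, 367, 369, 371, 373, 375, 377, 379, 381, 383, 385, 387, 389, 391, 393, 395, 397, 399, 401, 403, 405, 407, 409, 411, 413, 415, 417, 419, 421, 423, 425, 427, 429, 431, 433, 435, 437,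 439, 441, 443, 445, 447, 449, 451, 453, 455, 457, 459, 461, 463, 469, 471, 473, 475, 477, 479]),
  ([228, 222, 218], [457, 437, 445, 105, 107, 109, 111, 131, 139, 141, 149, 151, 153, 155, 4, 243, 245, 185, 207, 209, 0, 247, 249, 251, 14, 253, 255, 257, 259, 263, 265, 267, 269, 277, 279, 281, 335, 337, 287, 289, 291, 293, 299, 301, 303, 345, 347, 307, 309, 311, 353, 355, 319, 321, 323, 367, 313, 315, 317, 359, 361, 379, 381, 387, 391, 393, 399, 405, 411, 413, 419, 425, 433, 443, 357, 477, 479, 363, 365, 383, 385, 395, 397, 407, 401, 403, 415, 417, 427, 435, 421, 423, 429, 431, 439, 441, 453, 455, 459, 447, 461, 449, 463, 465, 451, 467, 469, 471, 473, 475]),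
  ([226, 220, 213, 216], [453, 427, 441, 433, 87, 89, 91, 103, 109, 111, 131, 145, 147, 149, 151, 153, 155, 4, 175, 203, 205, 207, 209, 0, 241, 217, 219, 8, 243, 245, 6, 247, 249, 251, 255, 257, 259, 267, 269, 281, 283, 285, 295, 339, 287, 297, 341, 291, 293, 303, 289, 299, 343, 307, 351, 311, 313, 357, 317, 321, 451, 301, 345, 309, 353, 373, 315, 359, 379, 323, 319, 363, 383, 395, 401, 409, 411, 415, 421, 429, 439, 467, 469, 347, 471, 355, 375, 473, 361, 381, 367, 475, 365, 385, 397, 403, 477, 479, 387, 399, 405, 407, 413, 417, 423, 431, 419, 425, 455, 443, 457, 435, 445, 459, 437, 447, 461, 449, 463, 465])]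
theorem invE8_0 : chkA fastE8 [239, 226, 159, 152, 141, 135, 126, 121] 0 = true := by decide +kernel
theorem invE8_c0 : allLt 32 (fun i => chkI fastE8 id id (invE8Z.map Prod.fst) [239, 226, 159, 152, 141, 135, 126, 121] (i + 0)
    (invE8C.getD (i + 0) ([], []))) = true := by decide +kernel
theorem invE8_c32 : allLt 32 (fun i => chkI fastE8 id id (invE8Z.map Prod.fst) [239, 226, 159, 152, 141, 135, 126, 121] (i + 32)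
    (invE8C.getD (i + 32) ([], []))) = true := by decide +kernel
theorem invE8_c64 : allLt 32 (fun i => chkI fastE8 id id (invE8Z.map Prod.fst) [239, 226, 159, 152, 141, 135, 126, 121] (i + 64)
    (invE8C.getD (i + 64) ([], []))) = true := by decide +kernel
theorem invE8_c96 : allLt 32 (fun i => chkI fastE8 id id (invE8Z.map Prod.fst) [239, 226, 159, 152, 141, 135, 126, 121] (i + 96)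
    (invE8C.getD (i + 96) ([], []))) = true := by decide +kernel
theorem invE8_c128 : allLt 32 (fun i => chkI fastE8 id id (invE8Z.map Prod.fst) [239, 226, 159, 152, 141, 135, 126, 121] (i + 128)
    (invE8C.getD (i + 128) ([], []))) = true := by decide +kernel
theorem invE8_c160 : allLt 32 (fun i => chkI fastE8 id id (invE8Z.map Prod.fst) [239, 226, 159, 152, 141, 135, 126, 121] (i + 160)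
    (invE8C.getD (i + 160) ([], []))) = true := by decide +kernel
theorem invE8_c192 : allLt 32 (fun i => chkI fastE8 id id (invE8Z.map Prod.fst) [239, 226, 159, 152, 141, 135, 126, 121] (i + 192)
    (invE8C.getD (i + 192) ([], []))) = true := by decide +kernel
theorem invE8_c224 : allLt 32 (fun i => chkI fastE8 id id (invE8Z.map Prod.fst) [239, 226, 159, 152, 141, 135, 126, 121] (i + 224)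
    (invE8C.getD (i + 224) ([], []))) = true := by decide +kernel
theorem invE8_c : ∀ i < 256, chkI fastE8 id id (invE8Z.map Prod.fst) [239, 226, 159, 152, 141, 135, 126, 121] i (invE8C.getD i ([], [])) = true := by
  intro i hi
  by_cases h : i < 32
  · simpa [Nat.sub_add_cancel (show 0 ≤ i by omega)] using allLt_spec invE8_c0 (show i - 0 < 32 by omega)
  by_cases h : i < 64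
  · simpa [Nat.sub_add_cancel (show 32 ≤ i by omega)] using allLt_spec invE8_c32 (show i - 32 < 32 by omega)
  by_cases h : i < 96
  · simpa [Nat.sub_add_cancel (show 64 ≤ i by omega)] using allLt_spec invE8_c64 (show i - 64 < 32 by omega)
  by_cases h : i < 128
  · simpa [Nat.sub_add_cancel (show 96 ≤ i by omega)] using allLt_spec invE8_c96 (show i - 96 < 32 by omega)
  by_cases h : i < 160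
  · simpa [Nat.sub_add_cancel (show 128 ≤ i by omega)] using allLt_spec invE8_c128 (show i - 128 < 32 by omega)
  by_cases h : i < 192
  · simpa [Nat.sub_add_cancel (show 160 ≤ i by omega)] using allLt_spec invE8_c160 (show i - 160 < 32 by omega)
  by_cases h : i < 224
  · simpa [Nat.sub_add_cancel (show 192 ≤ i by omega)] using allLt_spec invE8_c192 (show i - 192 < 32 by omega)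
  simpa [Nat.sub_add_cancel (show 224 ≤ i by omega)] using allLt_spec invE8_c224 (show i - 224 < 32 by omega)
theorem invE8_z : (invE8Z.all fun p => chkP fastE8 id id ([] :: invE8T.map Prod.fst) p.2 p.1) = true := by
  decide +kernel
theorem invE8_r : (invE8T.all fun p => rkc fastE8 p.2 (cols fastE8 p.1)) = true := by decide +kernel
theorem invE8_s : (invE8T.all fun p => eqv fastE8 (p.1 ++ p.1) [] && Nat.blt 0 p.2.length) = true := by decide +kernel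

end H12.Inv
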