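import Cfsg.Agent.H12.LieA
import Cfsg.Agent.H11.StFix2

/-! The filtration `Ge n` of the positive roots by index, leading terms (`step`, `comm_Ge`, `comm_fine`) and peeling of
words in normal subgroups of `U` (`peel`). -/

namespace H12.Lev
open Cfsg Cfsg.Lie Equiv H11 H11.StSys

variable {D : ChevalleyDatum} [Good D] {K : Type*} [Field K] {G : Type*} [Group G] {S : StSys D K G}

/-- positive roots of index at least `n` -/
def Ge (D : ChevalleyDatum) (n : ℕ) : Set (Root D) := {r | IsPos r ∧ n ≤ r.1}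

omit [Good D] in
theorem Ge_mono {m n : ℕ} (h : m ≤ n) : Ge D n ⊆ Ge D m := fun _ hr => ⟨hr.1, h.trans hr.2⟩

omit [Good D] in
theorem Ge_le_U (n : ℕ) : S.US (Ge D n) ≤ S.U := US_mono fun _ h => h.1

omit [Good D] in
theorem Ge_top : S.US (Ge D D.nroots) = ⊥ := by
  rw [show Ge D D.nroots = ∅ from Set.eq_empty_of_forall_notMem fun r h => r.2.not_ge h.2, US_empty]

omit [Good D] in
theorem Ge_zero : S.US (Ge D 0) = S.U := congrArg S.US (Set.ext fun _ => ⟨fun h => h.1, fun h => ⟨h, Nat.zero_le _⟩⟩)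

theorem isPos_of_le {r s : Root D} (hr : IsPos r) (h : r ≤ s) : IsPos s :=
  isPos_iff_phi.2 ((isPos_iff_phi.1 hr).trans_le (phi_le_iff.2 h))

theorem phi_lin {u r s : Root D} {i j : ℤ} (e : wt u = i • wt r + j • wt s) : phi u = i * phi r + j * phi s :=
  fv_lin (phiV D) e

theorem lt_of_lin {u r s : Root D} {i j : ℤ} (hr : IsPos r) (hs : IsPos s) (hi : 1 ≤ i) (hj : 1 ≤ j)
    (e : wt u = i • wt r + j • wt s) : r < u ∧ s < u := by
  have := phi_lin e
  have := isPos_iff_phi.1 hr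
  have := isPos_iff_phi.1 hs
  constructor <;> rw [← phi_lt_iff] <;> nlinarith

theorem cl_Ge {r : Root D} (hr : IsPos r) (n : ℕ) : Cl r (Ge D n) := fun _ hs _ _ _ hi hj e =>
  ⟨isPos_of_le hr (lt_of_lin hr hs.1 hi hj e).1.le, hs.2.trans (lt_of_lin hr hs.1 hi hj e).2.le⟩

theorem closed_Ge (n : ℕ) : Closed (Ge D n) := fun _ hr => cl_Ge hr.1 n

theorem conj_Ge {n : ℕ} {g y : G} (hg : g ∈ S.U) (hy : y ∈ S.US (Ge D n)) : g * y * g⁻¹ ∈ S.US (Ge D n) :=
  (Subgroup.mem_normalizer_iff.1 (US_le_normalizer (T := Ge D n) (T' := {r | IsPos r})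
    (fun _ hr => ⟨fun h => not_isPos_rev hr h.1, cl_Ge hr n⟩) hg) y).1 hy

theorem conj_Ge' {n : ℕ} {g y : G} (hg : g ∈ S.U) (hy : y ∈ S.US (Ge D n)) : g⁻¹ * y * g ∈ S.US (Ge D n) := by
  simpa using conj_Ge (inv_mem hg) hy

theorem step {n : ℕ} {v : G} (hv : v ∈ S.US (Ge D n)) : v ∈ S.US (Ge D (n + 1)) ∨
    ∃ m : Root D, m.1 = n ∧ IsPos m ∧ ∃ a, ∃ w ∈ S.US (Ge D (n + 1)), v = S.x m a * w := by
  by_cases h : ∃ m : Root D, m.1 = n ∧ IsPos m
  · obtain ⟨m, rfl, hm⟩ := h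
    obtain ⟨_, ha, w, hw, rfl⟩ := exists_mul_of_union (closed_Ge m) (fun r hr => pos_U r hr.1) (A := {m})
      (B := Ge D (m + 1)) (Set.ext fun r => ⟨fun hr => (eq_or_ne r m).imp_right fun e =>
        ⟨hr.1, hr.2.lt_of_ne fun e' => e (Fin.ext e'.symm)⟩, by
          rintro (rfl | hr)
          exacts [⟨hm, le_rfl⟩, Ge_mono (Nat.le_succ _) hr]⟩) hv
    obtain ⟨a, rfl⟩ := mem_US_singleton.1 ha
    exact .inr ⟨m, rfl, hm, a, w, hw, rfl⟩
  · exact .inl (US_mono (T' := Ge D (n + 1)) (fun r hr => ⟨hr.1, hr.2.lt_of_ne fun e => h ⟨r, e.symm, hr.1⟩⟩) hv)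

theorem eq_zero_of_Ge {m : Root D} {a : K} (h : S.x m a ∈ S.US (Ge D (m + 1))) : a = 0 := by
  by_contra e
  exact Nat.not_succ_le_self _ (mem_of_x_mem_US (closed_Ge _) (fun r hr => pos_U r hr.1) e h).2

theorem comm_Ge {m : Root D} (hm : IsPos m) (a : K) {g : G} (hg : g ∈ S.U) :
    (S.x m a)⁻¹ * g⁻¹ * S.x m a * g ∈ S.US (Ge D (m + 1)) := by
  obtain ⟨u, hu, e⟩ := x_mul_eq closed_isPos pos_U hm a hg
  have : (S.x m a)⁻¹ * g⁻¹ * S.x m a * g = u := by
    calc _ = (S.x m a)⁻¹ * g⁻¹ * (S.x m a * g) := by group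
      _ = u := by rw [e]; group
  rw [this]
  refine US_mono (T' := Ge D (m + 1)) (fun r hr => ⟨hr.1, Nat.succ_le_of_lt ?_⟩) hu
  exact phi_lt_iff.1 (by have := hr.2; simp only [fv_phiV] at this; omega)

/-- commutators with a root element raise the level by that root -/
theorem comm_fine {γ δ ε : Root D} (hδ : IsPos δ) (e : phi ε = phi γ + phi δ) (a : K) {y : G}
    (hy : y ∈ S.US (Ge D (γ + 1))) : y⁻¹ * (S.x δ a)⁻¹ * y * S.x δ a ∈ S.US (Ge D (ε + 1)) := by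
  refine US_induction (C := fun y => y⁻¹ * (S.x δ a)⁻¹ * y * S.x δ a ∈ S.US (Ge D (ε + 1))) (by simp)
    (fun r hr t => ?_) (fun g _ h hh h1 h2 => ?_) hy
  · by_cases h : r = δ
    · subst h; simp [x_inv, S.add]
    have h2 : r ≠ δ.rev := fun e => not_isPos_rev hδ (e ▸ hr.1)
    rw [mul_assoc, S.comm δ r h h2, show (S.x r t)⁻¹ * (S.x δ a)⁻¹ * (S.x δ a * S.x r t *
      wordG S.x (D.commWord K δ r a t)) = wordG S.x (D.commWord K δ r a t) by group]
    refine commWord_mem (T := Ge D (ε + 1)) (fun u i j hi hj e' => ⟨isPos_of_le hδ (lt_of_lin hδ hr.1 hi hj e').1.le, Nat.succ_le_of_lt ?_⟩) _ _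
    have h3 := phi_lin e'
    have h4 := isPos_iff_phi.1 hδ
    have h5 := isPos_iff_phi.1 hr.1
    have h6 : phi γ < phi r := phi_lt_iff.2 (Nat.lt_of_succ_le hr.2)
    exact phi_lt_iff.1 (by nlinarith)
  · have := mul_mem (conj_Ge' (Ge_le_U _ hh) h1) h2
    convert this using 1; group

variable (S) in
/-- a nonzero leading coefficient at `r` forces the whole root subgroup -/
def Lead (X : Subgroup G) (r : Root D) : Prop :=
  ∀ t ≠ 0, ∀ v ∈ S.US (Ge D (r + 1)), S.x r t * v ∈ X → ∀ a, S.x r a ∈ X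

theorem peel {X : Subgroup G} (hU : ∀ b ∈ S.U, ∀ x ∈ X, b * x * b⁻¹ ∈ X) (n : ℕ) : ∀ w : List (ℕ × K), w.length = n →
    (w.map Prod.fst).Nodup → (∀ p ∈ w, ∃ r : Root D, p.1 = r ∧ IsPos r ∧ Lead S X r) → wordG S.x w ∈ X →
    ∀ p ∈ w, p.2 ≠ 0 → ∀ r : Root D, p.1 = r → ∀ a, S.x r a ∈ X := by
  induction n with
  | zero => intro w h; obtain rfl := List.length_eq_zero_iff.1 h; simp
  | succ n ih =>
    intro w hl hn h hw
    classical
    obtain ⟨q, hq, hm⟩ := Finset.exists_min_image w.toFinset Prod.fst (by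
      rw [List.toFinset_nonempty_iff]; rintro rfl; simp at hl)
    simp only [List.mem_toFinset] at hq hm
    obtain ⟨m, e, h1, h2⟩ := h q hq
    obtain ⟨w1, w2, rfl⟩ := List.append_of_mem hq
    have h3 : q.1 ∉ (w1 ++ w2).map Prod.fst ∧ ((w1 ++ w2).map Prod.fst).Nodup := by
      rw [List.map_append, List.map_cons, List.nodup_middle, List.nodup_cons, ← List.map_append] at hn; exact hn
    have h4 : ∀ p ∈ w1 ++ w2, p ∈ w1 ++ q :: w2 := by simp only [List.mem_append, List.mem_cons]; tauto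
    have h5 : ∀ r : Root D, r.1 ∈ (w1 ++ w2).map Prod.fst → r ∈ Ge D (m + 1) := fun r hr => by
      obtain ⟨p, hp, e'⟩ := List.mem_map.1 hr
      obtain ⟨s, a, b, -⟩ := h p (h4 p hp)
      obtain rfl : s = r := Fin.ext (a.symm.trans e')
      exact ⟨b, Nat.succ_le_of_lt ((e ▸ e' ▸ hm p (h4 p hp)).lt_of_ne fun c => h3.1 (e ▸ c ▸ hr))⟩
    have hA : wordG S.x w1 ∈ S.US (Ge D (m + 1)) := wordG_mem rfl fun r hr => h5 r (by simp at hr ⊢; tauto)
    have hB : wordG S.x w2 ∈ S.US (Ge D (m + 1)) := wordG_mem rfl fun r hr => h5 r (by simp at hr ⊢; tauto)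
    rw [wordG_append, wordG_cons, e, xNat_val] at hw
    have h6 : q.2 ≠ 0 → ∀ a, S.x m a ∈ X := fun h0 =>
      h2 _ h0 _ (mul_mem (conj_Ge' (x_mem_U h1 q.2) hA) hB) (by convert hw using 1; group)
    have h7 : S.x m q.2 ∈ X := by
      by_cases h0 : q.2 = 0
      · simp [h0]
      · exact h6 h0 _
    have h8 : wordG S.x (w1 ++ w2) ∈ X := by
      rw [wordG_append]
      convert mul_mem (hU _ (Ge_le_U _ hA) _ (inv_mem h7)) hw using 1; group
    intro p hp h0 r hr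
    rcases (show p = q ∨ p ∈ w1 ++ w2 by simp only [List.mem_append, List.mem_cons] at hp ⊢; tauto) with rfl | hp
    · obtain rfl : r = m := Fin.ext (hr.symm.trans e)
      exact h6 h0
    · exact ih _ (by simp at hl ⊢; omega) h3.2 (fun p hp => h p (h4 p hp)) h8 p hp h0 r hr

/-- `δ` occurs with unit coefficient in the commutator formula of `γ` and `ε` -/
def Occ (γ ε δ : Root D) : Prop :=
  IsPos ε ∧ ε ≠ γ ∧ ((D.commTerms γ ε).map Prod.fst).Nodup ∧ ∃ c ∈ D.commTerms γ ε, c.1 = δ ∧ c.2.1.natAbs = 1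

instance instDecOcc (γ ε δ : Root D) : Decidable (Occ γ ε δ) := by unfold Occ; infer_instance

theorem Occ.mem {X : Subgroup G} (hU : ∀ b ∈ S.U, ∀ x ∈ X, b * x * b⁻¹ ∈ X) {γ ε δ : Root D} (h : Occ γ ε δ)
    (hγ : IsPos γ) (hL : ∀ r, γ < r → Lead S X r) {t : K} (ht : t ≠ 0)
    (hX : (S.x ε 1)⁻¹ * (S.x γ t)⁻¹ * S.x ε 1 * S.x γ t ∈ X) (a : K) : S.x δ a ∈ X := by
  obtain ⟨h1, h2, h3, c, h4, h5, h6⟩ := h
  rw [mul_assoc, S.comm γ ε h2 (fun e => not_isPos_rev hγ (e ▸ h1)), show (S.x ε 1)⁻¹ * (S.x γ t)⁻¹ * (S.x γ t * S.x ε 1 *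
      wordG S.x (D.commWord K γ ε t 1)) = wordG S.x (D.commWord K γ ε t 1) by group] at hX
  refine peel hU _ _ rfl (by simpa [ChevalleyDatum.commWord, Function.comp_def] using h3) (fun p hp => ?_) hX _
    (List.mem_map_of_mem h4) ?_ δ h5 a
  · obtain ⟨c, hc, rfl⟩ := List.mem_map.1 hp
    obtain ⟨u, e, hi, hj, e'⟩ := commTerms_spec hc
    have := (lt_of_lin hγ h1 (by exact_mod_cast hi) (by exact_mod_cast hj) e').1
    exact ⟨u, e, isPos_of_le hγ this.le, hL u this⟩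
  · rcases Int.natAbs_eq_iff.1 h6 with e | e <;> simp [e, ht]

end H12.Lev
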