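import Cfsg.Agent.H11.CentExt2

/-!
# Elementary abelian fixed subgroups in commuting root groups
* `LpU.core`
-/

namespace H12.LpU
open H11 Cfsg Cfsg.Lie StSys Subgroup

variable {Ω G : Type*} [Field Ω] [Group G] {k : ℕ}

theorem reg (r : Fin k → Root chevE6) (h : ∀ i j, 0 ≤ pair (r i) (r j)) : ∃ ψ, Reg ψ ∧ ∀ i, 0 < fv ψ (r i) := by
  set N := 1 + 2 * ∑ s : Root chevE6, |phi s| with eN
  have b : ∀ s, 2 * |phi s| < N := fun s => by
    have := Finset.single_le_sum (f := fun s : Root chevE6 => |phi s|) (fun s _ => abs_nonneg _) (Finset.mem_univ s)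
    omega
  have e : ∀ s, fv (N • ∑ i, cor (r i) + phiV chevE6) s = N * ∑ i, pair (r i) s + phi s := fun s => by
    simp only [fv, phi, pair, add_dotProduct, smul_dotProduct, sum_dotProduct, smul_eq_mul]
  refine ⟨N • ∑ i, cor (r i) + phiV chevE6, fun s s' u => ?_, fun j => ?_⟩
  · rw [e, e] at u
    have b1 := b s
    have b2 := b s'
    generalize ∑ i, pair (r i) s = x at u
    generalize ∑ i, pair (r i) s' = y at u
    obtain rfl : x = y := by
      by_contra w
      rcases lt_or_gt_of_ne w with w | w <;> nlinarith [le_abs_self (phi s), neg_abs_le (phi s), le_abs_self (phi s'), neg_abs_le (phi s')]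
    exact reg_phiV (add_left_cancel u)
  · have := Finset.single_le_sum (f := fun i => pair (r i) (r j)) (fun i _ => h i j) (Finset.mem_univ j)
    simp only [pair_self] at this
    rw [e]; nlinarith [b (r j), neg_abs_le (phi (r j)), abs_nonneg (phi (r j))]

variable [CharP Ω 2]

/-- the twisted fixed vectors -/
def V (Ω : Type*) [Field Ω] [CharP Ω 2] (τ : Equiv.Perm (Fin k)) : AddSubgroup (Fin k → Ω) where
  carrier := {a | ∀ i, a (τ i) = a i ^ 2}
  zero_mem' := fun i => by simp
  add_mem' := fun ha hb i => by simp only [Pi.add_apply, ha i, hb i, add_pow_char]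
  neg_mem' := fun ha i => by simp only [Pi.neg_apply, ha i, CharTwo.neg_eq]

theorem finV (τ : Equiv.Perm (Fin k)) : Finite (V Ω τ) := by
  have o := orderOf_pos τ
  have : {t : Ω | t ^ 2 ^ orderOf τ = t}.Finite := (Polynomial.rootSet_finite (Polynomial.X ^ 2 ^ orderOf τ - Polynomial.X : Polynomial Ω) Ω).subset
    fun t ht => by
      rw [Polynomial.mem_rootSet_of_ne (FiniteField.X_pow_card_sub_X_ne_zero Ω (Nat.one_lt_two_pow o.ne'))]
      simpa [sub_eq_zero] using ht
  refine (Set.Finite.pi' fun _ : Fin k => this).subset fun a ha i => ?_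
  have : ∀ n, a ((τ ^ n) i) = a i ^ 2 ^ n := fun n => by
    induction n with
    | zero => simp
    | succ n ih => rw [pow_succ', Equiv.Perm.mul_apply, ha, ih, ← pow_mul, ← pow_succ]
  simpa using (this (orderOf τ)).symm

theorem cardV [IsAlgClosed Ω] {τ : Equiv.Perm (Fin k)} (h : τ = 1 ∨ τ = finRotate k) : 2 ^ k ≤ Nat.card (V Ω τ) := by
  have := finV (Ω := Ω) τ
  obtain rfl | rfl := h
  · simpa using Nat.card_le_card_of_injective (fun b : Fin k → Bool => (⟨fun i => if b i then 1 else 0, fun i => by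
      cases hb : b i <;> simp [hb]⟩ : V Ω 1)) fun a b e => funext fun i => by
      have := congrFun (congrArg Subtype.val e) i
      cases ha : a i <;> cases hb : b i <;> simp_all
  obtain _ | k := k
  · exact Nat.card_pos
  letI := ZMod.algebra Ω 2
  let ι : GaloisField 2 (k + 1) →ₐ[ZMod 2] Ω := IsAlgClosed.lift
  have c := GaloisField.card 2 (k + 1) (by simp)
  rw [← c]
  refine Nat.card_le_card_of_injective (fun t => (⟨fun i => ι t ^ 2 ^ i.1, fun i => ?_⟩ : V Ω (finRotate (k + 1))))
    fun a b e => ι.injective (by simpa using congrFun (congrArg Subtype.val e) 0)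
  rw [← pow_mul, ← pow_succ]
  dsimp only
  by_cases r : i = Fin.last k
  · have := Fintype.ofFinite (GaloisField 2 (k + 1))
    rw [r, finRotate_last, Fin.val_last, ← c, ← map_pow ι t (Nat.card _), Nat.card_eq_fintype_card, FiniteField.pow_card]; simp
  · rw [coe_finRotate_of_ne_last r]

theorem core [IsAlgClosed Ω] (S : StSys chevE6 Ω G) (σ : MulAut G) (r : Fin k → Root chevE6) (τ : Equiv.Perm (Fin k))
    (h : τ = 1 ∨ τ = finRotate k) (hr : Function.Injective r) (hp : ∀ i j, 0 ≤ pair (r i) (r j))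
    (hσ : ∀ i t, σ (S.x (r i) t) = S.x (r (τ i)) (t ^ 2)) :
    ∃ E : Subgroup G, Finite E ∧ 2 ^ k ≤ Nat.card E ∧ (∀ e ∈ E, σ e = e) ∧ (∀ e ∈ E, e ^ 2 = 1) ∧
      E ≤ closure {g | ∃ i t, g = S.x (r i) t} := by
  classical
  letI : CommGroup (closure {g | ∃ i t, g = S.x (r i) t}) := closureCommGroupOfComm (by
    rintro _ ⟨i, t, rfl⟩ _ ⟨j, u, rfl⟩
    exact S.commute_of_Nc (fun e => by have := hp i j; simp [e] at this) (slE6.Nc_eq_zero (hp i j)) t u)
  let X : Fin k → Ω → closure {g | ∃ i t, g = S.x (r i) t} := fun i t => ⟨S.x (r i) t, subset_closure ⟨i, t, rfl⟩⟩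
  have xa : ∀ i t u, X i (t + u) = X i t * X i u := fun i t u => Subtype.ext (S.add _ _ _).symm
  let f : Multiplicative (Fin k → Ω) →* closure {g | ∃ i t, g = S.x (r i) t} :=
    MonoidHom.mk' (fun a => ∏ i, X i (a.toAdd i)) fun a b => by simp only [toAdd_mul, Pi.add_apply, xa, Finset.prod_mul_distrib]
  have co : ∀ g : Fin k → closure {g | ∃ i t, g = S.x (r i) t}, ((∏ i, g i : Subgroup.closure _) : G) = (List.ofFn fun i => (g i : G)).prod :=
    fun g => by rw [← List.prod_ofFn]; exact (SubmonoidClass.coe_list_prod _).trans (by rw [List.map_ofFn]; rfl)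
  have inj : Function.Injective ((Subgroup.subtype _).comp f) := fun a b e => by
    obtain ⟨ψ, p1, p2⟩ := reg r hp
    have u : ∀ a : Multiplicative (Fin k → Ω), ((Subgroup.subtype _).comp f) a = S.prodL (List.ofFn r) (Function.extend r a.toAdd 0) :=
      fun a => (co _).trans (by simp [prodL, List.map_ofFn, Function.comp_def, hr.extend_apply, X])
    rw [u, u] at e
    have := prodL_inj' (closed_pos ψ) (fun _ s => s) p1 (by simpa using p2) (List.nodup_ofFn.2 hr) e
    exact Multiplicative.toAdd.injective (funext fun i => by simpa [hr.extend_apply] using this (r i) (by simp))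
  have := finV (Ω := Ω) τ
  have e := (V Ω τ).toSubgroup.equivMapOfInjective _ inj
  have : Finite (V Ω τ).toSubgroup := this
  refine ⟨(V Ω τ).toSubgroup.map ((Subgroup.subtype _).comp f), .of_equiv _ e.toEquiv, (cardV h).trans_eq (Nat.card_congr e.toEquiv),
    ?_, ?_, by rintro _ ⟨a, -, rfl⟩; exact (f a).2⟩
  · rintro _ ⟨a, ha, rfl⟩
    change σ ((∏ i, X i (a.toAdd i) : Subgroup.closure _) : G) = ((∏ i, X i (a.toAdd i) : Subgroup.closure _) : G)
    nth_rw 2 [← Equiv.prod_comp τ]
    rw [co, co, map_list_prod, List.map_ofFn]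
    exact congrArg (fun g => (List.ofFn g).prod) (funext fun i => (hσ i _).trans (congrArg _ (ha i).symm))
  · rintro _ ⟨a, -, rfl⟩
    rw [← map_pow, show a ^ 2 = 1 from Multiplicative.toAdd.injective (funext fun i => by
      simp [CharTwo.two_eq_zero]), map_one]

end H12.LpU
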