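import Cfsg.Agent.H28.Lp0
import Cfsg.Agent.H12.LpUA

/-!
# Part U of the local analysis of `²E₆(2)` for large primes
-/

namespace H12.LpU

universe u

theorem u : H28.Lp.UStmt.{u} := fun _ _ _ _ σ _ r τ h hr hp hσ => core _ σ r τ h hr hp hσ

end H12.LpU
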