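import Mathlib
import Cfsg.Prelude.Def_Transfer
import Cfsg.Agent.H12.SL2Pres

/-!
Special rank one groups with abelian unipotent subgroups (Timmesfeld I §5). `H12.SP.beta`, `H12.SP.nEl`, `H12.SP.mu`,
`SP.symm` (special is symmetric), `SP.mu_pow` (mu_{a^k}(a) = a^{-k²}), `SP.elementary_or_divisible`,
`SP.le_commutator_diagonal` (|A| > 3 ⇒ A ≤ [A,H]), `SP.perfect_of_card`, `SP.isPSL2PairOver_zpowers` (⟨a⟩,⟨b(a)⟩ is an
image of SL2(p)), `H12.iso_of_isPSL2PairOver` (⟨A,B⟩ ≅ SL2 or PSL2).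
-/

set_option autoImplicit false

namespace H12

open Cfsg Subgroup
open scoped commutatorElement

variable {G : Type*} [Group G]

namespace SP

variable {A B : Subgroup G}

theorem inv_rel (h : IsSpecialRankOnePair A B) {a b : G} (ha : a ∈ A) (ha1 : a ≠ 1) (hb : b ∈ B)
    (hb1 : b ≠ 1) (e : conjBy A b⁻¹ = conjBy B a⁻¹) : conjBy A b = conjBy B a := by
  have hs := h.2 a ha ha1 b hb hb1 e
  have hX : a * b⁻¹ * a ∈ A ⊔ B :=
    mul_mem (mul_mem (mem_sup_left ha) (mem_sup_right (B.inv_mem hb))) (mem_sup_left ha)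
  have e1 : a * b⁻¹ * a = b⁻¹ * a * b⁻¹ := by
    calc a * b⁻¹ * a = a * (b⁻¹ * a * b) * b⁻¹ := by group
      _ = _ := by rw [hs]; group
  have hC : conjBy B (a * b⁻¹ * a) = A := by
    apply RO.eq_of_mem_mem h.1 (RO.conj_mem_omega (RO.right_mem_omega h.1) hX) (RO.left_mem_omega A B) ha1 _ ha
    rw [mem_conjBy]
    have : (a * b⁻¹ * a)⁻¹ * a * (a * b⁻¹ * a) = b⁻¹ := by
      nth_rewrite 2 [e1]
      group
    rw [this]; exact B.inv_mem hb
  rw [e1, conjBy_mul, conjBy_mul, conjBy_of_mem (B.inv_mem hb), conjBy_eq_iff, inv_inv] at hC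
  exact hC.symm

theorem symm (h : IsSpecialRankOnePair A B) : IsSpecialRankOnePair B A :=
  ⟨RO.symm h.1, fun b hb hb1 a ha ha1 e =>
    RO.special_of_inv (RO.symm h.1) hb ha e (inv_rel h ha ha1 hb hb1 e.symm).symm⟩

open Classical in
/-- `beta u = b(u)⁻¹` -/
noncomputable def beta (A B : Subgroup G) (u : G) : G :=
  if h : ∃ β ∈ B, conjBy A β = conjBy B u⁻¹ then h.choose else 1

/-- `n(u) = u b(u)⁻¹ u` -/
noncomputable def nEl (A B : Subgroup G) (u : G) : G := u * beta A B u * u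

/-- the action of `n(v)` on the points of `Ω - {A, B}`, identified with `A#` -/
noncomputable def mu (A B : Subgroup G) (v x : G) : G := nEl A B v * (beta A B x)⁻¹ * (nEl A B v)⁻¹

variable (h : IsSpecialRankOnePair A B)
include h

theorem beta_spec {u : G} (hu : u ∈ A) (hu1 : u ≠ 1) :
    beta A B u ∈ B ∧ beta A B u ≠ 1 ∧ conjBy A (beta A B u) = conjBy B u⁻¹ ∧
      conjBy A (beta A B u)⁻¹ = conjBy B u ∧ u * beta A B u * u = beta A B u * u * beta A B u := by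
  obtain ⟨b, hb, hb1, e⟩ := h.1.cond_left u hu hu1
  have hex : ∃ β ∈ B, conjBy A β = conjBy B u⁻¹ := ⟨b⁻¹, B.inv_mem hb, e⟩
  have h1 : beta A B u = b⁻¹ := by
    rw [beta, dif_pos hex]
    exact RO.conj_left_inj (RO.symm h.1) hex.choose_spec.1 (B.inv_mem hb) (hex.choose_spec.2.trans e.symm)
  rw [h1]
  refine ⟨B.inv_mem hb, inv_ne_one.2 hb1, e, by rw [inv_inv]; exact inv_rel h hu hu1 hb hb1 e, ?_⟩
  have hs := h.2 u hu hu1 b hb hb1 e
  calc u * b⁻¹ * u = u * (b⁻¹ * u * b) * b⁻¹ := by group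
    _ = _ := by rw [hs]; group

theorem beta_unique {u β : G} (hu : u ∈ A) (hu1 : u ≠ 1) (hβ : β ∈ B)
    (e : conjBy A β⁻¹ = conjBy B u) : beta A B u = β := by
  obtain ⟨h1, -, -, h4, -⟩ := beta_spec h hu hu1
  exact inv_injective (RO.conj_left_inj (RO.symm h.1) (B.inv_mem h1) (B.inv_mem hβ) (h4.trans e.symm))

theorem beta_inv {u : G} (hu : u ∈ A) (hu1 : u ≠ 1) : beta A B u⁻¹ = (beta A B u)⁻¹ := by
  obtain ⟨h1, -, h3, -, -⟩ := beta_spec h hu hu1
  exact beta_unique h (A.inv_mem hu) (inv_ne_one.2 hu1) (B.inv_mem h1) (by rw [inv_inv, h3])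

theorem beta_inj {u v : G} (hu : u ∈ A) (hu1 : u ≠ 1) (hv : v ∈ A) (hv1 : v ≠ 1)
    (e : beta A B u = beta A B v) : u = v := by
  apply RO.conj_left_inj h.1 hu hv
  rw [← (beta_spec h hu hu1).2.2.2.1, ← (beta_spec h hv hv1).2.2.2.1, e]

theorem n_mul {u : G} (hu : u ∈ A) (hu1 : u ≠ 1) :
    nEl A B u * u * (nEl A B u)⁻¹ = beta A B u ∧ nEl A B u * beta A B u * (nEl A B u)⁻¹ = u := by
  obtain ⟨-, -, -, -, h5⟩ := beta_spec h hu hu1
  constructor
  · rw [nEl]; nth_rewrite 1 [h5]; group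
  · rw [nEl]; nth_rewrite 2 [h5]; group

theorem n_mem {u : G} (hu : u ∈ A) (hu1 : u ≠ 1) : nEl A B u ∈ A ⊔ B :=
  mul_mem (mul_mem (mem_sup_left hu) (mem_sup_right (beta_spec h hu hu1).1)) (mem_sup_left hu)

theorem n_swap {u : G} (hu : u ∈ A) (hu1 : u ≠ 1) :
    conjBy A (nEl A B u) = B ∧ conjBy B (nEl A B u) = A := by
  obtain ⟨h1, -, h3, h4, h5⟩ := beta_spec h hu hu1
  constructor
  · rw [nEl, conjBy_mul, conjBy_mul, conjBy_of_mem hu, h3]; simp
  · rw [nEl, h5, conjBy_mul, conjBy_mul, conjBy_of_mem h1, ← h4]; simp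

theorem mu_mem {v x : G} (hv : v ∈ A) (hv1 : v ≠ 1) (hx : x ∈ A) (hx1 : x ≠ 1) :
    mu A B v x ∈ A ∧ mu A B v x ≠ 1 := by
  obtain ⟨h1, h2, -⟩ := beta_spec h hx hx1
  refine ⟨?_, by simpa [mu] using h2⟩
  have := conj_mem_conjBy (B.inv_mem h1) (nEl A B v)
  rwa [(n_swap h hv hv1).2] at this

theorem mu_self {v : G} (hv : v ∈ A) (hv1 : v ≠ 1) : mu A B v v = v⁻¹ := by
  have := (n_mul h hv hv1).2
  rw [mu, ← this]
  simp [this, mul_assoc]
  rw [← mul_assoc, ← inv_inj]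
  simp [← mul_assoc, this]

theorem mu_inv {v x : G} (hx : x ∈ A) (hx1 : x ≠ 1) : mu A B v x⁻¹ = (mu A B v x)⁻¹ := by
  rw [mu, mu, beta_inv h hx hx1]; group

theorem mu_inj {v x y : G} (hx : x ∈ A) (hx1 : x ≠ 1) (hy : y ∈ A) (hy1 : y ≠ 1)
    (e : mu A B v x = mu A B v y) : x = y := by
  apply beta_inj h hx hx1 hy hy1
  simpa [mu] using e

theorem conj_n_pt {v x : G} (hv : v ∈ A) (hv1 : v ≠ 1) (hx : x ∈ A) (hx1 : x ≠ 1) :
    conjBy (conjBy B x) (nEl A B v) = conjBy B (mu A B v x) := by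
  rw [← (beta_spec h hx hx1).2.2.2.1, conjBy_conjBy]
  nth_rewrite 3 [← (n_swap h hv hv1).1]
  rw [conjBy_conjBy, mu]; congr 1; group

theorem mu_key_aux {u v : G} (hu : u ∈ A) (hu1 : u ≠ 1) (hv : v ∈ A) (hv1 : v ≠ 1) (huv : u ≠ v) :
    conjBy B (v⁻¹ * mu A B v (v⁻¹ * u)) = conjBy A (beta A B v * (beta A B u)⁻¹) := by
  have hx : v⁻¹ * u ∈ A := mul_mem (inv_mem hv) hu
  have hx1 : v⁻¹ * u ≠ 1 := fun e => huv (inv_mul_eq_one.1 e).symm
  rw [conjBy_mul, ← conj_n_pt h hv hv1 hx hx1, conjBy_mul A, (beta_spec h hu hu1).2.2.2.1]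
  simp only [conjBy_conjBy]
  congr 1; rw [nEl]; group

theorem mu_key (hA : IsMulCommutative A) {u v : G} (hu : u ∈ A) (hu1 : u ≠ 1) (hv : v ∈ A)
    (hv1 : v ≠ 1) (huv : u ≠ v) :
    mu A B u (v⁻¹ * u) = mu A B v (v⁻¹ * u) * u⁻¹ * v⁻¹ := by
  rw [isMulCommutative_iff] at hA
  have hx : v⁻¹ * u ∈ A := mul_mem (inv_mem hv) hu
  have hx1 : v⁻¹ * u ≠ 1 := fun e => huv (inv_mul_eq_one.1 e).symm
  have e1 := mu_key_aux h hu hu1 hv hv1 huv
  have e2 := mu_key_aux h hv hv1 hu hu1 huv.symm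
  rw [show u⁻¹ * v = (v⁻¹ * u)⁻¹ by group, mu_inv h hx hx1] at e2
  have m1 := (mu_mem h hv hv1 hx hx1).1
  have m2 := (mu_mem h hu hu1 hx hx1).1
  have hβ : beta A B v * (beta A B u)⁻¹ ∈ B :=
    mul_mem (beta_spec h hv hv1).1 (inv_mem (beta_spec h hu hu1).1)
  set w := v⁻¹ * mu A B v (v⁻¹ * u) with hw
  have hwA : w ∈ A := mul_mem (inv_mem hv) m1
  have hw1 : w ≠ 1 := by
    intro e
    rw [e, conjBy_one] at e1
    exact RO.conj_ne_left (RO.symm h.1) hβ e1.symm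
  have b1 : beta A B w = (beta A B v * (beta A B u)⁻¹)⁻¹ :=
    beta_unique h hwA hw1 (inv_mem hβ) (by rw [inv_inv, e1])
  have e3 := (beta_spec h hwA hw1).2.2.1
  rw [b1, show (beta A B v * (beta A B u)⁻¹)⁻¹ = beta A B u * (beta A B v)⁻¹ by group, ← e2] at e3
  have e4 := RO.conj_left_inj h.1 (mul_mem (inv_mem hu) (inv_mem m2)) (inv_mem hwA) e3
  have e5 : mu A B u (v⁻¹ * u) = w * u⁻¹ := by
    rw [← inv_inj]; simp only [mul_inv_rev, inv_inv]; rw [← e4]; group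
  rw [e5, hw, hA _ (inv_mem hv) _ m1, mul_assoc, hA _ (inv_mem hv) _ (inv_mem hu), mul_assoc]

theorem mu_pow (hA : IsMulCommutative A) {a : G} (ha : a ∈ A) (k : ℕ) (hk : 1 ≤ k)
    (hne : ∀ j, 1 ≤ j → j ≤ k → a ^ j ≠ 1) : mu A B (a ^ k) a = (a ^ (k ^ 2))⁻¹ := by
  have ha1 : a ≠ 1 := by simpa using hne 1 le_rfl hk
  induction k, hk using Nat.le_induction with
  | base => simpa using mu_self h ha ha1
  | succ k hk ih =>
    have := mu_key h hA (pow_mem ha (k + 1)) (hne _ (by omega) le_rfl) (pow_mem ha k)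
      (hne _ hk (by omega)) (by simpa [pow_succ] using ha1)
    rw [show (a ^ k)⁻¹ * a ^ (k + 1) = a by group, ih (fun j h1 h2 => hne j h1 (by omega))] at this
    rw [this]; group

theorem h_mem {u v : G} (hu : u ∈ A) (hu1 : u ≠ 1) (hv : v ∈ A) (hv1 : v ≠ 1) :
    nEl A B u * (nEl A B v)⁻¹ ∈ rankOneDiagonal A B := by
  refine ⟨⟨(A ⊔ B).mul_mem (n_mem h hu hu1) ((A ⊔ B).inv_mem (n_mem h hv hv1)), ?_⟩, ?_⟩
  · apply conjBy_eq_self_iff.1
    rw [conjBy_mul, ← conjBy_eq_iff.1 (n_swap h hv hv1).2, (n_swap h hu hu1).2]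
  · apply conjBy_eq_self_iff.1
    rw [conjBy_mul, ← conjBy_eq_iff.1 (n_swap h hv hv1).1, (n_swap h hu hu1).1]

omit h in
theorem mu_eq_conj (u v x : G) :
    mu A B u x = (nEl A B u * (nEl A B v)⁻¹) * mu A B v x * (nEl A B u * (nEl A B v)⁻¹)⁻¹ := by
  simp only [mu]; group

theorem exists_conj_pow (hA : IsMulCommutative A) {a : G} (ha : a ∈ A) (k : ℕ) (hk : 1 ≤ k)
    (hne : ∀ j, 1 ≤ j → j ≤ k → a ^ j ≠ 1) :
    ∃ g : G, conjBy A g = A ∧ g * a * g⁻¹ = a ^ (k ^ 2) := by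
  have ha1 : a ≠ 1 := by simpa using hne 1 le_rfl hk
  have e := mu_eq_conj (A := A) (B := B) (a ^ k) a a
  rw [mu_pow h hA ha k hk hne, mu_self h ha ha1] at e
  refine ⟨_, conjBy_eq_self_iff.2 (h_mem h (pow_mem ha k) (hne k hk le_rfl) ha ha1).1.2, ?_⟩
  rw [← inv_inj, e]; group

theorem prime_of_finite (hA : IsMulCommutative A) {a : G} (ha : a ∈ A) (ha1 : a ≠ 1)
    (hf : IsOfFinOrder a) : (orderOf a).Prime := by
  have h0 := hf.orderOf_pos
  have h1 : orderOf a ≠ 1 := by simpa using ha1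
  rw [Nat.prime_def_lt]
  refine ⟨by omega, fun m hm hd => ?_⟩
  have hm0 : 1 ≤ m := Nat.pos_of_dvd_of_pos hd h0
  obtain ⟨g, -, e⟩ := exists_conj_pow h hA ha m hm0
    (fun j h1 h2 => pow_ne_one_of_lt_orderOf (by omega) (by omega))
  have e2 : orderOf (a ^ (m ^ 2)) = orderOf a := by
    rw [← e]; exact (MulAut.conj g).orderOf_eq a
  rw [hf.orderOf_pow] at e2
  have e3 : (orderOf a).gcd (m ^ 2) = 1 := by
    have := Nat.div_mul_cancel (Nat.gcd_dvd_left (orderOf a) (m ^ 2))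
    rw [e2] at this
    exact Nat.eq_of_mul_eq_mul_left h0 (by rw [this, mul_one])
  exact Nat.eq_one_of_dvd_one (e3 ▸ Nat.dvd_gcd hd (dvd_pow_self m two_ne_zero))

theorem elementary_or_divisible (hA : IsMulCommutative A) :
    (∃ p : ℕ, p.Prime ∧ IsElementaryAbelian p A) ∨
    ((∀ a ∈ A, a ≠ 1 → ¬ IsOfFinOrder a) ∧ ∀ a ∈ A, ∀ n : ℕ, 0 < n → ∃ c ∈ A, c ^ n = a) := by
  have hA' := isMulCommutative_iff.1 hA
  by_cases ht : ∀ a ∈ A, a ≠ 1 → ¬ IsOfFinOrder a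
  · right
    refine ⟨ht, fun a ha n hn => ?_⟩
    by_cases ha1 : a = 1
    · exact ⟨1, one_mem _, by simp [ha1]⟩
    obtain ⟨g, hg, e⟩ := exists_conj_pow h hA ha n hn
      (fun j h1 _ e => ht a ha ha1 (isOfFinOrder_iff_pow_eq_one.2 ⟨j, h1, e⟩))
    refine ⟨(g⁻¹ * a * g) ^ n, pow_mem (mem_conjBy.1 (hg.symm ▸ ha)) n, ?_⟩
    rw [← pow_mul, ← sq]
    have : (g⁻¹ * a * g) ^ (n ^ 2) = g⁻¹ * a ^ (n ^ 2) * g := by
      simpa using conj_pow (a := g⁻¹) (b := a) (i := n ^ 2)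
    rw [this, ← e]; group
  · left
    push Not at ht
    obtain ⟨a, ha, ha1, hf⟩ := ht
    have hp := prime_of_finite h hA ha ha1 hf
    refine ⟨orderOf a, hp, hA, fun y hy => ?_⟩
    by_contra hy1
    have hc : Commute y a := hA' y hy a ha
    have e1 : (y * a) ^ orderOf a = y ^ orderOf a := by rw [hc.mul_pow, pow_orderOf_eq_one, mul_one]
    have hinf : ∀ z ∈ A, Commute z a → z ^ orderOf a ≠ 1 → ¬ IsOfFinOrder z := by
      intro z hz hc hz1 hfz
      have hz0 : z ≠ 1 := by rintro rfl; simp at hz1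
      have hq := prime_of_finite h hA hz hz0 hfz
      have hne : orderOf z ≠ orderOf a := fun e => hz1 (e ▸ pow_orderOf_eq_one z)
      have hcop := (Nat.coprime_primes hq hp).2 hne
      have e2 := hc.orderOf_mul_eq_mul_orderOf_of_coprime hcop
      have hfin : IsOfFinOrder (z * a) := hc.isOfFinOrder_mul hfz hf
      have hne1 : z * a ≠ 1 := by
        intro e
        rw [e, orderOf_one] at e2
        exact hq.one_lt.ne' (Nat.eq_one_of_mul_eq_one_right e2.symm)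
      have := prime_of_finite h hA (mul_mem hz ha) hne1 hfin
      rw [e2] at this
      exact Nat.not_prime_mul hq.one_lt.ne' hp.one_lt.ne' this
    have i1 := hinf y hy hc hy1
    have i2 := hinf (y * a) (mul_mem hy ha) (hc.mul_left (Commute.refl a)) (e1 ▸ hy1)
    have m1 := mu_pow h hA hy (orderOf a) hp.pos
      (fun j h1 _ e => i1 (isOfFinOrder_iff_pow_eq_one.2 ⟨j, h1, e⟩))
    have m2 := mu_pow h hA (mul_mem hy ha) (orderOf a) hp.pos
      (fun j h1 _ e => i2 (isOfFinOrder_iff_pow_eq_one.2 ⟨j, h1, e⟩))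
    rw [sq, pow_mul] at m1 m2
    rw [e1, ← m1] at m2
    have := mu_inj h (mul_mem hy ha) (fun e => i2 (e ▸ IsOfFinOrder.one)) hy
      (fun e => i1 (e ▸ IsOfFinOrder.one)) m2
    exact ha1 (by simpa using this)

theorem mul_mem_commutator (hA : IsMulCommutative A) {u v : G} (hu : u ∈ A) (hu1 : u ≠ 1) (hv : v ∈ A)
    (hv1 : v ≠ 1) (huv : u ≠ v) : u * v ∈ ⁅A, rankOneDiagonal A B⁆ := by
  have hA' := isMulCommutative_iff.1 hA
  have hx : v⁻¹ * u ∈ A := mul_mem (inv_mem hv) hu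
  have hx1 : v⁻¹ * u ≠ 1 := fun e => huv (inv_mul_eq_one.1 e).symm
  have e1 := mu_key h hA hu hu1 hv hv1 huv
  have m1 := (mu_mem h hv hv1 hx hx1).1
  rw [mu_eq_conj u v] at e1
  have := commutator_mem_commutator (inv_mem m1) (h_mem h hu hu1 hv hv1)
  have e2 : ⁅(mu A B v (v⁻¹ * u))⁻¹, nEl A B u * (nEl A B v)⁻¹⁆ = (v * u)⁻¹ := by
    rw [commutatorElement_def, inv_inv, mul_assoc, mul_assoc, ← mul_assoc (nEl A B u * _), e1]; group
  rw [e2] at this
  rw [hA' u hu v hv]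
  simpa using inv_mem this

theorem le_commutator_diagonal (hA : IsMulCommutative A) (hc : 3 < ENat.card A) :
    A ≤ ⁅A, rankOneDiagonal A B⁆ := by
  have hA' := isMulCommutative_iff.1 hA
  intro a ha
  by_cases ha1 : a = 1
  · rw [ha1]; exact one_mem _
  have huniq : ∀ v ∈ A, ∀ w ∈ A, v * v = a → w * w = a → v = w := by
    intro v hv w hw e1 e2
    by_contra hne
    have hd : v * w⁻¹ ∈ A := mul_mem hv (inv_mem hw)
    have hd1 : v * w⁻¹ ≠ 1 := fun e => hne (mul_inv_eq_one.1 e)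
    have hd2 : (v * w⁻¹) ^ 2 = 1 := by
      have : Commute v w⁻¹ := hA' v hv _ (inv_mem hw)
      rw [this.mul_pow, inv_pow, sq, sq, e1, e2, mul_inv_cancel]
    rcases elementary_or_divisible h hA with ⟨p, hp, -, hel⟩ | ⟨ht, -⟩
    · have := Fact.mk hp
      have o1 := orderOf_eq_prime (hel _ hd) hd1
      have o2 := orderOf_eq_prime hd2 hd1
      rw [o1] at o2
      subst o2
      apply ha1
      rw [← e1, ← sq]; exact hel v hv
    · exact ht _ hd hd1 (isOfFinOrder_iff_pow_eq_one.2 ⟨2, two_pos, hd2⟩)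
  have : ∃ v ∈ A, v ≠ 1 ∧ v ≠ a ∧ v * v ≠ a := by
    by_contra hcon
    push Not at hcon
    obtain ⟨w, hw⟩ : ∃ w, ∀ v ∈ A, v * v = a → v = w := by
      by_cases hex : ∃ w ∈ A, w * w = a
      · obtain ⟨w, hw, e⟩ := hex
        exact ⟨w, fun v hv e' => huniq v hv w hw e' e⟩
      · exact ⟨1, fun v hv e' => absurd ⟨v, hv, e'⟩ hex⟩
    have hs : (A : Set G) ⊆ {1, a, w} := by
      intro v hv
      by_cases h1 : v = 1
      · exact Or.inl h1
      by_cases h2 : v = a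
      · exact Or.inr (Or.inl h2)
      exact Or.inr (Or.inr (hw v hv (hcon v hv h1 h2)))
    have h1 := Set.encard_le_encard hs
    have h3 : ({1, a, w} : Set G).encard ≤ 3 := by
      refine (Set.encard_insert_le _ _).trans ?_
      have : ({a, w} : Set G).encard ≤ 2 := by
        refine (Set.encard_insert_le _ _).trans ?_
        rw [Set.encard_singleton]; rfl
      calc _ ≤ (2 : ℕ∞) + 1 := by gcongr
        _ = 3 := rfl
    exact absurd (hc.trans_le (h1.trans h3)) (lt_irrefl _)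
  obtain ⟨v, hv, hv1, hva, hvv⟩ := this
  have := mul_mem_commutator h hA (mul_mem ha (inv_mem hv)) (fun e => hva (mul_inv_eq_one.1 e).symm) hv hv1
    (fun e => hvv (by rw [← e]; nth_rewrite 2 [e]; group))
  simpa using this

theorem le_commutator_of_card (hA : IsMulCommutative A) (hc : 3 < ENat.card A) :
    A ⊔ B ≤ ⁅A ⊔ B, A ⊔ B⁆ := by
  have h1 : A ≤ ⁅A ⊔ B, A ⊔ B⁆ := (le_commutator_diagonal h hA hc).trans
    (commutator_mono le_sup_left (fun x hx => hx.1.1))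
  refine sup_le h1 ?_
  obtain ⟨n, hn, e, -⟩ := RO.exists_swap h.1
  have := (conjBy_le_conjBy (g := n)).2 h1
  rwa [e, conjBy_commutator, conjBy_of_mem hn] at this

theorem isPSL2PairOver_zpowers (hA : IsMulCommutative A) {p : ℕ} [Fact p.Prime]
    (hel : ∀ a ∈ A, a ^ p = 1) {a b : G} (ha : a ∈ A) (ha1 : a ≠ 1) (hb : b ∈ B) (hb1 : b ≠ 1)
    (e : conjBy A b⁻¹ = conjBy B a⁻¹) : IsPSL2PairOver (ZMod p) (zpowers a) (zpowers b) := by
  have hp : p.Prime := Fact.out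
  have helB : ∀ b ∈ B, b ^ p = 1 := by
    intro b hb
    obtain ⟨n, -, e, -⟩ := RO.exists_swap h.1
    rw [← e] at hb
    obtain ⟨c, hc, rfl⟩ := hb
    rw [← map_pow, hel c hc, map_one]
  have hadd : ∀ g : G, g ^ p = 1 → ∀ t u : ZMod p, g ^ (t + u).val = g ^ t.val * g ^ u.val := by
    intro g hg t u
    rw [ZMod.val_add, ← pow_add, ← pow_eq_pow_mod _ hg]
  have hmul : ∀ g : G, g ^ p = 1 → ∀ t u : ZMod p, g ^ (t * u).val = (g ^ t.val) ^ u.val := by
    intro g hg t u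
    rw [ZMod.val_mul, ← pow_mul, ← pow_eq_pow_mod _ hg]
  have hoa : orderOf a = p := orderOf_eq_prime (hel a ha) ha1
  have hβ : beta A B a = b⁻¹ := beta_unique h ha ha1 (inv_mem hb) (by rw [inv_inv]; exact inv_rel h ha ha1 hb hb1 e)
  have hne : ∀ t : ZMod p, ∀ j, 1 ≤ j → j ≤ t.val → a ^ j ≠ 1 := fun t j h1 h2 =>
    pow_ne_one_of_lt_orderOf (by omega) (by have := t.val_lt; omega)
  have hyneg := add_neg_eq_inv (x := fun t : ZMod p => b ^ t.val) (hadd b (helB b hb))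
  have hβt : ∀ t : ZMod p, t ≠ 0 → beta A B (a ^ t.val) = b ^ (-t⁻¹).val := by
    intro t ht
    have h1 : 1 ≤ t.val := Nat.pos_of_ne_zero (by simpa using ht)
    have m1 := mu_pow h hA ha t.val h1 (hne t)
    have m2 := mu_self h (pow_mem ha t.val) (hne t _ h1 le_rfl)
    have m3 : (mu A B (a ^ t.val) (a ^ t.val)) ^ t.val = mu A B (a ^ t.val) a := by
      rw [m1, m2, inv_pow, ← pow_mul, sq]
    rw [mu, mu, conj_pow, hβ, inv_inv] at m3
    have m4 : (beta A B (a ^ t.val))⁻¹ ^ t.val = b := by simpa using m3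
    have hmem := (beta_spec h (pow_mem ha t.val) (hne t _ h1 le_rfl)).1
    have := hmul _ (helB _ (inv_mem hmem)) t t⁻¹
    rw [m4, mul_inv_cancel₀ ht, ZMod.val_one, pow_one] at this
    rw [hyneg, ← this, inv_inv]
  have R : SL2Rel (fun t : ZMod p => a ^ t.val) (fun t => b ^ t.val) := by
    refine ⟨hadd a (hel a ha), hadd b (helB b hb), fun t u ht => ?_⟩
    have h1 : 1 ≤ t.val := Nat.pos_of_ne_zero (by simpa using ht)
    have e1 : wEl (fun t : ZMod p => a ^ t.val) (fun t => b ^ t.val) t = nEl A B (a ^ t.val) := by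
      rw [wEl, nEl, hβt t ht]
    have e2 : a ^ u.val = (a ^ t.val) ^ (t⁻¹ * u).val := by
      rw [← hmul a (hel a ha)]; congr 2; field_simp
    rw [e1, e2, ← conj_pow, (n_mul h (pow_mem ha t.val) (hne t _ h1 le_rfl)).1, hβt t ht,
      ← hmul b (helB b hb)]
    congr 2; ring
  have hz : ∀ g : G, g ^ p = 1 → ∀ x, x ∈ zpowers g ↔ ∃ t : ZMod p, g ^ t.val = x := by
    intro g hg x
    constructor
    · intro hx
      have hf : IsOfFinOrder g := isOfFinOrder_iff_pow_eq_one.2 ⟨p, hp.pos, hg⟩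
      obtain ⟨n, rfl⟩ := (hf.mem_powers_iff_mem_zpowers).2 hx
      exact ⟨n, by simp only [ZMod.val_natCast]; rw [← pow_eq_pow_mod _ hg]⟩
    · rintro ⟨t, rfl⟩
      exact pow_mem (mem_zpowers g) _
  refine R.isPSL2PairOver (fun t u => R.h_mul_of_finite t u) (hz a (hel a ha)) (hz b (helB b hb)) ?_
  intro e'
  have : a ∈ zpowers b := e' ▸ mem_zpowers a
  exact ha1 (RO.eq_one_of_mem_inf h.1 ha ((zpowers_le.2 hb) this))

end SP

theorem mem_center_sl2 {K : Type*} [Field K] {g : Matrix.SpecialLinearGroup (Fin 2) K}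
    (hg : g ∈ center (Matrix.SpecialLinearGroup (Fin 2) K)) : g = 1 ∨ g = -1 := by
  obtain ⟨r, hr, e⟩ := Matrix.SpecialLinearGroup.mem_center_iff.1 hg
  rw [Fintype.card_fin, sq_eq_one_iff] at hr
  rcases hr with rfl | rfl
  · left; apply Subtype.ext; rw [← e]; simp
  · right; apply Subtype.ext; rw [← e]; ext i j; fin_cases i <;> fin_cases j <;> simp

theorem iso_of_isPSL2PairOver {K : Type*} [Field K] {A B : Subgroup G} (h : IsPSL2PairOver K A B) :
    Nonempty (↥(A ⊔ B) ≃* Matrix.SpecialLinearGroup (Fin 2) K) ∨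
    Nonempty (↥(A ⊔ B) ≃* Matrix.ProjectiveSpecialLinearGroup (Fin 2) K) := by
  obtain ⟨φ, h1, h2, -, -⟩ := h
  rw [← h1]
  by_cases hk : φ.ker = ⊥
  · exact Or.inl ⟨(MonoidHom.ofInjective ((MonoidHom.ker_eq_bot_iff φ).1 hk)).symm⟩
  · right
    have : φ.ker = center _ := by
      apply le_antisymm h2
      obtain ⟨⟨g, hg⟩, hg1⟩ := (ne_bot_iff_exists_ne_one).1 hk
      have hg2 : g = -1 := (mem_center_sl2 (h2 hg)).resolve_left (fun e => hg1 (Subtype.ext e))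
      intro z hz
      rcases mem_center_sl2 hz with rfl | rfl
      · exact one_mem _
      · exact hg2 ▸ hg
    exact ⟨(QuotientGroup.quotientKerEquivRange φ).symm.trans (QuotientGroup.quotientMulEquivOfEq this)⟩

end H12
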