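import Mathlib
import Cfsg.Agent.H12.Special

/-!
Abstract root subgroups I (Timmesfeld II §1–2). `CC.*` (commutator case: `symm`, `exists_right`, `exists_left`,
`conj_commute`, `not_rankOne`), `RS.mem_omega_or_central`, `RS.cc_of_mem`, `RS.commute_of_elem`, `RS.eq_of_conj_eq`,
`RS.not_root` (z a is no root element), `RS.eq_of_mem_mem` (TI), `RS.comm_inj`, `RS.members_line`, `RS.line_of_cc`,
`RS.chain` (nilpotency of ⟨A,B,C⟩), `special_of_conj_quadratic`.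
-/

set_option autoImplicit false

namespace H12

open Cfsg Subgroup
open scoped commutatorElement

variable {G : Type*} [Group G]

theorem comm_mem {A B : Subgroup G} {a b : G} (ha : a ∈ A) (hb : b ∈ B) : a * b * a⁻¹ * b⁻¹ ∈ ⁅A, B⁆ :=
  commutator_mem_commutator ha hb

theorem comm_mem' {A B : Subgroup G} {a b : G} (ha : a ∈ A) (hb : b ∈ B) : b * a * b⁻¹ * a⁻¹ ∈ ⁅A, B⁆ := by
  rw [Subgroup.commutator_comm]; exact comm_mem hb ha

theorem exists_ne_one_of_ne_bot {A : Subgroup G} (h : A ≠ ⊥) : ∃ a ∈ A, a ≠ 1 := by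
  obtain ⟨⟨a, ha⟩, h1⟩ := ne_bot_iff_exists_ne_one.1 h
  exact ⟨a, ha, fun e => h1 (Subtype.ext e)⟩

theorem mem_sup_of_commute {A B : Subgroup G} (h : ⁅A, B⁆ = ⊥) {x : G} (hx : x ∈ A ⊔ B) :
    ∃ a ∈ A, ∃ b ∈ B, x = a * b := by
  have hc := commutator_eq_bot_iff.1 h
  refine sup_induction (p := fun x => ∃ a ∈ A, ∃ b ∈ B, x = a * b) ?_ ?_ ?_ hx
  · exact fun a ha => ⟨a, ha, 1, one_mem _, by simp⟩
  · exact fun b hb => ⟨1, one_mem _, b, hb, by simp⟩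
  · rintro _ _ - - ⟨a, ha, b, hb, rfl⟩ ⟨a', ha', b', hb', rfl⟩
    refine ⟨a * a', mul_mem ha ha', b * b', mul_mem hb hb', ?_⟩
    calc a * b * (a' * b') = a * (b * a') * b' := by group
      _ = _ := by rw [← hc a' ha' b hb]; group

theorem commutator_sup_eq_bot {A B C : Subgroup G} (h1 : ⁅A, C⁆ = ⊥) (h2 : ⁅B, C⁆ = ⊥) : ⁅A ⊔ B, C⁆ = ⊥ := by
  rw [commutator_eq_bot_iff] at *
  intro x hx c hc
  exact (commute_of_sup (fun a ha => (h1 a ha c hc).symm) (fun b hb => (h2 b hb c hc).symm) hx).symm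

theorem commutator_sup_eq_bot' {A B C : Subgroup G} (h1 : ⁅C, A⁆ = ⊥) (h2 : ⁅C, B⁆ = ⊥) : ⁅C, A ⊔ B⁆ = ⊥ :=
  commutator_eq_bot_symm (commutator_sup_eq_bot (commutator_eq_bot_symm h1) (commutator_eq_bot_symm h2))

theorem commutator_eq_bot_mono {A B A' B' : Subgroup G} (h : ⁅A, B⁆ = ⊥) (h1 : A' ≤ A) (h2 : B' ≤ B) :
    ⁅A', B'⁆ = ⊥ := eq_bot_iff.2 (h ▸ commutator_mono h1 h2)

theorem isMulCommutative_iff_commutator {A : Subgroup G} : IsMulCommutative A ↔ ⁅A, A⁆ = ⊥ := by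
  rw [isMulCommutative_iff, commutator_eq_bot_iff]

theorem conjBy_le_sup_commutator {A B : Subgroup G} {b : G} (hb : b ∈ B) : conjBy A b ≤ A ⊔ ⁅A, B⁆ := by
  rintro _ ⟨a, ha, rfl⟩
  have : (MulAut.conj b).toMonoidHom a = (b * a * b⁻¹ * a⁻¹) * a := by simp
  rw [this]
  exact mul_mem (mem_sup_right (comm_mem' ha hb)) (mem_sup_left ha)

theorem mem_normalizer_of_le {A : Subgroup G} {g : G} (h1 : conjBy A g ≤ A) (h2 : conjBy A g⁻¹ ≤ A) :
    conjBy A g = A := by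
  apply le_antisymm h1
  have := (conjBy_le_conjBy (g := g)).2 h2
  rwa [conjBy_conjBy_inv] at this

theorem le_centralizer_iff_commutator {A U : Subgroup G} : A ≤ centralizer (U : Set G) ↔ ⁅U, A⁆ = ⊥ := by
  rw [commutator_eq_bot_iff]
  exact ⟨fun h u hu a ha => h ha u hu, fun h a ha u hu => h u hu a ha⟩

/-- quadratic action by conjugation on an abelian subgroup -/
theorem special_of_conj_quadratic {A B N : Subgroup G} (h : IsRankOnePair A B) (hc : IsMulCommutative N)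
    (hN : ∀ x ∈ A ⊔ B, ∀ n ∈ N, x * n * x⁻¹ ∈ N)
    (hq : ∀ a ∈ A, ∀ a' ∈ A, ∀ n ∈ N, a' * (a * n * a⁻¹ * n⁻¹) = (a * n * a⁻¹ * n⁻¹) * a')
    (hX : ∃ x ∈ A ⊔ B, ∃ y ∈ A ⊔ B, ∃ n ∈ N, y * (x * n * x⁻¹ * n⁻¹) ≠ (x * n * x⁻¹ * n⁻¹) * y) :
    IsSpecialRankOnePair A B := by
  classical
  let inst : CommGroup N := { (inferInstance : Group N) with mul_comm := hc.is_comm.comm }
  let act : G → Additive N → Additive N := fun x v =>
    if hx : x ∈ A ⊔ B then Additive.ofMul ⟨x * (v.toMul : G) * x⁻¹, hN x hx _ v.toMul.2⟩ else v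
  have hact : ∀ x ∈ A ⊔ B, ∀ v, ((act x v).toMul : G) = x * (v.toMul : G) * x⁻¹ := by
    intro x hx v
    simp only [act, dif_pos hx, toMul_ofMul]
  have ext : ∀ v w : Additive N, (v.toMul : G) = (w.toMul : G) → v = w := fun v w e =>
    Additive.toMul.injective (Subtype.ext e)
  have hsub : ∀ v w : Additive N, ((v - w).toMul : G) = (v.toMul : G) * (w.toMul : G)⁻¹ := by
    intro v w
    rw [toMul_sub, div_eq_mul_inv]; rfl
  refine RO.special_of_quadratic (V := Additive N) (act := act) h ⟨?_, ?_, ?_⟩ ?_ ?_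
  · intro x hx y hy v
    apply ext
    rw [hact _ (mul_mem hx hy), hact _ hx, hact _ hy]; group
  · intro v
    apply ext
    rw [hact _ (one_mem _)]; group
  · intro x hx v w
    apply ext
    rw [hact _ hx, hsub, hsub, hact _ hx, hact _ hx]; group
  · intro a ha a' ha' v
    apply ext
    rw [hact _ (mem_sup_left ha'), hsub, hact _ (mem_sup_left ha), hq a ha a' ha' _ v.toMul.2]; group
  · obtain ⟨x, hx, y, hy, n, hn, e⟩ := hX
    refine ⟨x, hx, y, hy, Additive.ofMul ⟨n, hn⟩, fun e' => e ?_⟩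
    have := congrArg (fun v : Additive N => (v.toMul : G)) e'
    simp only [hact _ hy, hsub, hact _ hx, toMul_ofMul] at this
    nth_rewrite 2 [← this]; group

namespace CC

variable {S : Set (Subgroup G)} {A B : Subgroup G} (h : RootCommutatorCase S A B)
include h

theorem symm : RootCommutatorCase S B A := by
  obtain ⟨h1, h2, h3, h4⟩ := h
  have key : ∀ (T : Set G) (x : G), closure ((fun y : G => x * y * x⁻¹ * y⁻¹) '' T) =
      closure ((fun y : G => y * x * y⁻¹ * x⁻¹) '' T) := by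
    intro T x
    rw [← closure_inv]
    congr 1
    ext z
    simp only [Set.mem_inv, Set.mem_image]
    constructor
    · rintro ⟨y, hy, e⟩
      exact ⟨y, hy, by rw [← inv_inv z, ← e]; group⟩
    · rintro ⟨y, hy, rfl⟩
      exact ⟨y, hy, by group⟩
  rw [RootCommutatorCase, Subgroup.commutator_comm B A, sup_comm B A]
  exact ⟨h1, h2, fun b hb hb1 => (key _ _).trans (h4 b hb hb1), fun a ha ha1 => (key _ _).symm.trans (h3 a ha ha1)⟩

theorem mem : ⁅A, B⁆ ∈ S := h.1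

theorem left_comm : ⁅A, ⁅A, B⁆⁆ = ⊥ :=
  commutator_eq_bot_iff.2 fun a ha c hc => (h.2.1 c hc a (mem_sup_left ha)).symm

theorem right_comm : ⁅B, ⁅A, B⁆⁆ = ⊥ :=
  commutator_eq_bot_iff.2 fun a ha c hc => (h.2.1 c hc a (mem_sup_right ha)).symm

theorem comm_mul_right {a b b' : G} (ha : a ∈ A) (hb : b ∈ B) (hb' : b' ∈ B) :
    a * (b * b') * a⁻¹ * (b * b')⁻¹ = (a * b * a⁻¹ * b⁻¹) * (a * b' * a⁻¹ * b'⁻¹) := by
  have := h.2.1 _ (comm_mem ha hb') b (mem_sup_right hb)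
  calc _ = (a * b * a⁻¹ * b⁻¹) * (b * (a * b' * a⁻¹ * b'⁻¹)) * b⁻¹ := by group
    _ = _ := by rw [← this]; group

theorem exists_right {a c : G} (ha : a ∈ A) (ha1 : a ≠ 1) (hc : c ∈ ⁅A, B⁆) :
    ∃ b ∈ B, a * b * a⁻¹ * b⁻¹ = c := by
  rw [← h.2.2.1 a ha ha1] at hc
  induction hc using closure_induction with
  | mem x hx => exact hx
  | one => exact ⟨1, one_mem _, by simp⟩
  | mul x y _ _ h1 h2 =>
    obtain ⟨b, hb, rfl⟩ := h1
    obtain ⟨b', hb', rfl⟩ := h2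
    exact ⟨b * b', mul_mem hb hb', comm_mul_right h ha hb hb'⟩
  | inv x _ h1 =>
    obtain ⟨b, hb, rfl⟩ := h1
    refine ⟨b⁻¹, inv_mem hb, ?_⟩
    have := comm_mul_right h ha hb (inv_mem hb)
    rw [eq_inv_iff_mul_eq_one, ← inv_inj, mul_inv_rev, inv_one, ← mul_inv_rev, inv_eq_one]
    have h2 := h.2.1 _ (comm_mem ha hb) _ (mul_mem (mul_mem (mul_mem (mem_sup_left ha) (mem_sup_right (inv_mem hb)))
      (mem_sup_left (inv_mem ha))) (mem_sup_right (inv_mem (inv_mem hb))))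
    rw [← h2, ← this]; group

/-- `b a b⁻¹ = c a` for a suitable `b` -/
theorem exists_conj {a c : G} (ha : a ∈ A) (ha1 : a ≠ 1) (hc : c ∈ ⁅A, B⁆) :
    ∃ b ∈ B, b * a * b⁻¹ = a * c := by
  obtain ⟨b, hb, e⟩ := exists_right h ha ha1 (inv_mem hc)
  refine ⟨b, hb, ?_⟩
  rw [← h.2.1 c hc a (mem_sup_left ha), ← inv_inv c, ← e]; group

theorem exists_left {b c : G} (hb : b ∈ B) (hb1 : b ≠ 1) (hc : c ∈ ⁅A, B⁆) :
    ∃ a ∈ A, a * b * a⁻¹ * b⁻¹ = c := by
  obtain ⟨a, ha, e⟩ := exists_right (symm h) hb hb1 (Subgroup.commutator_comm A B ▸ inv_mem hc)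
  exact ⟨a, ha, by rw [← inv_inv c, ← e]; group⟩

theorem sup_comm' (hA : IsMulCommutative A) (hC : IsMulCommutative ↥⁅A, B⁆) :
    ⁅A ⊔ ⁅A, B⁆, A ⊔ ⁅A, B⁆⁆ = ⊥ := by
  rw [isMulCommutative_iff_commutator] at hA hC
  exact commutator_sup_eq_bot (commutator_sup_eq_bot' hA (left_comm h))
    (commutator_sup_eq_bot' (commutator_eq_bot_symm (left_comm h)) hC)

theorem conj_commute (hA : IsMulCommutative A) {b : G} (hb : b ∈ B) : ⁅A, conjBy A b⁆ = ⊥ :=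
  commutator_eq_bot_mono (commutator_sup_eq_bot' (isMulCommutative_iff_commutator.1 hA) (left_comm h)) le_rfl
    (conjBy_le_sup_commutator hb)

theorem conj_sup {x : G} (hx : x ∈ A ⊔ B) : conjBy (A ⊔ ⁅A, B⁆) x = A ⊔ ⁅A, B⁆ := by
  have hC : ∀ x ∈ A ⊔ B, conjBy ⁅A, B⁆ x = ⁅A, B⁆ := fun x hx => conjBy_of_commute fun c hc => h.2.1 c hc x hx
  have : A ⊔ B ≤ normalizer (A ⊔ ⁅A, B⁆ : Subgroup G) := by
    refine sup_le (fun a ha => conjBy_eq_self_iff.1 (conjBy_of_mem (mem_sup_left ha))) fun b hb => ?_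
    apply conjBy_eq_self_iff.1
    apply mem_normalizer_of_le
    · rw [conjBy_sup, hC b (mem_sup_right hb)]
      exact sup_le (conjBy_le_sup_commutator hb) le_sup_right
    · rw [conjBy_sup, hC _ (mem_sup_right (inv_mem hb))]
      exact sup_le (conjBy_le_sup_commutator (inv_mem hb)) le_sup_right
  exact conjBy_eq_self_iff.2 (this hx)

theorem class_two : ⁅⁅A ⊔ B, A ⊔ B⁆, A ⊔ B⁆ = ⊥ ∨ ¬ (IsMulCommutative A ∧ IsMulCommutative B) := by
  by_cases hc : IsMulCommutative A ∧ IsMulCommutative B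
  swap
  · exact Or.inr hc
  left
  obtain ⟨hA, hB⟩ := hc
  rw [isMulCommutative_iff] at hA hB
  have hle : ⁅A ⊔ B, A ⊔ B⁆ ≤ ⁅A, B⁆ := by
    have k1 : ∀ x ∈ A ⊔ B, (∀ a ∈ A, x * a * x⁻¹ * a⁻¹ ∈ ⁅A, B⁆) → (∀ a ∈ B, x * a * x⁻¹ * a⁻¹ ∈ ⁅A, B⁆) →
        ∀ y ∈ A ⊔ B, x * y * x⁻¹ * y⁻¹ ∈ ⁅A, B⁆ := by
      intro x hx h1 h2 y hy
      refine sup_induction (p := fun y => x * y * x⁻¹ * y⁻¹ ∈ ⁅A, B⁆) h1 h2 ?_ hy
      intro y z hy hz i1 i2
      have := h.2.1 _ i2 y hy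
      have e : x * (y * z) * x⁻¹ * (y * z)⁻¹ = (x * y * x⁻¹ * y⁻¹) * (y * (x * z * x⁻¹ * z⁻¹)) * y⁻¹ := by group
      rw [e, ← this, mul_assoc, mul_inv_cancel_right]
      exact mul_mem i1 i2
    have k2 : ∀ a ∈ A, ∀ y ∈ A ⊔ B, a * y * a⁻¹ * y⁻¹ ∈ ⁅A, B⁆ := fun a ha =>
      k1 a (mem_sup_left ha) (fun a' ha' => by rw [hA a ha a' ha']; simp) (fun b hb => comm_mem ha hb)
    have k3 : ∀ a ∈ B, ∀ y ∈ A ⊔ B, a * y * a⁻¹ * y⁻¹ ∈ ⁅A, B⁆ := fun a ha =>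
      k1 a (mem_sup_right ha) (fun b hb => comm_mem' hb ha) (fun a' ha' => by rw [hB a ha a' ha']; simp)
    rw [commutator_le]
    intro x hx y hy
    refine k1 x hx (fun a ha => ?_) (fun a ha => ?_) y hy
    · simpa [mul_assoc] using inv_mem (k2 a ha x hx)
    · simpa [mul_assoc] using inv_mem (k3 a ha x hx)
  exact commutator_eq_bot_mono (commutator_eq_bot_iff.2 h.2.1) hle le_rfl

theorem not_rankOne (hA : IsMulCommutative A) : ¬ IsRankOnePair A B := by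
  intro hr
  obtain ⟨b, hb, hb1⟩ := RO.exists_ne_one (RO.symm hr)
  exact RO.commutator_ne_bot (RO.pair_conj (RO.symm hr) hb hb1).1 (conj_commute h hA hb)

end CC

namespace RS

variable {S : Set (Subgroup G)} (hS : IsRootSubgroupSet S)
include hS

theorem comm {A : Subgroup G} (hA : A ∈ S) : ∀ a ∈ A, ∀ b ∈ A, a * b = b * a :=
  isMulCommutative_iff.1 (hS.commutative A hA)

theorem comm_self {A : Subgroup G} (hA : A ∈ S) : ⁅A, A⁆ = ⊥ :=
  isMulCommutative_iff_commutator.1 (hS.commutative A hA)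

theorem exists_ne_one {A : Subgroup G} (hA : A ∈ S) : ∃ a ∈ A, a ≠ 1 := exists_ne_one_of_ne_bot (hS.ne_bot A hA)

theorem cc_ne_bot {A B : Subgroup G} (h : RootCommutatorCase S A B) : ⁅A, B⁆ ≠ ⊥ := hS.ne_bot _ h.1

theorem conj_commute_of_not {A B : Subgroup G} (hA : A ∈ S) (hB : B ∈ S) (h : ¬ IsRankOnePair A B) {b : G}
    (hb : b ∈ B) : ⁅A, conjBy A b⁆ = ⊥ := by
  rcases hS.pair A hA B hB with h1 | h1 | h1
  · rw [conjBy_of_commutator_eq_bot h1 hb]; exact comm_self hS hA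
  · exact absurd h1 h
  · exact CC.conj_commute h1 (hS.commutative A hA) hb

theorem omega_subset {A B : Subgroup G} (hA : A ∈ S) : unipotentSubgroups A B ⊆ S := by
  rintro _ ⟨x, -, rfl⟩
  exact hS.conj_mem A hA x

theorem mem_omega_or_central {A C D : Subgroup G} (hA : A ∈ S) (hC : C ∈ S) (h : IsRankOnePair C D)
    (hle : A ≤ C ⊔ D) : A ∈ unipotentSubgroups C D ∨ ∀ a ∈ A, ∀ x ∈ C ⊔ D, a * x = x * a := by
  by_cases hex : ∃ E ∈ unipotentSubgroups C D, IsRankOnePair E A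
  · left
    obtain ⟨E, hE, hr⟩ := hex
    obtain ⟨a, ha, ha1⟩ := RO.exists_ne_one (RO.symm hr)
    have h1 := (RO.pair_conj (RO.symm hr) ha ha1).2
    have h2 := (RO.pair_of_mem h hE (RO.conj_mem_omega hE (hle ha)) (RO.conj_ne (RO.symm hr) ha ha1).symm).2
    rw [← RO.omega_eq_of_mem (D := A) hE (by rw [← h2, h1, sup_comm])]
    exact RO.right_mem_omega hr
  · right
    intro a ha x hx
    refine RO.commute_of_normalizes h (fun E hE => ?_) hx
    exact (RO.eq_of_commute h hE (RO.conj_mem_omega hE (hle ha))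
      (conj_commute_of_not hS (omega_subset hS hC hE) hA (fun hr => hex ⟨E, hE, hr⟩) ha)).symm

theorem cc_of_mem {A B : Subgroup G} (hA : A ∈ S) (hB : B ∈ S) (hC : ⁅A, B⁆ ∈ S) : RootCommutatorCase S A B := by
  rcases hS.pair A hA B hB with h | h | h
  · exact absurd h (hS.ne_bot _ hC)
  · exfalso
    have hle : ⁅A, B⁆ ≤ A ⊔ B := (commutator_mono le_sup_left le_sup_right).trans (commutator_le_self _)
    obtain ⟨b, hb, hb1⟩ := RO.exists_ne_one (RO.symm h)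
    rcases mem_omega_or_central hS hC hA h hle with h1 | h1
    · have hn : A ⊔ B ≤ normalizer (⁅A, B⁆ : Subgroup G) :=
        sup_le (normalizer_commutator_ge_left A B) (normalizer_commutator_ge_right A B)
      obtain ⟨x, hx, e⟩ := h1
      have e2 : A = ⁅A, B⁆ :=
        (conjBy_eq_iff.1 e.symm).trans (conjBy_eq_self_iff.2 (hn (inv_mem hx)))
      apply hb1
      apply RO.eq_one_of_fix' h hb
      rw [e2]
      exact conjBy_eq_self_iff.2 (hn (mem_sup_right hb))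
    · apply RO.commutator_ne_bot (RO.pair_conj (RO.symm h) hb hb1).1
      refine commutator_eq_bot_mono (commutator_sup_eq_bot' (comm_self hS hA) ?_) le_rfl
        (conjBy_le_sup_commutator hb)
      exact commutator_eq_bot_iff.2 fun a ha c hc => (h1 c hc a (mem_sup_left ha)).symm
  · exact h

theorem commute_of_elem {A C : Subgroup G} (hA : A ∈ S) (hC : C ∈ S) {c : G} (hc : c ∈ C) (hc1 : c ≠ 1)
    (h : ∀ a ∈ A, a * c = c * a) : ⁅A, C⁆ = ⊥ := by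
  rcases hS.pair A hA C hC with h1 | h1 | h1
  · exact h1
  · exact absurd (RO.eq_one_of_commute (RO.symm h1) hc h) hc1
  · rw [← h1.2.2.2 c hc hc1, closure_eq_bot_iff]
    rintro _ ⟨a, ha, rfl⟩
    simp [h a ha]

theorem eq_of_conj_eq {A B C : Subgroup G} (hB : B ∈ S) (hC : C ∈ S) (h : IsRankOnePair A B)
    {a c : G} (ha : a ∈ A) (ha1 : a ≠ 1) (hc : c ∈ C) (e : conjBy B c = conjBy B a) (hAC : ⁅A, C⁆ = ⊥) :
    C = A ∧ c = a := by
  have hp := RO.pair_conj h ha ha1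
  have hr : IsRankOnePair B C := by
    by_contra hn
    exact RO.commutator_ne_bot hp.1 (e ▸ conj_commute_of_not hS hB hC hn hc)
  have hc1 : c ≠ 1 := by
    rintro rfl
    rw [conjBy_one] at e
    exact RO.conj_ne h ha ha1 e.symm
  have h2 := (RO.pair_conj (RO.symm hr) hc hc1).2
  rw [e, hp.2] at h2
  have h3 : C ∈ unipotentSubgroups A B := by
    rw [← RO.omega_eq_of_mem (D := C) (RO.right_mem_omega h) (by rw [h2, sup_comm])]
    exact RO.right_mem_omega hr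
  have h4 : C = A := (RO.eq_of_commute h (RO.left_mem_omega A B) h3 hAC).symm
  exact ⟨h4, RO.conj_left_inj h (h4 ▸ hc) ha e⟩

theorem not_root {A B : Subgroup G} (hA : A ∈ S) (hB : B ∈ S) (h : IsRankOnePair A B) {z a : G}
    (hzA : ∀ x ∈ A, x * z = z * x) (hzB : ∀ x ∈ B, x * z = z * x) (hz1 : z ≠ 1) (ha : a ∈ A) (ha1 : a ≠ 1) :
    z * a ∉ rootElements S := by
  rintro ⟨h1, C, hC, hc⟩
  have hAC : ⁅A, C⁆ = ⊥ := commute_of_elem hS hA hC hc h1 fun x hx => by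
    rw [← mul_assoc, hzA x hx, mul_assoc, comm hS hA x hx a ha, mul_assoc]
  have := (eq_of_conj_eq hS hB hC h ha ha1 hc
    (by rw [← hzA a ha, conjBy_mul, conjBy_of_commute hzB]) hAC).2
  exact hz1 (by simpa using this)

theorem eq_of_mem_mem {A B C : Subgroup G} (hA : A ∈ S) (hB : B ∈ S) (h : IsRankOnePair A B) (hC : C ∈ S)
    {x : G} (hx1 : x ≠ 1) (hxA : x ∈ A) (hxC : x ∈ C) : C = A :=
  (eq_of_conj_eq hS hB hC h hxA hx1 hxC rfl
    (commute_of_elem hS hA hC hxC hx1 fun a ha => comm hS hA a ha x hxA)).1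

end RS

/-- `A` is a member of `S` with a rank one partner -/
def NI (S : Set (Subgroup G)) (A : Subgroup G) : Prop := A ∈ S ∧ ∃ B ∈ S, IsRankOnePair A B

theorem ni_of_not_isolated {S : Set (Subgroup G)} {A : Subgroup G} (hA : A ∈ S)
    (h : ¬ IsIsolatedIn (FAdj S) S A) : NI S A := by
  refine ⟨hA, ?_⟩
  by_contra hc
  apply h
  refine ⟨hA, fun B => ⟨fun hb => hc ⟨B, hb.2.1, hb.2.2⟩, fun hb => hc ⟨B, hb.1, RO.symm hb.2.2⟩⟩⟩

namespace RS

variable {S : Set (Subgroup G)} (hS : IsRootSubgroupSet S)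
include hS

theorem ni_conj {A : Subgroup G} (h : NI S A) (g : G) : NI S (conjBy A g) := by
  obtain ⟨hA, B, hB, hr⟩ := h
  exact ⟨hS.conj_mem A hA g, _, hS.conj_mem B hB g, RO.conj hr g⟩

theorem ni_eq {A C : Subgroup G} (h : NI S A) (hC : C ∈ S) {x : G} (hx1 : x ≠ 1) (hxA : x ∈ A) (hxC : x ∈ C) :
    C = A := by
  obtain ⟨hA, B, hB, hr⟩ := h
  exact eq_of_mem_mem hS hA hB hr hC hx1 hxA hxC

theorem cc_not_le {A B : Subgroup G} (h : RootCommutatorCase S A B) {a : G} (ha : a ∈ A) (hc : a ∈ ⁅A, B⁆) :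
    a = 1 := by
  by_contra ha1
  apply cc_ne_bot hS h
  rw [← h.2.2.1 a ha ha1, closure_eq_bot_iff]
  rintro _ ⟨b, hb, rfl⟩
  simp [h.2.1 a hc b (mem_sup_right hb)]

theorem cc_ne {A B : Subgroup G} (hA : A ∈ S) (h : RootCommutatorCase S A B) : A ≠ ⁅A, B⁆ := by
  intro e
  obtain ⟨a, ha, ha1⟩ := exists_ne_one hS hA
  exact ha1 (cc_not_le hS h ha (e ▸ ha))

theorem cc_conj_ne {A B : Subgroup G} (h : RootCommutatorCase S A B) {b : G} (hb : b ∈ B)
    (e : conjBy A b = A) : b = 1 := by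
  by_contra hb1
  obtain ⟨c, hc, hc1⟩ := exists_ne_one hS h.1
  obtain ⟨a, ha, e2⟩ := CC.exists_left h hb hb1 hc
  apply hc1
  apply cc_not_le hS h _ hc
  rw [← e2, mul_assoc, mul_assoc, ← mul_assoc b]
  exact mul_mem ha (e ▸ conj_mem_conjBy (inv_mem ha) b)

theorem comm_inj {A B : Subgroup G} (hA : NI S A) (h : RootCommutatorCase S A B) {a b : G} (ha : a ∈ A)
    (ha1 : a ≠ 1) (hb : b ∈ B) (e : a * b = b * a) : b = 1 := by
  apply cc_conj_ne hS h hb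
  refine ni_eq hS hA (hS.conj_mem A hA.1 b) ha1 ha ?_
  have := conj_mem_conjBy ha b
  rwa [← e, mul_inv_cancel_right] at this

theorem cc_root {A B : Subgroup G} (hA : A ∈ S) (h : RootCommutatorCase S A B) {x : G} (hx : x ∈ A ⊔ ⁅A, B⁆)
    (hx1 : x ≠ 1) : x ∈ ⁅A, B⁆ ∨ ∃ b ∈ B, x ∈ conjBy A b := by
  obtain ⟨a, ha, c, hc, rfl⟩ := mem_sup_of_commute (CC.left_comm h) hx
  by_cases ha1 : a = 1
  · left; simpa [ha1] using hc
  · right
    obtain ⟨b, hb, e⟩ := CC.exists_conj h ha ha1 hc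
    exact ⟨b, hb, e ▸ conj_mem_conjBy ha b⟩

theorem cc_root' {A B : Subgroup G} (hA : A ∈ S) (h : RootCommutatorCase S A B) {x : G} (hx : x ∈ A ⊔ ⁅A, B⁆)
    (hx1 : x ≠ 1) : x ∈ rootElements S := by
  rcases cc_root hS hA h hx hx1 with h1 | ⟨b, -, h1⟩
  · exact ⟨hx1, _, h.1, h1⟩
  · exact ⟨hx1, _, hS.conj_mem A hA b, h1⟩

/-- no other member of a "line" through `A` commutes with a rank one partner `E` of `A` -/
theorem not_commute_of_line {A E D : Subgroup G} (hA : A ∈ S) (hE : E ∈ S) (hr : IsRankOnePair A E)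
    (hAD : ⁅A, D⁆ = ⊥) (hL : ∀ a ∈ A, ∀ d ∈ D, d * a ≠ 1 → d * a ∈ rootElements S) {d : G} (hd : d ∈ D)
    (hdE : ∀ e ∈ E, e * d = d * e) : d = 1 := by
  by_contra hd1
  obtain ⟨a, ha, ha1⟩ := exists_ne_one hS hA
  refine not_root hS hA hE hr (fun x hx => commutator_eq_bot_iff.1 hAD x hx d hd) hdE hd1 ha ha1
    (hL a ha d hd fun e => hd1 ?_)
  exact RO.eq_one_of_commute hr (eq_inv_of_mul_eq_one_left e ▸ inv_mem ha) hdE

theorem eq_of_le_commutator {A B D : Subgroup G} (hA : NI S A) (h : RootCommutatorCase S A B) (hD : D ∈ S)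
    (hle : D ≤ ⁅A, B⁆) : D = ⁅A, B⁆ := by
  obtain ⟨hA, E, hE, hr⟩ := hA
  obtain ⟨d, hd, hd1⟩ := exists_ne_one hS hD
  have key : ∀ e : G, e ∈ ⁅A, B⁆ → (∀ x ∈ E, x * e = e * x) → e = 1 := fun e he hc =>
    not_commute_of_line hS hA hE hr (CC.left_comm h)
      (fun a ha c hc => cc_root' hS hA h (mul_mem (mem_sup_right hc) (mem_sup_left ha))) he hc
  rcases hS.pair E hE _ h.1 with h1 | h1 | h1
  · exact absurd (key d (hle hd) fun x hx => commutator_eq_bot_iff.1 h1 x hx d (hle hd)) hd1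
  · exact eq_of_mem_mem hS h.1 hE (RO.symm h1) hD hd1 (hle hd) hd
  rcases hS.pair E hE _ hD with h2 | h2 | h2
  · exact absurd (key d (hle hd) fun x hx => commutator_eq_bot_iff.1 h2 x hx d hd) hd1
  · exact (eq_of_mem_mem hS hD hE (RO.symm h2) h.1 hd1 hd (hle hd)).symm
  apply le_antisymm hle
  intro c hc
  obtain ⟨e, he, he1⟩ := exists_ne_one hS hE
  have e1 : ⁅E, D⁆ = ⁅E, ⁅A, B⁆⁆ := (h2.2.2.2 d hd hd1).symm.trans (h1.2.2.2 d (hle hd) hd1)
  obtain ⟨d', hd', e2⟩ := CC.exists_right h2 he he1 (e1 ▸ comm_mem he hc)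
  have : d'⁻¹ * c = 1 := by
    apply comm_inj hS ⟨hE, A, hA, RO.symm hr⟩ h1 he he1 (mul_mem (inv_mem (hle hd')) hc)
    calc e * (d'⁻¹ * c) = d'⁻¹ * (d' * e * d'⁻¹ * e⁻¹) * (e * c * e⁻¹ * c⁻¹) * c * e := by group
      _ = d'⁻¹ * (e * d' * e⁻¹ * d'⁻¹)⁻¹ * (e * c * e⁻¹ * c⁻¹) * c * e := by group
      _ = _ := by rw [e2]; group
  rw [inv_mul_eq_one] at this
  exact this ▸ hd'

theorem members_line {A B : Subgroup G} (hA : NI S A) (h : RootCommutatorCase S A B) {D : Subgroup G} :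
    D ∈ membersIn S (A ⊔ ⁅A, B⁆) ↔ (∃ b ∈ B, conjBy A b = D) ∨ D = ⁅A, B⁆ := by
  constructor
  · rintro ⟨hD, hle⟩
    by_cases hc : D ≤ ⁅A, B⁆
    · exact Or.inr (eq_of_le_commutator hS hA h hD hc)
    · left
      obtain ⟨d, hd, hdc⟩ := SetLike.not_le_iff_exists.1 hc
      have hd1 : d ≠ 1 := fun e => hdc (e ▸ one_mem _)
      obtain ⟨b, hb, e⟩ := (cc_root hS hA.1 h (hle hd) hd1).resolve_left hdc
      exact ⟨b, hb, (ni_eq hS (ni_conj hS hA b) hD hd1 e hd).symm⟩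
  · rintro (⟨b, hb, rfl⟩ | rfl)
    · exact ⟨hS.conj_mem A hA.1 b, conjBy_le_sup_commutator hb⟩
    · exact ⟨h.1, le_sup_right⟩

theorem partition_of_cc {A B : Subgroup G} (hA : NI S A) (h : RootCommutatorCase S A B) :
    IsSubgroupPartition (A ⊔ ⁅A, B⁆) (membersIn S (A ⊔ ⁅A, B⁆)) := by
  refine ⟨fun C hC => hC.2, fun x hx hx1 => ?_, fun C hC D hD hne => ?_⟩
  · rcases cc_root hS hA.1 h hx hx1 with h1 | ⟨b, hb, h1⟩
    · exact ⟨_, ⟨h.1, le_sup_right⟩, h1⟩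
    · exact ⟨_, ⟨hS.conj_mem A hA.1 b, conjBy_le_sup_commutator hb⟩, h1⟩
  · rw [eq_bot_iff]
    rintro x ⟨h1, h2⟩
    by_contra hx1
    rcases (members_line hS hA h).1 hC with ⟨b, hb, rfl⟩ | rfl
    · exact hne (ni_eq hS (ni_conj hS hA b) hD.1 hx1 h1 h2).symm
    · rcases (members_line hS hA h).1 hD with ⟨b, hb, rfl⟩ | rfl
      · exact hne (ni_eq hS (ni_conj hS hA b) hC.1 hx1 h2 h1)
      · exact hne rfl

theorem line_of_cc {A B : Subgroup G} (hA : NI S A) (h : RootCommutatorCase S A B) :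
    A ∈ linePartners S ⁅A, B⁆ :=
  ⟨⟨hA.1, cc_ne hS hA.1 h, commutator_eq_bot_symm (CC.left_comm h)⟩,
    by rw [sup_comm]; exact partition_of_cc hS hA h⟩

omit hS in
theorem line_symm {A B : Subgroup G} (hA : A ∈ S) (h : B ∈ linePartners S A) : A ∈ linePartners S B :=
  ⟨⟨hA, h.1.2.1.symm, commutator_eq_bot_symm h.1.2.2⟩, by rw [sup_comm]; exact h.2⟩

theorem line_conj {A B : Subgroup G} (h : B ∈ linePartners S A) (g : G) :
    conjBy B g ∈ linePartners S (conjBy A g) := by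
  obtain ⟨⟨h1, h2, h3⟩, h4, h5, h6⟩ := h
  refine ⟨⟨hS.conj_mem B h1 g, fun e => h2 (conjBy_inj.1 e), commutator_conjBy_eq_bot h3 g⟩,
    fun C hC => hC.2, fun x hx hx1 => ?_, fun C hC D hD hne => ?_⟩
  · rw [← conjBy_sup] at hx ⊢
    obtain ⟨C, hC, hx'⟩ := h5 _ (mem_conjBy.1 hx) (by simpa [mul_assoc, inv_mul_eq_one] using hx1)
    exact ⟨conjBy C g, ⟨hS.conj_mem C hC.1 g, conjBy_le_conjBy.2 hC.2⟩, mem_conjBy.2 hx'⟩
  · rw [← conjBy_sup] at hC hD
    have k : ∀ C, C ∈ membersIn S (conjBy (A ⊔ B) g) → conjBy C g⁻¹ ∈ membersIn S (A ⊔ B) := fun C hC =>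
      ⟨hS.conj_mem C hC.1 _, by simpa using (conjBy_le_conjBy (g := g⁻¹)).2 hC.2⟩
    have := h6 _ (k C hC) _ (k D hD) (fun e => hne (conjBy_inj.1 e))
    rwa [← conjBy_inf, conjBy_eq_bot] at this

omit hS in
theorem line_root {A B : Subgroup G} (h : B ∈ linePartners S A) {x : G} (hx : x ∈ A ⊔ B) (hx1 : x ≠ 1) :
    x ∈ rootElements S := by
  obtain ⟨C, hC, h1⟩ := h.2.2.1 x hx hx1
  exact ⟨hx1, C, hC.1, h1⟩

end RS

end H12
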