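import Mathlib
import Cfsg.Agent.H12.RootSub

/-!
Abstract root subgroups II (Timmesfeld II §1–2). `nilpotent_of_gens`, `RS.chain`, `RS.chain_nilpotent`, `RS.conn_conj`
(components of the rank one graph are invariant), `RS.line_structure` (a line through A is A[A,F]), `RS.exists_opp`,
`RS.rankOne_of_opp`, `RS.line_two_trans`, `RS.preorder_symm`, `RS.special_of_line`, `RS.generates_of_line`, `RO.map_or`.
-/

set_option autoImplicit false

namespace H12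

open Cfsg Subgroup
open scoped commutatorElement

variable {G : Type*} [Group G]

/-- upper central series of a subgroup, in the ambient group -/
def ucs (R : Subgroup G) (k : ℕ) : Subgroup G := (Subgroup.upperCentralSeries R k).map R.subtype

theorem ucs_zero (R : Subgroup G) : ucs R 0 = ⊥ := by simp [ucs]

theorem mem_ucs_succ {R : Subgroup G} {T : Set G} (hT : closure T = R) {k : ℕ} {x : G} (hx : x ∈ R)
    (h : ∀ t ∈ T, x * t * x⁻¹ * t⁻¹ ∈ ucs R k) : x ∈ ucs R (k + 1) := by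
  refine ⟨⟨x, hx⟩, ?_, rfl⟩
  change _ ∈ Subgroup.upperCentralSeries R (k + 1)
  rw [Subgroup.mem_upperCentralSeries_succ_iff]
  rintro ⟨y, hy⟩
  have key : ∀ y (hy : y ∈ closure T), ⁅(⟨x, hx⟩ : R), ⟨y, hT ▸ hy⟩⁆ ∈ Subgroup.upperCentralSeries R k := by
    intro y hy
    induction hy using closure_induction with
    | mem t ht =>
      obtain ⟨z, hz, e⟩ := h t ht
      have : z = ⁅(⟨x, hx⟩ : R), ⟨t, hT ▸ subset_closure ht⟩⁆ := Subtype.ext e
      exact this ▸ hz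
    | one => have : (⟨1, hT ▸ one_mem _⟩ : R) = 1 := rfl
             rw [this]; simp
    | mul y z hy hz h1 h2 =>
      have := mul_mem h1 ((inferInstance : (Subgroup.upperCentralSeries R k).Normal).conj_mem _ h2 ⟨y, hT ▸ hy⟩)
      convert this using 1
      apply Subtype.ext
      simp only [commutatorElement_def, coe_mul, coe_inv]; group
    | inv y hy h1 =>
      have := (inferInstance : (Subgroup.upperCentralSeries R k).Normal).conj_mem _ (inv_mem h1) ⟨y⁻¹, hT ▸ inv_mem hy⟩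
      convert this using 1
      apply Subtype.ext
      simp only [commutatorElement_def, coe_mul, coe_inv]; group
  exact key y (hT ▸ hy)

theorem nilpotent_of_gens {R : Subgroup G} {T : Set G} (hT : closure T = R) {k : ℕ} (h : ∀ t ∈ T, t ∈ ucs R k) :
    Group.IsNilpotent R := by
  refine ⟨⟨k, eq_top_iff.2 fun x _ => ?_⟩⟩
  have : R ≤ ucs R k := hT ▸ (closure_le _).2 (hT ▸ h)
  obtain ⟨y, hy, e⟩ := this x.2
  have : y = x := Subtype.ext e
  exact this ▸ hy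

theorem class_two_sup {X Y : Subgroup G} (hX : ⁅⁅X, X⁆, X⁆ = ⊥) (hY : ⁅⁅Y, Y⁆, Y⁆ = ⊥) (hXY : ⁅X, Y⁆ = ⊥)
    {m n : G} (hm : m ∈ X ⊔ Y) (hn : n ∈ X ⊔ Y) {k : G} (hk : k ∈ X ⊔ Y) :
    m * n * m⁻¹ * n⁻¹ * k = k * (m * n * m⁻¹ * n⁻¹) := by
  obtain ⟨x, hx, y, hy, rfl⟩ := mem_sup_of_commute hXY hm
  obtain ⟨x', hx', y', hy', rfl⟩ := mem_sup_of_commute hXY hn
  have hc := commutator_eq_bot_iff.1 hXY
  have e : x * y * (x' * y') * (x * y)⁻¹ * (x' * y')⁻¹ = (x * x' * x⁻¹ * x'⁻¹) * (y * y' * y⁻¹ * y'⁻¹) := by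
    have h1 := hc x' hx' y hy
    have h2 := hc (x⁻¹ * x'⁻¹) (mul_mem (inv_mem hx) (inv_mem hx')) (y * y' * y⁻¹ * y'⁻¹)
      (commutator_le_self Y (comm_mem hy hy'))
    have h3 := hc x⁻¹ (inv_mem hx) y'⁻¹ (inv_mem hy')
    calc _ = x * (y * x') * y' * y⁻¹ * (x⁻¹ * y'⁻¹) * x'⁻¹ := by group
      _ = x * x' * ((y * y' * y⁻¹ * y'⁻¹) * (x⁻¹ * x'⁻¹)) := by rw [← h1, h3]; group
      _ = _ := by rw [← h2]; group
  rw [e]
  have h1 : ⁅⁅X, X⁆, X ⊔ Y⁆ = ⊥ :=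
    commutator_sup_eq_bot' hX (commutator_eq_bot_mono hXY (commutator_le_self X) le_rfl)
  have h2 : ⁅⁅Y, Y⁆, X ⊔ Y⁆ = ⊥ :=
    commutator_sup_eq_bot' (commutator_eq_bot_mono (commutator_eq_bot_symm hXY) (commutator_le_self Y) le_rfl) hY
  rw [mul_assoc, commutator_eq_bot_iff.1 h2 _ (comm_mem hy hy') k hk, ← mul_assoc,
    commutator_eq_bot_iff.1 h1 _ (comm_mem hx hx') k hk, mul_assoc]

theorem RO.not_nilpotent_of_mem {A B : Subgroup G} (h : IsRankOnePair A B) {R : Subgroup G} (hB : B ≤ R) {a : G}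
    (ha : a ∈ A) (ha1 : a ≠ 1) (haR : a ∈ R) : ¬ Group.IsNilpotent R :=
  RO.not_nilpotent (RO.pair_conj h ha ha1).1 hB (conjBy_le_of_le hB haR)

namespace RS

variable {S : Set (Subgroup G)} (hS : IsRootSubgroupSet S)
include hS

theorem cc_le_sup_conj {A B : Subgroup G} (h : RootCommutatorCase S A B) {b : G} (hb : b ∈ B) (hb1 : b ≠ 1) :
    ⁅A, B⁆ ≤ A ⊔ conjBy A b := by
  intro c hc
  obtain ⟨a, ha, rfl⟩ := CC.exists_left h hb hb1 hc
  rw [mul_assoc, mul_assoc, ← mul_assoc b]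
  exact mul_mem (mem_sup_left ha) (mem_sup_right (conj_mem_conjBy (inv_mem ha) b))

theorem sup_conj_eq {A B : Subgroup G} (h : RootCommutatorCase S A B) {b : G} (hb : b ∈ B) (hb1 : b ≠ 1) :
    A ⊔ conjBy A b = A ⊔ ⁅A, B⁆ :=
  le_antisymm (sup_le le_sup_left (conjBy_le_sup_commutator hb)) (sup_le le_sup_left (cc_le_sup_conj hS h hb hb1))

theorem chain_aux {A B C : Subgroup G} (hA : A ∈ S) (hC : C ∈ S) (h2 : RootCommutatorCase S C B)
    (hAC : ⁅A, C⁆ = ⊥) {b : G} (hb : b ∈ B) (hb1 : b ≠ 1) :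
    ⁅⁅A ⊔ conjBy C b, A ⊔ conjBy C b⁆, A ⊔ conjBy C b⁆ = ⊥ ∧
      (IsMulCommutative ↥(A ⊔ conjBy C b) ↔ ⁅A, ⁅C, B⁆⁆ = ⊥) := by
  have hC' := hS.conj_mem C hC b
  have hcomm : ⁅A, conjBy C b⁆ = ⊥ → ⁅A ⊔ conjBy C b, A ⊔ conjBy C b⁆ = ⊥ := fun h =>
    commutator_sup_eq_bot (commutator_sup_eq_bot' (comm_self hS hA) h)
      (commutator_sup_eq_bot' (commutator_eq_bot_symm h) (comm_self hS hC'))
  constructor
  · rcases hS.pair A hA _ hC' with h | h | h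
    · rw [hcomm h, commutator_bot_left]
    · exfalso
      obtain ⟨f, hf, hf1⟩ := exists_ne_one hS h2.1
      obtain ⟨c, hc, e⟩ := CC.exists_left h2 hb hb1 hf
      have hc1 : c ≠ 1 := by rintro rfl; exact hf1 (by rw [← e]; simp)
      refine not_root hS hC' hA (RO.symm h) (z := c) (a := b * c⁻¹ * b⁻¹)
        (fun x hx => (commutator_eq_bot_iff.1 (CC.conj_commute h2 (hS.commutative C hC) hb) c hc x hx).symm)
        (fun x hx => commutator_eq_bot_iff.1 hAC x hx c hc) hc1 (conj_mem_conjBy (inv_mem hc) b)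
        (by simpa using hc1) ⟨?_, _, h2.1, ?_⟩
      · rwa [← mul_assoc, ← mul_assoc, e]
      · rwa [← mul_assoc, ← mul_assoc, e]
    · exact (CC.class_two h).resolve_right (not_not.2 ⟨hS.commutative A hA, hS.commutative _ hC'⟩)
  · rw [isMulCommutative_iff_commutator]
    constructor
    · intro h
      exact commutator_eq_bot_mono
        (commutator_sup_eq_bot' hAC (commutator_eq_bot_mono h le_sup_left le_sup_right)) le_rfl
        (cc_le_sup_conj hS h2 hb hb1)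
    · intro h
      exact hcomm (commutator_eq_bot_mono (commutator_sup_eq_bot' hAC h) le_rfl (conjBy_le_sup_commutator hb))

theorem chain {A B C : Subgroup G} (hA : A ∈ S) (hB : B ∈ S) (hC : C ∈ S) (h1 : RootCommutatorCase S A B)
    (h2 : RootCommutatorCase S C B) (hAC : ⁅A, C⁆ = ⊥) {b : G} (hb : b ∈ B) (hb1 : b ≠ 1) :
    ⁅⁅A ⊔ conjBy C b, A ⊔ conjBy C b⁆, A ⊔ conjBy C b⁆ = ⊥ ∧
    ⁅⁅conjBy A b ⊔ C, conjBy A b ⊔ C⁆, conjBy A b ⊔ C⁆ = ⊥ ∧
    (IsMulCommutative ↥(A ⊔ conjBy C b) ↔ IsMulCommutative ↥(conjBy A b ⊔ C)) ∧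
    ⁅A ⊔ conjBy C b, conjBy A b ⊔ C⁆ = ⊥ ∧
    (A ⊔ conjBy C b) ⊔ (conjBy A b ⊔ C) = (A ⊔ ⁅A, B⁆) ⊔ (C ⊔ ⁅C, B⁆) ∧
    Group.IsNilpotent ↥(A ⊔ B ⊔ C) := by
  have a1 := chain_aux hS hA hC h2 hAC hb hb1
  have a2 := chain_aux hS hC hA h1 (commutator_eq_bot_symm hAC) hb hb1
  rw [sup_comm C] at a2
  have a3 := chain_aux hS hA hC h2 hAC (inv_mem hb) (inv_ne_one.2 hb1)
  have hXY : ⁅A ⊔ conjBy C b, conjBy A b ⊔ C⁆ = ⊥ :=
    commutator_sup_eq_bot (commutator_sup_eq_bot' (CC.conj_commute h1 (hS.commutative A hA) hb) hAC)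
      (commutator_sup_eq_bot' (commutator_conjBy_eq_bot (commutator_eq_bot_symm hAC) b)
        (commutator_eq_bot_symm (CC.conj_commute h2 (hS.commutative C hC) hb)))
  have hM : (A ⊔ conjBy C b) ⊔ (conjBy A b ⊔ C) = (A ⊔ ⁅A, B⁆) ⊔ (C ⊔ ⁅C, B⁆) := by
    rw [← sup_conj_eq hS h1 hb hb1, ← sup_conj_eq hS h2 hb hb1]; ac_rfl
  refine ⟨a1.1, a2.1, ?_, hXY, hM, ?_⟩
  · rw [a1.2, ← a3.2]
    have e : conjBy A b ⊔ C = conjBy (A ⊔ conjBy C b⁻¹) b := by rw [conjBy_sup, conjBy_conjBy_inv]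
    rw [e]
    refine ⟨fun h => isMulCommutative_conjBy h b, fun h => ?_⟩
    have := isMulCommutative_conjBy h b⁻¹
    rwa [conjBy_inv_conjBy] at this
  · have c2 := @class_two_sup _ _ _ _ a1.1 a2.1 hXY
    rw [hM] at c2
    set M := (A ⊔ ⁅A, B⁆) ⊔ (C ⊔ ⁅C, B⁆) with hMdef
    have mA : A ≤ M := le_sup_left.trans le_sup_left
    have mD : ⁅A, B⁆ ≤ M := le_sup_right.trans le_sup_left
    have mC : C ≤ M := le_sup_left.trans le_sup_right
    have mE : ⁅C, B⁆ ≤ M := le_sup_right.trans le_sup_right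
    have hT : closure ((A : Set G) ∪ B ∪ C) = A ⊔ B ⊔ C := by
      rw [Subgroup.closure_union, Subgroup.closure_union, closure_eq, closure_eq, closure_eq]
    set R := A ⊔ B ⊔ C
    have rA : A ≤ R := le_sup_left.trans le_sup_left
    have rB : B ≤ R := le_sup_right.trans le_sup_left
    have rC : C ≤ R := le_sup_right
    have rM : M ≤ R := sup_le (sup_le rA ((commutator_mono rA rB).trans (commutator_le_self R)))
      (sup_le rC ((commutator_mono rC rB).trans (commutator_le_self R)))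
    have step : ∀ k x, x ∈ R → (∀ t ∈ A, x * t * x⁻¹ * t⁻¹ ∈ ucs R k) → (∀ t ∈ B, x * t * x⁻¹ * t⁻¹ ∈ ucs R k) →
        (∀ t ∈ C, x * t * x⁻¹ * t⁻¹ ∈ ucs R k) → x ∈ ucs R (k + 1) := by
      intro k x hx i1 i2 i3
      refine mem_ucs_succ hT hx ?_
      rintro t ((ht | ht) | ht)
      exacts [i1 t ht, i2 t ht, i3 t ht]
    have triv : ∀ k (x t : G), x * t = t * x → x * t * x⁻¹ * t⁻¹ ∈ ucs R k := by
      intro k x t e
      rw [e]; simp
    have cm : ∀ m ∈ M, ∀ n ∈ M, m * n * m⁻¹ * n⁻¹ ∈ M := fun m hm n hn =>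
      mul_mem (mul_mem (mul_mem hm hn) (inv_mem hm)) (inv_mem hn)
    have s1 : ∀ d ∈ ⁅A, B⁆, ∀ e ∈ ⁅C, B⁆, d * e * d⁻¹ * e⁻¹ ∈ ucs R 1 := by
      intro d hd e he
      refine step 0 _ (rM (cm d (mD hd) e (mE he))) (fun t ht => triv _ _ _ (c2 (mD hd) (mE he) (mA ht)))
        (fun t ht => triv _ _ _ ?_) (fun t ht => triv _ _ _ (c2 (mD hd) (mE he) (mC ht)))
      have e1 : Commute d t := h1.2.1 d hd t (mem_sup_right ht)
      have e2 : Commute e t := h2.2.1 e he t (mem_sup_right ht)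
      exact ((e1.mul_left e2).mul_left e1.inv_left).mul_left e2.inv_left
    have s2 : ∀ (D C E : Subgroup G), D ≤ M → C ≤ M → E ≤ M → (∀ d ∈ D, ∀ t ∈ B, d * t = t * d) →
        (∀ c ∈ C, ∀ t ∈ B, c⁻¹ * t * c * t⁻¹ ∈ E) → (∀ d ∈ D, ∀ e ∈ E, d * e * d⁻¹ * e⁻¹ ∈ ucs R 1) →
        ∀ d ∈ D, ∀ c ∈ C, d * c * d⁻¹ * c⁻¹ ∈ ucs R 2 := by
      intro D C E mD mC mE i1 i2 i3 d hd c hc
      refine step 1 _ (rM (cm d (mD hd) c (mC hc))) (fun t ht => triv _ _ _ (c2 (mD hd) (mC hc) (mA ht)))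
        (fun t ht => ?_) (fun t ht => triv _ _ _ (c2 (mD hd) (mC hc) (hMdef ▸ mem_sup_right (mem_sup_left ht))))
      have j := i3 d hd _ (i2 c hc t ht)
      have j2 := c2 (mD hd) (mE (i2 c hc t ht)) (mC hc)
      have j3 := c2 (mD hd) (mC hc) (cm _ (mD hd) _ (mE (i2 c hc t ht)))
      set e := c⁻¹ * t * c * t⁻¹ with he
      have e1 : t * (d * c * d⁻¹ * c⁻¹) * t⁻¹ = (d * c * d⁻¹ * c⁻¹) * (d * e * d⁻¹ * e⁻¹) := by
        have k1 : t * d * t⁻¹ = d := by rw [← i1 d hd t ht]; group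
        have k2 : t * c * t⁻¹ = c * e := by rw [he]; group
        calc _ = (t * d * t⁻¹) * (t * c * t⁻¹) * (t * d * t⁻¹)⁻¹ * (t * c * t⁻¹)⁻¹ := by group
          _ = (d * c * d⁻¹ * c⁻¹) * (c * (d * e * d⁻¹ * e⁻¹)) * c⁻¹ := by rw [k1, k2]; group
          _ = _ := by rw [← j2]; group
      have e2 : d * c * d⁻¹ * c⁻¹ * t * (d * c * d⁻¹ * c⁻¹)⁻¹ * t⁻¹ = (d * e * d⁻¹ * e⁻¹)⁻¹ := by
        calc _ = d * c * d⁻¹ * c⁻¹ * (t * (d * c * d⁻¹ * c⁻¹) * t⁻¹)⁻¹ := by group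
          _ = _ := by rw [e1, j3]; group
      rw [e2]
      exact inv_mem j
    have s2a := s2 ⁅A, B⁆ C ⁅C, B⁆ mD mC mE (fun d hd t ht => h1.2.1 d hd t (mem_sup_right ht))
      (fun c hc t ht => by simpa using comm_mem (inv_mem hc) ht) s1
    have s2b := s2 ⁅C, B⁆ A ⁅A, B⁆ mE mA mD (fun d hd t ht => h2.2.1 d hd t (mem_sup_right ht))
      (fun c hc t ht => by simpa using comm_mem (inv_mem hc) ht)
      (fun d hd e he => by simpa [mul_assoc] using inv_mem (s1 e he d hd))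
    have s3a : ∀ d ∈ ⁅A, B⁆, d ∈ ucs R 3 := fun d hd =>
      step 2 _ (rM (mD hd)) (fun t ht => triv _ _ _ (h1.2.1 d hd t (mem_sup_left ht)))
        (fun t ht => triv _ _ _ (h1.2.1 d hd t (mem_sup_right ht))) (s2a d hd)
    have s3b : ∀ d ∈ ⁅C, B⁆, d ∈ ucs R 3 := fun d hd =>
      step 2 _ (rM (mE hd)) (s2b d hd) (fun t ht => triv _ _ _ (h2.2.1 d hd t (mem_sup_right ht)))
        (fun t ht => triv _ _ _ (h2.2.1 d hd t (mem_sup_left ht)))
    refine nilpotent_of_gens hT (k := 4) ?_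
    rintro x ((hx | hx) | hx)
    · exact step 3 _ (rA hx) (fun t ht => triv _ _ _ (comm hS hA x hx t ht)) (fun t ht => s3a _ (comm_mem hx ht))
        (fun t ht => triv _ _ _ (commutator_eq_bot_iff.1 hAC x hx t ht))
    · exact step 3 _ (rB hx) (fun t ht => s3a _ (comm_mem' ht hx)) (fun t ht => triv _ _ _ (comm hS hB x hx t ht))
        (fun t ht => s3b _ (comm_mem' ht hx))
    · exact step 3 _ (rC hx) (fun t ht => triv _ _ _ (commutator_eq_bot_iff.1 hAC t ht x hx).symm)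
        (fun t ht => s3b _ (comm_mem hx ht)) (fun t ht => triv _ _ _ (comm hS hC x hx t ht))

theorem chain_nilpotent {A B C : Subgroup G} (hA : A ∈ S) (hB : B ∈ S) (hC : C ∈ S)
    (h1 : RootCommutatorCase S A B) (h2 : RootCommutatorCase S C B) (hAC : ⁅A, C⁆ = ⊥) :
    Group.IsNilpotent ↥(A ⊔ B ⊔ C) := by
  obtain ⟨b, hb, hb1⟩ := exists_ne_one hS hB
  exact (chain hS hA hB hC h1 h2 hAC hb hb1).2.2.2.2.2

/-- if two commuting members are both in the commutator case with `E`, they generate no element of a partner of `E` -/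
theorem not_mem_of_two_cc {A E D D' : Subgroup G} (hE : E ∈ S) (hD : D ∈ S) (hD' : D' ∈ S)
    (hr : IsRankOnePair A E) (h1 : RootCommutatorCase S D E) (h2 : RootCommutatorCase S D' E)
    (hc : ⁅D, D'⁆ = ⊥) {a : G} (ha : a ∈ A) (haD : a ∈ D ⊔ D') : a = 1 := by
  by_contra ha1
  exact RO.not_nilpotent_of_mem hr (le_sup_right.trans le_sup_left) ha ha1
    ((sup_le_sup_right le_sup_left D' : D ⊔ D' ≤ D ⊔ E ⊔ D') haD) (chain_nilpotent hS hD hE hD' h1 h2 hc)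

/-- a member `D ≠ A` of an abelian subgroup all of whose elements are root elements does not commute with `E ∈ Ω_A` -/
theorem line_pair {A E D L : Subgroup G} (hA : A ∈ S) (hE : E ∈ S) (hr : IsRankOnePair A E) (hLc : ⁅L, L⁆ = ⊥)
    (hL : ∀ x ∈ L, x ≠ 1 → x ∈ rootElements S) (hAL : A ≤ L) (hD : D ∈ S) (hDL : D ≤ L) :
    IsRankOnePair D E ∨ RootCommutatorCase S D E := by
  refine (hS.pair D hD E hE).resolve_left fun h => ?_
  obtain ⟨d, hd, hd1⟩ := exists_ne_one hS hD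
  exact hd1 (not_commute_of_line hS hA hE hr (commutator_eq_bot_mono hLc hAL hDL)
    (fun a ha d hd => hL _ (mul_mem (hDL hd) (hAL ha))) hd
    (fun e he => (commutator_eq_bot_iff.1 h d hd e he).symm))

theorem line_comm {A B : Subgroup G} (hA : A ∈ S) (h : B ∈ linePartners S A) : ⁅A ⊔ B, A ⊔ B⁆ = ⊥ :=
  commutator_sup_eq_bot (commutator_sup_eq_bot' (comm_self hS hA) h.1.2.2)
    (commutator_sup_eq_bot' (commutator_eq_bot_symm h.1.2.2) (comm_self hS h.1.1))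

omit hS in
theorem fadj_symm {A B : Subgroup G} (h : FAdj S A B) : FAdj S B A := ⟨h.2.1, h.1, RO.symm h.2.2⟩

omit hS in
theorem conn_symm {A B : Subgroup G} (h : Relation.ReflTransGen (FAdj S) A B) :
    Relation.ReflTransGen (FAdj S) B A := by
  induction h with
  | refl => exact .refl
  | tail _ h2 ih => exact .head (fadj_symm h2) ih

theorem conn_conj_conj {A B : Subgroup G} (h : Relation.ReflTransGen (FAdj S) A B) (g : G) :
    Relation.ReflTransGen (FAdj S) (conjBy A g) (conjBy B g) := by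
  induction h with
  | refl => exact .refl
  | tail _ h2 ih => exact ih.tail ⟨hS.conj_mem _ h2.1 g, hS.conj_mem _ h2.2.1 g, RO.conj h2.2.2 g⟩

omit hS in
theorem gen_induction (hgen : (⨆ A ∈ S, A) = ⊤) {p : G → Prop} (h1 : p 1) (hm : ∀ A ∈ S, ∀ a ∈ A, p a)
    (hmul : ∀ x y, p x → p y → p (x * y)) (g : G) : p g := by
  have hg : g ∈ ⨆ A : S, (A : Subgroup G) := by rw [iSup_subtype'] at hgen; rw [hgen]; trivial
  exact iSup_induction (C := p) _ hg (fun A x hx => hm A A.2 x hx) h1 hmul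

theorem conn_conj {A : Subgroup G} (hA : NI S A) (g : G) : Relation.ReflTransGen (FAdj S) A (conjBy A g) := by
  revert A
  refine gen_induction hS.generates
    (p := fun g => ∀ {A}, NI S A → Relation.ReflTransGen (FAdj S) A (conjBy A g)) ?_ ?_ ?_ g
  · intro A _; rw [conjBy_one]
  · rintro B hB b hb A ⟨hA, E, hE, hr⟩
    by_cases hb1 : b = 1
    · rw [hb1, conjBy_one]
    have hA' := hS.conj_mem A hA b
    rcases hS.pair A hA B hB with h | h | h
    · rw [conjBy_of_commutator_eq_bot h hb]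
    · exact .single ⟨hA, hA', (RO.pair_conj (RO.symm h) hb hb1).1⟩
    · have hLc := CC.sup_comm' h (hS.commutative A hA) (hS.commutative _ h.1)
      have hL := fun x hx hx1 => cc_root' hS hA h (x := x) hx hx1
      rcases line_pair hS hA hE hr hLc hL le_sup_left hA' (conjBy_le_sup_commutator hb) with h1 | h1
      · exact .tail (.single ⟨hA, hE, hr⟩) ⟨hE, hA', RO.symm h1⟩
      rcases line_pair hS hA hE hr hLc hL le_sup_left h.1 le_sup_right with h2 | h2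
      · have c1 : Relation.ReflTransGen (FAdj S) A ⁅A, B⁆ := .tail (.single ⟨hA, hE, hr⟩) ⟨hE, h.1, RO.symm h2⟩
        have c2 := conn_conj_conj hS c1 b
        rw [conjBy_of_commute (fun c hc => h.2.1 c hc b (mem_sup_right hb))] at c2
        exact c1.trans (conn_symm c2)
      · exfalso
        obtain ⟨a, ha, ha1⟩ := exists_ne_one hS hA
        refine ha1 (not_mem_of_two_cc hS hE hA' h.1 hr h1 h2
          (commutator_eq_bot_mono hLc (conjBy_le_sup_commutator hb) le_sup_right) ha ?_)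
        have : a = (a * b * a⁻¹ * b⁻¹) * (b * a * b⁻¹) := by group
        rw [this]
        exact mul_mem (mem_sup_right (comm_mem ha hb)) (mem_sup_left (conj_mem_conjBy ha b))
  · intro x y hx hy A hA
    rw [conjBy_mul]
    exact (hy hA).trans (hx (ni_conj hS hA y))

omit hS in
theorem conj_of_conn {A B : Subgroup G} (h : Relation.ReflTransGen (FAdj S) A B) : ∃ g, B = conjBy A g := by
  induction h with
  | refl => exact ⟨1, by simp⟩
  | tail _ h2 ih =>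
    obtain ⟨g, rfl⟩ := ih
    obtain ⟨n, -, e, -⟩ := RO.exists_swap h2.2.2
    exact ⟨n * g, by rw [conjBy_mul, e]⟩

omit hS in
theorem ni_of_conn {A B : Subgroup G} (h : Relation.ReflTransGen (FAdj S) A B) (hne : B ≠ A) : NI S A := by
  rcases h.cases_head with e | ⟨C, h1, -⟩
  · exact absurd e.symm hne
  · exact ⟨h1.1, C, h1.2.1, h1.2.2⟩

theorem ni_of_class (hc : IsConjClassOfSubgroups S) {A : Subgroup G} (hA : NI S A) : ∀ B ∈ S, NI S B := by
  intro B hB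
  obtain ⟨g, rfl⟩ := hc.2 A hA.1 B hB
  exact ni_conj hS hA g

theorem conn_of_class (hc : IsConjClassOfSubgroups S) {A : Subgroup G} (hA : NI S A) :
    IsConnectedFamily (FAdj S) S := by
  intro B hB C hC
  obtain ⟨g, rfl⟩ := hc.2 B hB C hC
  exact conn_conj hS (ni_of_class hS hc hA B hB) g

/-- `[A,[C,B]] = C` -/
theorem comm_comm_eq {A B C : Subgroup G} (hA : A ∈ S) (hB : B ∈ S) (hC : C ∈ S) (hr : IsRankOnePair A B)
    (hAC : ⁅A, C⁆ = ⊥) (hinf : ∀ a ∈ A, a ∈ C → a = 1)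
    (hL : ∀ x ∈ A ⊔ C, x ≠ 1 → x ∈ rootElements S) (h : RootCommutatorCase S C B) :
    RootCommutatorCase S A ⁅C, B⁆ ∧ ⁅A, ⁅C, B⁆⁆ = C := by
  have hF := h.1
  have hAC' := commutator_eq_bot_iff.1 hAC
  have h1 : RootCommutatorCase S A ⁅C, B⁆ := by
    rcases hS.pair A hA _ hF with h1 | h1 | h1
    · exfalso
      obtain ⟨f, hf, hf1⟩ := exists_ne_one hS hF
      refine hf1 (not_commute_of_line hS hB hA (RO.symm hr) (CC.right_comm h) (fun b hb d hd => ?_) hf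
        (fun a ha => commutator_eq_bot_iff.1 h1 a ha f hf))
      refine cc_root' hS hB (CC.symm h) ?_
      rw [Subgroup.commutator_comm]
      exact mul_mem (mem_sup_right hd) (mem_sup_left hb)
    · exfalso
      obtain ⟨c, hc, hc1⟩ := exists_ne_one hS hC
      exact hc1 (not_commute_of_line hS hA hF h1 hAC (fun a ha d hd => hL _ (mul_mem (mem_sup_right hd) (mem_sup_left ha)))
        hc (fun f hf => h.2.1 f hf c (mem_sup_left hc)))
    · exact h1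
  refine ⟨h1, (eq_of_le_commutator hS ⟨hA, B, hB, hr⟩ h1 hC fun c hc => ?_).symm⟩
  obtain ⟨a, ha, ha1⟩ := exists_ne_one hS hA
  obtain ⟨b, hb, hb1, e⟩ := RO.exists_partner hr ha ha1
  obtain ⟨f, hf⟩ : ∃ f, f = c⁻¹ * b * c * b⁻¹ := ⟨_, rfl⟩
  have hfF : f ∈ ⁅C, B⁆ := by simpa [hf] using comm_mem (inv_mem hc) hb
  obtain ⟨k, hk⟩ : ∃ k, k = f⁻¹ * a⁻¹ * f * a := ⟨_, rfl⟩
  have hkH : k ∈ ⁅A, ⁅C, B⁆⁆ := by simpa [hk] using comm_mem' (inv_mem ha) (inv_mem hfF)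
  have hcf : c * f = f * c := (h.2.1 f hfF c (mem_sup_left hc)).symm
  -- `c f k = a⁻¹ (b c b⁻¹) a` commutes with `B`
  have e1 : a⁻¹ * (b * c * b⁻¹) * a = f * (c * k) := by
    calc _ = a⁻¹ * (c * f) * a := by rw [hf]; group
      _ = (a⁻¹ * c) * f * a := by group
      _ = (c * f) * k := by rw [hAC' _ (inv_mem ha) c hc, hk]; group
      _ = _ := by rw [hcf]; group
  have hzB : ∀ x ∈ B, x * (c * k) = (c * k) * x := by
    intro x hx
    have i1 := commutator_eq_bot_iff.1 (commutator_conjBy_eq_bot hAC b) _ (e ▸ conj_mem_conjBy hx a) _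
      (conj_mem_conjBy hc b)
    have i2 : x * (f * (c * k)) = f * (c * k) * x := by
      rw [← e1]
      calc _ = a⁻¹ * (a * x * a⁻¹ * (b * c * b⁻¹)) * a := by group
        _ = _ := by rw [i1]; group
    rw [← mul_assoc, ← h.2.1 f hfF x (mem_sup_right hx), mul_assoc, mul_assoc f] at i2
    exact mul_left_cancel i2
  have hzA : ∀ x ∈ A, x * (c * k) = (c * k) * x := by
    intro x hx
    rw [← mul_assoc, hAC' x hx c hc, mul_assoc, ← h1.2.1 k hkH x (mem_sup_left hx), mul_assoc]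
  have hz : c * k = 1 := by
    by_contra hz1
    refine not_root hS hA hB hr hzA hzB hz1 ha ha1 ?_
    obtain ⟨f', hf', e2⟩ := CC.exists_conj h1 ha ha1 hkH
    have hca : c * a ≠ 1 := fun e3 => ha1 (hinf a ha (eq_inv_of_mul_eq_one_right e3 ▸ inv_mem hc))
    obtain ⟨-, K, hK, hm⟩ := hL _ (mul_mem (mem_sup_right hc) (mem_sup_left ha)) hca
    have e3 : f' * (c * a) * f'⁻¹ = c * k * a := by
      rw [← mul_assoc, h.2.1 f' hf' c (mem_sup_left hc), mul_assoc c, mul_assoc c, e2,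
        ← h1.2.1 k hkH a (mem_sup_left ha), mul_assoc]
    refine ⟨?_, _, hS.conj_mem K hK f', e3 ▸ conj_mem_conjBy hm f'⟩
    rw [← e3]; simpa using hca
  exact eq_inv_of_mul_eq_one_left hz ▸ inv_mem hkH

omit hS in
theorem line_inf {A D : Subgroup G} (hA : A ∈ S) (hD : D ∈ linePartners S A) : ∀ a ∈ A, a ∈ D → a = 1 := by
  intro a ha hd
  have := hD.2.2.2 A ⟨hA, le_sup_left⟩ D ⟨hD.1.1, le_sup_right⟩ hD.1.2.1.symm
  exact (eq_bot_iff.1 this ⟨ha, hd⟩ :)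

/-- structure of a line through `A` with respect to a rank one partner `B` of `A` -/
theorem line_structure {A B D : Subgroup G} (hA : A ∈ S) (hB : B ∈ S) (hr : IsRankOnePair A B)
    (hD : D ∈ linePartners S A) :
    ∃ C ∈ linePartners S A, RootCommutatorCase S C B ∧ RootCommutatorCase S A ⁅C, B⁆ ∧ ⁅A, ⁅C, B⁆⁆ = C ∧
      A ⊔ C = A ⊔ D := by
  have hLc := line_comm hS hA hD
  have hL := fun x hx hx1 => line_root hD (x := x) hx hx1
  rcases line_pair hS hA hB hr hLc hL le_sup_left hD.1.1 le_sup_right with h1 | h1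
  swap
  · have := comm_comm_eq hS hA hB hD.1.1 hr hD.1.2.2 (line_inf hA hD) hL h1
    exact ⟨D, hD, h1, this.1, this.2, rfl⟩
  obtain ⟨b, hb, hb1⟩ := exists_ne_one hS hB
  obtain ⟨a, ha, ha1, e1⟩ := RO.exists_partner (RO.symm hr) hb hb1
  obtain ⟨d, hd, hd1, e2⟩ := RO.exists_partner (RO.symm h1) hb hb1
  have hBB : ⁅B, conjBy B (a⁻¹ * d)⁆ = ⊥ := by
    have := commutator_conjBy_eq_bot (commutator_conjBy_eq_bot hD.1.2.2 b) a⁻¹
    rwa [← e1, ← e2, conjBy_inv_conjBy, conjBy_conjBy] at this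
  have hx1 : a⁻¹ * d ≠ 1 := fun e => hd1 (line_inf hA hD d (inv_mul_eq_one.1 e ▸ ha) hd)
  obtain ⟨C, ⟨hC, hCL⟩, hx⟩ := hD.2.2.1 _ (mul_mem (mem_sup_left (inv_mem ha)) (mem_sup_right hd)) hx1
  have hCA : C ≠ A := by
    rintro rfl
    exact hd1 (line_inf hA hD d (by simpa using mul_mem ha hx) hd)
  have h2 : RootCommutatorCase S C B :=
    (line_pair hS hA hB hr hLc hL le_sup_left hC hCL).resolve_left fun h =>
      RO.commutator_ne_bot (RO.pair_conj h hx hx1).1 hBB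
  have hAC : ⁅A, C⁆ = ⊥ := commutator_eq_bot_mono hLc le_sup_left hCL
  have hinf : ∀ y ∈ A, y ∈ C → y = 1 := fun y h1 h2 => by
    by_contra hy
    exact hCA (eq_of_mem_mem hS hA hB hr hC hy h1 h2)
  have h3 := comm_comm_eq hS hA hB hC hr hAC hinf (fun x hx => hL x (sup_le le_sup_left hCL hx)) h2
  have hAN : NI S A := ⟨hA, B, hB, hr⟩
  have h4 : A ⊔ C = A ⊔ D := by
    refine le_antisymm (sup_le le_sup_left hCL) (sup_le le_sup_left ?_)
    have hdm : d ∈ A ⊔ ⁅A, ⁅C, B⁆⁆ := by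
      rw [h3.2]; simpa using mul_mem (mem_sup_left (T := C) ha) (mem_sup_right (S := A) hx)
    rcases cc_root hS hA h3.1 hdm hd1 with h5 | ⟨f, hf, h5⟩
    · rw [h3.2] at h5
      rw [← eq_of_mem_mem hS hD.1.1 hB h1 hC hd1 hd h5]; exact le_sup_right
    · rw [ni_eq hS (ni_conj hS hAN f) hD.1.1 hd1 h5 hd]
      have := conjBy_le_sup_commutator (A := A) hf
      rwa [h3.2] at this
  exact ⟨C, ⟨⟨hC, hCA, hAC⟩, h4 ▸ hD.2⟩, h2, h3.1, h3.2, h4⟩

theorem exists_move {A D : Subgroup G} (hA : NI S A) (hD : D ∈ linePartners S A) :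
    ∃ F ∈ S, RootCommutatorCase S A F ∧ A ⊔ ⁅A, F⁆ = A ⊔ D ∧ F ≤ normalizer (A ⊔ D : Subgroup G) := by
  obtain ⟨hA, B, hB, hr⟩ := hA
  obtain ⟨C, -, h1, h2, h3, h4⟩ := line_structure hS hA hB hr hD
  refine ⟨_, h1.1, h2, by rw [h3, h4], fun f hf => conjBy_eq_self_iff.1 ?_⟩
  have := CC.conj_sup h2 (mem_sup_right hf)
  rwa [h3, h4] at this

/-- double transitivity on a line -/
theorem line_two_trans (hN : ∀ A ∈ S, NI S A) {A B : Subgroup G} (hA : A ∈ S) (hB : B ∈ linePartners S A) :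
    ∀ C₁ ∈ membersIn S (A ⊔ B), ∀ C₂ ∈ membersIn S (A ⊔ B), ∀ D₁ ∈ membersIn S (A ⊔ B),
      ∀ D₂ ∈ membersIn S (A ⊔ B), C₁ ≠ C₂ → D₁ ≠ D₂ →
        ∃ x ∈ ⨆ E ∈ normalizingMembers S (A ⊔ B), E, conjBy C₁ x = D₁ ∧ conjBy C₂ x = D₂ := by
  obtain ⟨F, hF, h1, h2, h3⟩ := exists_move hS (hN A hA) hB
  have hl := line_of_cc hS (hN A hA) h1
  obtain ⟨F', hF', h1', h2', h3'⟩ := exists_move hS (hN _ h1.1) hl
  rw [sup_comm ⁅A, F⁆ A, h2] at h3'
  set H := ⨆ E ∈ normalizingMembers S (A ⊔ B), E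
  have hFH : F ≤ H := le_iSup₂_of_le F ⟨hF, h3⟩ le_rfl
  have hFH' : F' ≤ H := le_iSup₂_of_le F' ⟨hF', h3'⟩ le_rfl
  have hHN : H ≤ normalizer (A ⊔ B : Subgroup G) := iSup₂_le fun E hE => hE.2
  have hcl : ∀ C ∈ membersIn S (A ⊔ B), ∀ x ∈ H, conjBy C x ∈ membersIn S (A ⊔ B) := fun C hC x hx =>
    ⟨hS.conj_mem C hC.1 x, by
      have := (conjBy_le_conjBy (g := x)).2 hC.2
      rwa [conjBy_eq_self_iff.2 (hHN hx)] at this⟩
  have hmem : ∀ C ∈ membersIn S (A ⊔ B), C ≠ ⁅A, F⁆ → ∃ f ∈ F, conjBy A f = C := fun C hC hne =>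
    ((members_line hS (hN A hA) h1).1 (h2.symm ▸ hC)).resolve_right hne
  have hfix : ∀ f ∈ F, conjBy ⁅A, F⁆ f = ⁅A, F⁆ := fun f hf =>
    conjBy_of_commute fun c hc => h1.2.1 c hc f (mem_sup_right hf)
  have hCm : ⁅A, F⁆ ∈ membersIn S (A ⊔ B) := ⟨h1.1, h2 ▸ le_sup_right⟩
  obtain ⟨f', hf', hf1⟩ := exists_ne_one hS hF'
  obtain ⟨f0, hf0, e0⟩ := hmem _ (hcl _ hCm f' (hFH' hf')) (fun e => hf1 (cc_conj_ne hS h1' hf' e))
  have key : ∀ C₁ ∈ membersIn S (A ⊔ B), ∀ C₂ ∈ membersIn S (A ⊔ B), C₁ ≠ C₂ →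
      ∃ x ∈ H, conjBy ⁅A, F⁆ x = C₁ ∧ conjBy A x = C₂ := by
    intro C₁ hC₁ C₂ hC₂ hne
    obtain ⟨y, hy, e⟩ : ∃ y ∈ H, conjBy ⁅A, F⁆ y = C₁ := by
      by_cases hc : C₁ = ⁅A, F⁆
      · exact ⟨1, one_mem _, by simp [hc]⟩
      · obtain ⟨f, hf, e⟩ := hmem _ hC₁ hc
        refine ⟨f * f0⁻¹ * f', mul_mem (mul_mem (hFH hf) (inv_mem (hFH hf0))) (hFH' hf'), ?_⟩
        rw [conjBy_mul, conjBy_mul, ← e0, conjBy_inv_conjBy, e]
    obtain ⟨f, hf, e2⟩ := hmem _ (hcl _ hC₂ _ (inv_mem hy)) (fun e' => hne (by rw [← e, ← e']; simp))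
    refine ⟨y * f, mul_mem hy (hFH hf), ?_, ?_⟩
    · rw [conjBy_mul, hfix f hf, e]
    · rw [conjBy_mul, e2]; simp
  intro C₁ hC₁ C₂ hC₂ D₁ hD₁ D₂ hD₂ hne hne'
  obtain ⟨x, hx, rfl, rfl⟩ := key C₁ hC₁ C₂ hC₂ hne
  obtain ⟨y, hy, rfl, rfl⟩ := key D₁ hD₁ D₂ hD₂ hne'
  exact ⟨y * x⁻¹, mul_mem hy (inv_mem hx), by rw [conjBy_mul]; simp, by rw [conjBy_mul]; simp⟩

/-- for `C ∈ Λ_A` there is `K` with `[K,C] = A` -/
theorem exists_opp (hN : ∀ A ∈ S, NI S A) {A C : Subgroup G} (hA : A ∈ S) (hC : C ∈ linePartners S A) :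
    ∃ K ∈ S, ⁅C, K⁆ = A := by
  obtain ⟨F, hF, h1, h2, -⟩ := exists_move hS (hN C hC.1.1) (line_symm hA hC)
  obtain ⟨x, -, e1, e2⟩ := line_two_trans hS hN hA hC C ⟨hC.1.1, le_sup_right⟩ ⁅C, F⁆
    ⟨h1.1, by rw [sup_comm, ← h2]; exact le_sup_right⟩ C ⟨hC.1.1, le_sup_right⟩ A ⟨hA, le_sup_left⟩
    (cc_ne hS hC.1.1 h1) hC.1.2.1
  exact ⟨conjBy F x, hS.conj_mem F hF x, by rw [← e2, conjBy_commutator, e1]⟩

theorem rankOne_of_opp {A B D : Subgroup G} (hA : A ∈ S) (hB : B ∈ S) (hD : D ∈ S)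
    (h1 : RootCommutatorCase S A B) (hDC : ⁅⁅A, B⁆, D⁆ = A) : IsRankOnePair B D := by
  have h2 : RootCommutatorCase S ⁅A, B⁆ D := cc_of_mem hS h1.1 hD (hDC.symm ▸ hA)
  by_contra hn
  obtain ⟨d, hd, hd1⟩ := exists_ne_one hS hD
  obtain ⟨b, hb, hb1⟩ := exists_ne_one hS hB
  have hc := commutator_eq_bot_iff.1 (conj_commute_of_not hS hB hD hn hd) b hb _ (conj_mem_conjBy hb d)
  have hDA : ∀ a ∈ A, a * d = d * a := fun a ha => h2.2.1 a (hDC.symm ▸ ha) d (mem_sup_right hd)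
  have hLc := commutator_eq_bot_iff.1 (CC.sup_comm' h1 (hS.commutative A hA) (hS.commutative _ h1.1))
  have hNd : conjBy (A ⊔ ⁅A, B⁆) d = A ⊔ ⁅A, B⁆ := by
    have := CC.conj_sup h2 (mem_sup_right hd)
    rwa [hDC, sup_comm] at this
  have hNβ : conjBy (A ⊔ ⁅A, B⁆) (d * b * d⁻¹) = A ⊔ ⁅A, B⁆ := by
    rw [conjBy_mul, conjBy_mul, ← conjBy_eq_iff.1 hNd, CC.conj_sup h1 (mem_sup_right hb), hNd]
  have hbN : ∀ n ∈ A ⊔ ⁅A, B⁆, n * b * n⁻¹ * b⁻¹ ∈ ⁅A, B⁆ := by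
    intro n hn
    obtain ⟨a, ha, c, hc, rfl⟩ := mem_sup_of_commute (CC.left_comm h1) hn
    have := h1.2.1 c hc b (mem_sup_right hb)
    have e : a * c * b * (a * c)⁻¹ * b⁻¹ = a * b * a⁻¹ * b⁻¹ := by
      rw [mul_assoc a c b, this]; group
    exact e ▸ comm_mem ha hb
  have hle : ∀ c ∈ ⁅A, B⁆, d * c * d⁻¹ ∈ ⁅A, B⁆ := by
    intro c hcC
    obtain ⟨a', ha', e1⟩ := CC.exists_left h1 hb hb1 hcC
    obtain ⟨c0, hc0, e2⟩ := CC.exists_left h2 hd hd1 (hDC.symm ▸ ha')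
    obtain ⟨a, ha, e3⟩ := CC.exists_left h1 hb hb1 hc0
    set β := d * b * d⁻¹ with hβ
    have i1 : β * c0 * β⁻¹ ∈ ⁅A, B⁆ := by
      have := hbN _ (hNβ ▸ conj_mem_conjBy (mem_sup_left ha) β)
      have e : β * c0 * β⁻¹ = β * a * β⁻¹ * b * (β * a * β⁻¹)⁻¹ * b⁻¹ := by
        have k : β * b * β⁻¹ = b := by rw [← hc]; group
        calc _ = β * a * β⁻¹ * (β * b * β⁻¹) * (β * a * β⁻¹)⁻¹ * (β * b * β⁻¹)⁻¹ := by rw [← e3]; group
          _ = _ := by rw [k]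
      exact e ▸ this
    have i2 : c0 * (β * c0 * β⁻¹)⁻¹ = d * c * d⁻¹ := by
      have k1 : c0 = a' * (d * c0 * d⁻¹) := by rw [← e2]; group
      have k2 : β * (d * c0 * d⁻¹) * β⁻¹ = d * c0 * d⁻¹ := by
        have := h1.2.1 c0 hc0 b (mem_sup_right hb)
        calc _ = d * (b * c0) * b⁻¹ * d⁻¹ := by rw [hβ]; group
          _ = _ := by rw [← this]; group
      have k3 : d * a' * d⁻¹ = a' := by rw [← hDA a' ha']; group
      calc _ = a' * (d * c0 * d⁻¹) * (β * a' * β⁻¹ * (β * (d * c0 * d⁻¹) * β⁻¹))⁻¹ := by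
            nth_rewrite 1 [k1]; nth_rewrite 2 [k1]; group
        _ = a' * β * a'⁻¹ * β⁻¹ := by rw [k2]; group
        _ = (d * a' * d⁻¹) * β * (d * a' * d⁻¹)⁻¹ * β⁻¹ := by rw [k3]
        _ = _ := by rw [← e1, hβ]; group
    exact i2 ▸ mul_mem hc0 (inv_mem i1)
  obtain ⟨a, ha, ha1⟩ := exists_ne_one hS hA
  obtain ⟨c, hc, e⟩ := CC.exists_left h2 hd hd1 (hDC.symm ▸ ha)
  refine ha1 (cc_not_le hS h1 ha ?_)
  rw [← e, mul_assoc, mul_assoc, ← mul_assoc d]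
  exact mul_mem hc (hle _ (inv_mem hc))

/-- for a commutator pair `(A,B)` some rank one partner of `B` commutes with `A` -/
theorem exists_opp_comm (hN : ∀ A ∈ S, NI S A) {A B : Subgroup G} (hA : A ∈ S) (hB : B ∈ S)
    (h : RootCommutatorCase S A B) : ∃ D ∈ S, IsRankOnePair B D ∧ ⁅A, D⁆ = ⊥ := by
  obtain ⟨K, hK, e⟩ := exists_opp hS hN hA (line_symm h.1 (line_of_cc hS (hN A hA) h))
  refine ⟨K, hK, rankOne_of_opp hS hA hB hK h e, ?_⟩
  have := CC.right_comm (cc_of_mem hS h.1 hK (e.symm ▸ hA))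
  rw [e] at this
  exact commutator_eq_bot_symm this

theorem special_of_line {A B C : Subgroup G} (hr : IsRankOnePair A B) (hC : C ∈ S) (hAC : ⁅A, C⁆ = ⊥)
    (h1 : RootCommutatorCase S C B) (h2 : RootCommutatorCase S A ⁅C, B⁆) (h3 : ⁅A, ⁅C, B⁆⁆ = C) :
    IsSpecialRankOnePair A B := by
  have hAC' := commutator_eq_bot_iff.1 hAC
  have hNA : ∀ a ∈ A, conjBy (C ⊔ ⁅C, B⁆) a = C ⊔ ⁅C, B⁆ := by
    intro a ha
    have := CC.conj_sup (CC.symm h2) (mem_sup_right ha)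
    rwa [Subgroup.commutator_comm _ A, h3, sup_comm] at this
  have hN : A ⊔ B ≤ normalizer (C ⊔ ⁅C, B⁆ : Subgroup G) :=
    sup_le (fun a ha => conjBy_eq_self_iff.1 (hNA a ha))
      (fun b hb => conjBy_eq_self_iff.1 (CC.conj_sup h1 (mem_sup_right hb)))
  refine special_of_conj_quadratic (N := C ⊔ ⁅C, B⁆) hr
    (isMulCommutative_iff_commutator.2 (CC.sup_comm' h1 (hS.commutative C hC) (hS.commutative _ h1.1)))
    (fun x hx n hn => conjBy_eq_self_iff.2 (hN hx) ▸ conj_mem_conjBy hn x) ?_ ?_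
  · intro a ha a' ha' n hn
    obtain ⟨c, hc, f, hf, rfl⟩ := mem_sup_of_commute (CC.left_comm h1) hn
    have e : a * (c * f) * a⁻¹ * (c * f)⁻¹ = c * (a * f * a⁻¹ * f⁻¹) * c⁻¹ := by
      rw [← mul_assoc a, hAC' a ha c hc]; group
    rw [e]
    exact hAC' a' ha' _ (mul_mem (mul_mem hc (h3 ▸ comm_mem ha hf)) (inv_mem hc))
  · obtain ⟨a, ha, ha1⟩ := RO.exists_ne_one hr
    obtain ⟨c, hc, hc1⟩ := exists_ne_one hS hC
    obtain ⟨f, hf, e⟩ := CC.exists_right h2 ha ha1 (h3.symm ▸ hc)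
    obtain ⟨f', hf', hf1⟩ := exists_ne_one hS h1.1
    obtain ⟨b, hb, e'⟩ := CC.exists_right h1 hc hc1 hf'
    refine ⟨a, mem_sup_left ha, b, mem_sup_right hb, f, mem_sup_right hf, fun h => hf1 ?_⟩
    rw [e] at h
    rw [← e', ← h]; group

theorem line_nonempty (hc : IsConjClassOfSubgroups S) (hN : ∀ A ∈ S, NI S A) {X Y : Subgroup G} (hX : X ∈ S)
    (h : RootCommutatorCase S X Y) {A : Subgroup G} (hA : A ∈ S) : ∃ D, D ∈ linePartners S A := by
  obtain ⟨g, rfl⟩ := hc.2 _ h.1 A hA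
  exact ⟨_, line_conj hS (line_of_cc hS (hN X hX) h) g⟩

omit hS in
theorem eadj_symm {A B : Subgroup G} (h : EAdj S S A B) : EAdj S S B A := ⟨h.2.1, h.1, line_symm h.1 h.2.2⟩

theorem nd_ni (hc : IsConjClassOfSubgroups S) (hnd : IsNondegenerateRootSet S) : ∀ A ∈ S, NI S A := by
  obtain ⟨A, hA, B, hB, h⟩ := hnd.2.1
  exact ni_of_class hS hc ⟨hA, B, hB, h⟩

theorem nd_line (hc : IsConjClassOfSubgroups S) (hnd : IsNondegenerateRootSet S) {A : Subgroup G} (hA : A ∈ S) :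
    ∃ D, D ∈ linePartners S A := by
  obtain ⟨X, hX, Y, -, h⟩ := hnd.2.2
  exact line_nonempty hS hc (nd_ni hS hc hnd) hX h hA

theorem econn (hc : IsConjClassOfSubgroups S) (hnd : IsNondegenerateRootSet S) :
    IsConnectedFamily (EAdj S S) S := by
  have hN := nd_ni hS hc hnd
  have k1 : ∀ A ∈ S, ∀ B ∈ S, RootCommutatorCase S A B → Relation.ReflTransGen (EAdj S S) A B := by
    intro A hA B hB h
    have l1 := line_of_cc hS (hN A hA) h
    have l2 := line_of_cc hS (hN B hB) (CC.symm h)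
    rw [Subgroup.commutator_comm] at l2
    exact .tail (.single (eadj_symm ⟨h.1, hA, l1⟩)) ⟨h.1, hB, l2⟩
  intro A hA B hB
  have := conn_of_class hS hc (hN A hA) A hA B hB
  clear hB
  induction this with
  | refl => exact .refl
  | tail _ h2 ih =>
    obtain ⟨D, hD⟩ := nd_line hS hc hnd h2.1
    obtain ⟨C, hC, h1, -⟩ := line_structure hS h2.1 h2.2.1 h2.2.2 hD
    exact (ih.tail ⟨h2.1, hC.1.1, hC⟩).trans (k1 _ hC.1.1 _ h2.2.1 h1)

theorem generates_of_line (hc : IsConjClassOfSubgroups S) (hnd : IsNondegenerateRootSet S) {A B : Subgroup G}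
    (hA : A ∈ S) (hB : B ∈ S) (hr : IsRankOnePair A B) : (⨆ C ∈ linePartners S A, C) ⊔ B = ⊤ := by
  have hN := nd_ni hS hc hnd
  set Y := (⨆ C ∈ linePartners S A, C) ⊔ B
  have hLY : ∀ C ∈ linePartners S A, C ≤ Y := fun C hC =>
    le_sup_of_le_left (le_iSup₂_of_le C hC le_rfl)
  have hBY : B ≤ Y := le_sup_right
  have k : ∀ D ∈ linePartners S A, A ≤ Y ∧ ∃ y ∈ Y, D = conjBy A y := by
    intro D hD
    obtain ⟨C, hC, h1, h2, h3, h4⟩ := line_structure hS hA hB hr hD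
    have hFY : ⁅C, B⁆ ≤ Y := (commutator_mono (hLY C hC) hBY).trans (commutator_le_self Y)
    obtain ⟨K, hK, e⟩ := exists_opp hS hN hA hC
    have hcc := cc_of_mem hS hC.1.1 hK (e.symm ▸ hA)
    have hKl : K ∈ linePartners S A := by
      have := line_of_cc hS (hN K hK) (CC.symm hcc)
      rwa [Subgroup.commutator_comm, e] at this
    refine ⟨e ▸ (commutator_mono (hLY C hC) (hLY K hKl)).trans (commutator_le_self Y), ?_⟩
    have hm := fun D hD => (members_line hS (hN A hA) h2 (D := D)).1 hD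
    rw [h3, h4] at hm
    rcases hm D ⟨hD.1.1, le_sup_right⟩ with ⟨f, hf, e1⟩ | e1
    · exact ⟨f, hFY hf, e1.symm⟩
    · obtain ⟨k, hk, hk1⟩ := exists_ne_one hS hK
      have hle : conjBy C k ≤ A ⊔ D := by
        have := conjBy_le_sup_commutator (A := C) hk
        rwa [e, sup_comm, h4] at this
      rcases hm _ ⟨hS.conj_mem C hC.1.1 k, hle⟩ with ⟨f, hf, e2⟩ | e2
      · refine ⟨k⁻¹ * f, mul_mem (inv_mem (hLY K hKl hk)) (hFY hf), ?_⟩
        rw [conjBy_mul, e2, e1]; simp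
      · exact absurd (cc_conj_ne hS hcc hk e2) hk1
  obtain ⟨D0, hD0⟩ := nd_line hS hc hnd hA
  have hAY := (k D0 hD0).1
  rw [eq_top_iff, ← hS.generates]
  refine iSup₂_le fun E hE => ?_
  have : ∃ y ∈ Y, E = conjBy A y := by
    have := econn hS hc hnd A hA E hE
    clear hE
    induction this with
    | refl => exact ⟨1, one_mem _, by simp⟩
    | tail _ h2 ih =>
      obtain ⟨y, hy, rfl⟩ := ih
      have := line_conj hS h2.2.2 y⁻¹
      rw [conjBy_inv_conjBy] at this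
      obtain ⟨z, hz, e⟩ := (k _ this).2
      exact ⟨y * z, mul_mem hy hz, by rw [conjBy_mul, ← e]; simp⟩
  obtain ⟨y, hy, rfl⟩ := this
  exact conjBy_le_of_le hAY hy

/-- an invariant preorder refining commutation is symmetric on pairs with a common rank one partner -/
theorem preorder_symm {r : Subgroup G → Subgroup G → Prop} (htr : ∀ A B C, r A B → r B C → r A C)
    (hconj : ∀ A B g, r A B → r (conjBy A g) (conjBy B g))
    (hcomm : ∀ A ∈ S, ∀ B ∈ S, r A B → ⁅A, B⁆ = ⊥) {A C E : Subgroup G} (hA : A ∈ S) (hC : C ∈ S) (hE : E ∈ S)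
    (h1 : IsRankOnePair A E) (h2 : IsRankOnePair C E) (h : r A C) : r C A := by
  have hAC := commutator_eq_bot_iff.1 (hcomm A hA C hC h)
  have k : ∀ c ∈ C, c ≠ 1 → ∃ e : G, ∃ a ∈ A, conjBy A e = conjBy E a ∧ conjBy C e = conjBy E c ∧
      r E (conjBy E (a⁻¹ * c)) := by
    intro c hc hc1
    obtain ⟨e, he, he1, e1⟩ := RO.exists_partner h2 hc hc1
    obtain ⟨a, ha, -, e2⟩ := RO.exists_partner (RO.symm h1) he he1
    refine ⟨e, a, ha, e2.symm, e1, ?_⟩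
    have := hconj _ _ a⁻¹ (hconj _ _ e h)
    rwa [← e2, e1, conjBy_inv_conjBy, conjBy_conjBy] at this
  obtain ⟨c, hc, hc1⟩ := exists_ne_one hS hC
  obtain ⟨e, a, ha, e1, e2, r1⟩ := k c hc hc1
  obtain ⟨-, a', ha', -, -, r2⟩ := k c⁻¹ (inv_mem hc) (inv_ne_one.2 hc1)
  have r3 := htr _ _ _ r1 (hconj _ _ (a⁻¹ * c) r2)
  rw [conjBy_conjBy, show a⁻¹ * c * (a'⁻¹ * c⁻¹) = (a' * a)⁻¹ by
    rw [mul_assoc, ← mul_assoc c, ← hAC _ (inv_mem ha') c hc]; group] at r3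
  have e3 : (a' * a)⁻¹ = 1 := by
    by_contra hne
    exact RO.commutator_ne_bot (RO.pair_conj h1 (inv_mem (mul_mem ha' ha)) hne).1
      (hcomm E hE _ (hS.conj_mem E hE _) r3)
  rw [inv_eq_one, mul_eq_one_iff_eq_inv] at e3
  have := hconj _ _ e⁻¹ (hconj _ _ c r2)
  rw [conjBy_conjBy E c, e3, inv_inv, ← mul_assoc, ← hAC a ha c hc, mul_inv_cancel_right, ← e1, ← e2] at this
  simpa using this

end RS

theorem conjBy_map {H : Type*} [Group H] (f : G →* H) (C : Subgroup G) (g : G) :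
    conjBy (C.map f) (f g) = (conjBy C g).map f := by
  rw [conjBy, conjBy, Subgroup.map_map, Subgroup.map_map]
  congr 1
  ext x; simp

/-- homomorphic images of rank one pairs with abelian unipotent subgroups -/
theorem RO.map_or {H : Type*} [Group H] (f : G →* H) {A B : Subgroup G} (h : IsRankOnePair A B)
    (hA : IsMulCommutative A) : A.map f = B.map f ∨ IsRankOnePair (A.map f) (B.map f) := by
  rcases RO.normal_dichotomy h (N := f.ker ⊓ (A ⊔ B)) inf_le_right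
    (fun x hx n hn => ⟨(MonoidHom.normal_ker f).conj_mem n hn.1 x, 
      (A ⊔ B).mul_mem ((A ⊔ B).mul_mem hx hn.2) ((A ⊔ B).inv_mem hx)⟩) with
    ⟨n, hn, a, ha, e⟩ | hc
  · left
    rw [← e, ← conjBy_map, map_mul, (MonoidHom.mem_ker).1 hn.1, mul_one, conjBy_of_mem (mem_map_of_mem f ha)]
  · right
    have key : ∀ {A B : Subgroup G}, IsRankOnePair A B →
        (∀ n ∈ f.ker ⊓ (A ⊔ B), ∀ x ∈ A ⊔ B, n * x = x * n) → RankOneCondition (A.map f) (B.map f) := by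
      rintro A B h hc _ ⟨a, ha, rfl⟩ ha1
      obtain ⟨b, hb, hb1, e⟩ := h.cond_left a ha (fun e => ha1 (by rw [e, map_one]))
      refine ⟨f b, mem_map_of_mem f hb, fun e' => hb1 ?_, by rw [← map_inv, ← map_inv, conjBy_map, conjBy_map, e]⟩
      exact RO.eq_one_of_commute (RO.symm h) hb fun x hx =>
        (hc b ⟨e', mem_sup_right hb⟩ x (mem_sup_left hx)).symm
    have nil : ∀ C : Subgroup G, Group.IsNilpotent C → Group.IsNilpotent (C.map f) := fun C hC =>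
      Group.nilpotent_of_surjective (f.subgroupMap C) (f.subgroupMap_surjective C)
    refine ⟨fun e => ?_, nil A h.nilpotent_left, nil B h.nilpotent_right, key h hc,
      key (RO.symm h) (by rwa [sup_comm])⟩
    obtain ⟨b, hb, hb1⟩ := RO.exists_ne_one (RO.symm h)
    obtain ⟨a, ha, e2⟩ : f b ∈ A.map f := e ▸ mem_map_of_mem f hb
    apply hb1
    apply RO.eq_one_of_commute (RO.symm h) hb
    intro x hx
    have := hc (a⁻¹ * b) ⟨by simp [MonoidHom.mem_ker, e2], mul_mem (mem_sup_left (inv_mem ha)) (mem_sup_right hb)⟩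
      x (mem_sup_left hx)
    rw [← mul_assoc, isMulCommutative_iff.1 hA x hx _ (inv_mem ha), mul_assoc, mul_assoc] at this
    exact (mul_left_cancel this).symm

end H12
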