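import Mathlib
import Cfsg.Agent.H12.RootSub2

/-!
Unipotent subgroups of `GL(M)` (`Cfsg.IsUnipotentOn`). `Unip.exists_fixed` (fixed vector in a section), `Unip.of_fixed`,
`Unip.mono`, `Unip.conj`, `Unip.sup_of_normalizes`, `Unip.algGrp` (the group `1 + J`), `Unip.aug`, `Unip.hat`,
`Unip.iSup_of_pairwise` (Baer type theorem S5061), `Unip.eq_bot_of_irreducible`, `Unip.of_pow_eq_bot`.
-/

set_option autoImplicit false

namespace H12

open Cfsg Subgroup

/-- `GL(M)` -/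
abbrev GLM (k M : Type*) [Field k] [AddCommGroup M] [Module k M] := LinearMap.GeneralLinearGroup k M

theorem exists_max_image {α : Type*} (S : Set α) (f : α → ℕ) (N : ℕ) (h : ∃ a, a ∈ S) (hb : ∀ a ∈ S, f a ≤ N) :
    ∃ a ∈ S, ∀ b ∈ S, f b ≤ f a := by
  obtain ⟨a, ha, hm⟩ := (measure (fun a => N - f a)).wf.has_min S h
  refine ⟨a, ha, fun b hb' => ?_⟩
  have : ¬ N - f b < N - f a := hm b hb'
  have := hb a ha
  have := hb b hb'
  omega

namespace Unip

variable {k : Type*} [Field k] {M : Type*} [AddCommGroup M] [Module k M]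

theorem unip_iff {H : Subgroup (GLM k M)} : IsUnipotentOn H ↔ ∃ n : ℕ, ∀ l : List (GLM k M), (∀ g ∈ l, g ∈ H) →
    l.length = n → (l.map fun g : GLM k M => (g : M →ₗ[k] M) - 1).prod = 0 := by
  have : ∀ l : List (GLM k M), (List.map (fun g : M →ₗ[k] M => g - 1) (do let a ← l; pure (a : M →ₗ[k] M))) =
      l.map fun g : GLM k M => (g : M →ₗ[k] M) - 1 := by
    intro l
    induction l with
    | nil => rfl
    | cons a l ih => simp at ih ⊢; exact ih
  simp only [IsUnipotentOn, this]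

/-- `W` is invariant under `H` -/
def Inv (H : Subgroup (GLM k M)) (W : Submodule k M) : Prop := ∀ h ∈ H, ∀ v ∈ W, (h : M →ₗ[k] M) v ∈ W

theorem Inv.mono {H H' : Subgroup (GLM k M)} {W : Submodule k M} (h : Inv H W) (hle : H' ≤ H) : Inv H' W :=
  fun g hg => h g (hle hg)

theorem mono {H H' : Subgroup (GLM k M)} (h : IsUnipotentOn H) (hle : H' ≤ H) : IsUnipotentOn H' := by
  obtain ⟨n, hn⟩ := h
  exact ⟨n, fun l hl => hn l fun g hg => hle (hl g hg)⟩

theorem exists_fixed {H : Subgroup (GLM k M)} (h : IsUnipotentOn H) {W W' : Submodule k M} (hW : W ≤ W')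
    (hW' : Inv H W') {v : M} (hv : v ∈ W') (hv' : v ∉ W) :
    ∃ v ∈ W', v ∉ W ∧ ∀ h ∈ H, (h : M →ₗ[k] M) v - v ∈ W := by
  obtain ⟨n, hn⟩ := unip_iff.1 h
  by_contra hc
  push Not at hc
  have : ∀ m, ∃ l : List (GLM k M), (∀ g ∈ l, g ∈ H) ∧ l.length = m ∧
      (l.map fun g : GLM k M => (g : M →ₗ[k] M) - 1).prod v ∈ W' ∧
      (l.map fun g : GLM k M => (g : M →ₗ[k] M) - 1).prod v ∉ W := by
    intro m
    induction m with
    | zero => exact ⟨[], by simp, rfl, by simpa using hv, by simpa using hv'⟩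
    | succ m ih =>
      obtain ⟨l, h1, h2, h3, h4⟩ := ih
      obtain ⟨g, hg, h5⟩ := hc _ h3 h4
      refine ⟨g :: l, by simpa [hg] using h1, by simp [h2], ?_, ?_⟩
      · simpa using sub_mem (hW' g hg _ h3) h3
      · simpa using h5
  obtain ⟨l, h1, h2, -, h4⟩ := this n
  rw [hn l h1 h2] at h4
  exact h4 (zero_mem _)

/-- vectors fixed by `H` modulo `W` -/
def fixMod (H : Subgroup (GLM k M)) (W : Submodule k M) : Submodule k M where
  carrier := {v | ∀ h ∈ H, (h : M →ₗ[k] M) v - v ∈ W}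
  zero_mem' := by simp
  add_mem' := fun {a b} ha hb h hh => by
    have := add_mem (ha h hh) (hb h hh)
    rw [map_add]; convert this using 1; abel
  smul_mem' := fun c a ha h hh => by
    have := W.smul_mem c (ha h hh)
    rw [map_smul]; convert this using 1; rw [smul_sub]

theorem le_fixMod {H : Subgroup (GLM k M)} {W : Submodule k M} (h : Inv H W) : W ≤ fixMod H W :=
  fun v hv g hg => sub_mem (h g hg v hv) hv

theorem inv_fixMod {H K : Subgroup (GLM k M)} {W : Submodule k M} (h : Inv K W)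
    (hn : ∀ x ∈ K, ∀ g ∈ H, x⁻¹ * g * x ∈ H) : Inv K (fixMod H W) := by
  intro x hx v hv g hg
  have := h x hx _ (hv _ (hn x hx g hg))
  rwa [map_sub, ← Module.End.mul_apply, ← Units.val_mul, ← mul_assoc, ← mul_assoc, mul_inv_cancel, one_mul,
    Units.val_mul, Module.End.mul_apply] at this

theorem of_fixed [FiniteDimensional k M] {H : Subgroup (GLM k M)}
    (h : ∀ W : Submodule k M, Inv H W → W ≠ ⊤ → ∃ v, v ∉ W ∧ ∀ h ∈ H, (h : M →ₗ[k] M) v - v ∈ W) :
    IsUnipotentOn H := by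
  have : ∀ m, ∃ W : Submodule k M, Inv H W ∧ (W = ⊤ ∨ m ≤ Module.finrank k W) ∧
      ∀ l : List (GLM k M), (∀ g ∈ l, g ∈ H) → l.length = m → ∀ v ∈ W,
        (l.map fun g : GLM k M => (g : M →ₗ[k] M) - 1).prod v = 0 := by
    intro m
    induction m with
    | zero => exact ⟨⊥, fun _ _ v hv => by simp [(Submodule.mem_bot k).1 hv], Or.inr (Nat.zero_le _),
        fun l _ _ v hv => by simp [(Submodule.mem_bot k).1 hv]⟩
    | succ m ih =>
      obtain ⟨W, h1, h2, h3⟩ := ih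
      refine ⟨fixMod H W, inv_fixMod h1 (fun x hx g hg => mul_mem (mul_mem (inv_mem hx) hg) hx), ?_, ?_⟩
      · by_cases hW : W = ⊤
        · exact Or.inl (top_le_iff.1 (hW ▸ le_fixMod h1))
        · right
          obtain ⟨v, hv, hv'⟩ := h W h1 hW
          have := Submodule.finrank_lt_finrank_of_lt
            (lt_of_le_of_ne (le_fixMod h1) (fun e => hv (e ▸ (hv' : v ∈ fixMod H W))))
          have := h2.resolve_left hW
          omega
      · intro l hl hlen v hv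
        rcases l.eq_nil_or_concat with rfl | ⟨l', g, rfl⟩
        · simp at hlen
        · simp only [List.concat_eq_append, List.map_append, List.prod_append, List.map_singleton,
            List.prod_singleton, Module.End.mul_apply]
          exact h3 l' (fun x hx => hl x (by simp [hx])) (by simpa using hlen) _ (hv g (hl g (by simp)))
  obtain ⟨W, -, h2, h3⟩ := this (Module.finrank k M)
  have hW : W = ⊤ := h2.elim id fun h => Submodule.eq_top_of_finrank_eq (le_antisymm W.finrank_le h)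
  exact unip_iff.2 ⟨_, fun l h1 h4 => LinearMap.ext fun v => h3 l h1 h4 v (hW ▸ trivial)⟩

theorem fix_mul {H : Subgroup (GLM k M)} {W : Submodule k M} (hW : Inv H W) {v : M} {x y : GLM k M} (hx : x ∈ H)
    (h1 : (x : M →ₗ[k] M) v - v ∈ W) (h2 : (y : M →ₗ[k] M) v - v ∈ W) : ((x * y : GLM k M) : M →ₗ[k] M) v - v ∈ W := by
  have := add_mem (hW x hx _ h2) h1
  rw [map_sub] at this
  simpa using this

theorem sup_of_normalizes [FiniteDimensional k M] {H K : Subgroup (GLM k M)} (hH : IsUnipotentOn H)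
    (hK : IsUnipotentOn K) (hn : ∀ x ∈ K, ∀ g ∈ H, x⁻¹ * g * x ∈ H) : IsUnipotentOn (H ⊔ K) := by
  refine of_fixed fun W hW hne => ?_
  obtain ⟨v, hv⟩ : ∃ v, v ∉ W := by simpa [Submodule.eq_top_iff'] using hne
  obtain ⟨v, -, hv, hv'⟩ := exists_fixed hH le_top (fun _ _ _ _ => trivial) trivial hv
  obtain ⟨w, hw, hw', hw''⟩ := exists_fixed hK (le_fixMod (hW.mono le_sup_left))
    (inv_fixMod (hW.mono le_sup_right) hn) hv' hv
  exact ⟨w, hw', fun h hh => sup_induction (p := fun h : GLM k M => (h : M →ₗ[k] M) w - w ∈ W) hw hw''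
    (fun x y hx _ h1 h2 => fix_mul hW hx h1 h2) hh⟩

theorem eq_bot_of_irreducible {G U : Subgroup (GLM k M)} (hG : IsIrreducibleFor G) (hU : IsUnipotentOn U)
    (hn : ∀ x ∈ G, ∀ g ∈ U, x⁻¹ * g * x ∈ U) : U = ⊥ := by
  obtain ⟨⟨m, hm⟩, hirr⟩ := hG
  obtain ⟨v, -, hv, hv'⟩ := exists_fixed hU (W := ⊥) le_top (fun _ _ _ _ => trivial) trivial hm
  rcases hirr _ (inv_fixMod (W := ⊥) (fun _ _ v hv => by simp [(Submodule.mem_bot k).1 hv]) hn) with h | h
  · exact absurd (h ▸ (hv' : v ∈ fixMod U ⊥)) hv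
  · rw [eq_bot_iff]
    intro g hg
    exact Units.ext (LinearMap.ext fun w => sub_eq_zero.1 ((h ▸ trivial : w ∈ fixMod U ⊥) g hg))

/-- the algebra group `1 + J` -/
def algGrp [FiniteDimensional k M] (J : Submodule k (Module.End k M)) (hJ : ∀ a ∈ J, ∀ b ∈ J, a * b ∈ J) :
    Subgroup (GLM k M) where
  carrier := {x | (x : Module.End k M) - 1 ∈ J}
  one_mem' := by simp
  mul_mem' := fun {x y} hx hy => by
    have := add_mem (add_mem (hJ _ hx _ hy) hx) hy
    change (x * y : Module.End k M) - 1 ∈ J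
    convert this using 1; noncomm_ring
  inv_mem' := fun {x} hx => by
    let f : J →ₗ[k] J := (LinearMap.mulLeft k (x : Module.End k M)).restrict (fun b hb => by
      have := add_mem (hJ _ hx _ hb) hb
      rw [LinearMap.mulLeft_apply]; convert this using 1; noncomm_ring)
    have hf : Function.Injective f := fun a b e =>
      Subtype.ext ((Units.mul_right_inj x).1 (congrArg Subtype.val e))
    obtain ⟨⟨b, hb⟩, e⟩ := (LinearMap.injective_iff_surjective.1 hf) ⟨_, hx⟩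
    have e' : (x : Module.End k M) * b = x - 1 := congrArg Subtype.val e
    have : ((x⁻¹ : GLM k M) : Module.End k M) - 1 = -b := by
      rw [← Units.mul_right_inj x, mul_neg, e', mul_sub, Units.mul_inv, mul_one, neg_sub]
    change ((x⁻¹ : GLM k M) : Module.End k M) - 1 ∈ J
    rw [this]; exact neg_mem hb

/-- the augmentation ideal of the enveloping algebra -/
def aug (H : Subgroup (GLM k M)) : Submodule k (Module.End k M) :=
  Submodule.span k {y | ∃ g ∈ H, y = (g : Module.End k M) - 1}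

theorem mem_aug {H : Subgroup (GLM k M)} {g : GLM k M} (hg : g ∈ H) : (g : Module.End k M) - 1 ∈ aug H :=
  Submodule.subset_span ⟨g, hg, rfl⟩

theorem aug_mul (H : Subgroup (GLM k M)) : ∀ a ∈ aug H, ∀ b ∈ aug H, a * b ∈ aug H := by
  intro a ha b hb
  have : aug H * aug H ≤ aug H := by
    rw [aug, Submodule.span_mul_span, Submodule.span_le]
    rintro _ ⟨_, ⟨g, hg, rfl⟩, _, ⟨h, hh, rfl⟩, rfl⟩
    have := sub_mem (sub_mem (mem_aug (mul_mem hg hh)) (mem_aug hg)) (mem_aug hh)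
    change _ ∈ aug H
    convert this using 1
    simp only [Units.val_mul]; noncomm_ring
  exact this (Submodule.mul_mem_mul ha hb)

variable [FiniteDimensional k M]

/-- the algebra group generated by `H` -/
def hat (H : Subgroup (GLM k M)) : Subgroup (GLM k M) := algGrp (aug H) (aug_mul H)

theorem le_hat (H : Subgroup (GLM k M)) : H ≤ hat H := fun _ hg => mem_aug hg

theorem aug_le {H K : Subgroup (GLM k M)} : aug H ≤ aug K ↔ H ≤ hat K :=
  ⟨fun h _ hg => h (mem_aug hg), fun h => Submodule.span_le.2 (by rintro _ ⟨g, hg, rfl⟩; exact h hg)⟩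

theorem hat_le {H K : Subgroup (GLM k M)} (h : H ≤ hat K) : hat H ≤ hat K := fun _ hg => aug_le.2 h hg

theorem hat_unip {H : Subgroup (GLM k M)} (h : IsUnipotentOn H) : IsUnipotentOn (hat H) := by
  refine of_fixed fun W hW hne => ?_
  obtain ⟨v, hv⟩ : ∃ v, v ∉ W := by simpa [Submodule.eq_top_iff'] using hne
  obtain ⟨v, -, hv, hv'⟩ := exists_fixed h le_top (fun _ _ _ _ => trivial) trivial hv
  refine ⟨v, hv, fun g hg => ?_⟩
  have : aug H ≤ W.comap (LinearMap.applyₗ v) := Submodule.span_le.2 (by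
    rintro _ ⟨g, hg, rfl⟩; exact hv' g hg)
  exact this hg

omit [FiniteDimensional k M] in
theorem of_pow_eq_bot {H : Subgroup (GLM k M)} {J : Submodule k (Module.End k M)} {n : ℕ} (hn : J ^ n = ⊥)
    (h : ∀ g ∈ H, (g : Module.End k M) - 1 ∈ J) : IsUnipotentOn H := by
  refine unip_iff.2 ⟨n, fun l hl hlen => ?_⟩
  have : (l.map fun g : GLM k M => (g : M →ₗ[k] M) - 1).prod ∈ J ^ l.length := by
    clear hlen
    induction l with
    | nil => simpa using Submodule.mem_one.2 ⟨1, by simp⟩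
    | cons g l ih =>
      rw [List.map_cons, List.prod_cons, List.length_cons, pow_succ']
      exact Submodule.mul_mem_mul (h g (hl g (by simp))) (ih fun x hx => hl x (by simp [hx]))
  rwa [hlen, hn] at this

omit [FiniteDimensional k M] in
theorem aug_pow {H : Subgroup (GLM k M)} (h : IsUnipotentOn H) : ∃ n, aug H ^ n = ⊥ := by
  obtain ⟨n, hn⟩ := unip_iff.1 h
  refine ⟨n, ?_⟩
  rw [aug, Submodule.span_pow, Submodule.span_eq_bot]
  intro x hx
  obtain ⟨f, rfl⟩ := Set.mem_pow.1 hx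
  choose g hg e using fun i => (f i).2
  have := hn (List.ofFn g) (by simpa using hg) (by simp)
  rw [List.map_ofFn] at this
  rw [← this]
  congr 2
  exact funext e

theorem exists_normalizing {P : Subgroup (GLM k M)} (hP : IsUnipotentOn P) {Γ : Set (Subgroup (GLM k M))}
    (hΓ : ∀ A ∈ Γ, A ≤ P) (hc : ∀ A ∈ Γ, ∀ B ∈ Γ, ∀ b ∈ B, conjBy A b ∈ Γ) {K : Subgroup (GLM k M)}
    (hK : K ≤ P) (hcK : ∀ A ∈ Γ, ∀ x ∈ P, conjBy A x ∈ Γ) (h : ∃ A ∈ Γ, ¬ A ≤ K) :
    ∃ A ∈ Γ, ¬ A ≤ K ∧ ∀ a ∈ A, ∀ B ∈ Γ, B ≤ K → conjBy B a ≤ K := by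
  obtain ⟨n, hn⟩ := aug_pow hP
  have hle : ∀ m, aug P ^ (m + 2) ≤ aug P ^ (m + 1) := by
    intro m
    rw [pow_succ, pow_succ, mul_assoc]
    exact mul_le_mul_right (Submodule.mul_le.2 (aug_mul P)) _
  have hr : ∀ m, ∀ a ∈ aug P ^ (m + 1), ∀ b ∈ aug P, a * b ∈ aug P ^ (m + 2) := fun m a ha b hb =>
    pow_succ (aug P) (m + 1) ▸ Submodule.mul_mem_mul ha hb
  have hl : ∀ m, ∀ a ∈ aug P ^ (m + 1), ∀ b ∈ aug P, b * a ∈ aug P ^ (m + 2) := fun m a ha b hb =>
    pow_succ' (aug P) (m + 1) ▸ Submodule.mul_mem_mul hb ha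
  have hle1 : ∀ m, aug P ^ (m + 1) ≤ aug P := by
    intro m
    induction m with
    | zero => simp
    | succ m ih => exact (hle m).trans ih
  let Q : ℕ → Subgroup (GLM k M) := fun m => algGrp (aug P ^ (m + 1)) fun a ha b hb => hle m (hr m a ha b (hle1 m hb))
  have hQ : ∀ m, ∀ y ∈ Q m, ∀ x ∈ Q 0, y * x * y⁻¹ * x⁻¹ ∈ Q (m + 1) := by
    intro m y hy x hx
    have hx' : (x : Module.End k M) - 1 ∈ aug P := hle1 0 hx
    have hz : ((y⁻¹ * x⁻¹ : GLM k M) : Module.End k M) - 1 ∈ aug P :=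
      hle1 0 (mul_mem (inv_mem (show y ∈ Q 0 from by simpa [Q, algGrp] using hle1 m hy)) (inv_mem hx))
    have h1 := sub_mem (hr m _ hy _ hx') (hl m _ hy _ hx')
    have h2 := add_mem (hle _ (hr _ _ h1 _ hz)) h1
    change ((y * x * y⁻¹ * x⁻¹ : GLM k M) : Module.End k M) - 1 ∈ aug P ^ (m + 1 + 1)
    convert h2 using 1
    have : (y * x : Module.End k M) * (y⁻¹ * x⁻¹ : GLM k M) - 1 =
        (y * x - x * y : Module.End k M) * (y⁻¹ * x⁻¹ : GLM k M) := by
      rw [sub_mul, ← Units.val_mul x y, ← Units.val_mul (x * y)]; simp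
    rw [mul_assoc (y * x), Units.val_mul, Units.val_mul, this]; noncomm_ring
  have hPQ : P ≤ Q 0 := fun g hg => by simpa [Q, algGrp] using mem_aug hg
  have hQ0 : ∀ m, Q m ≤ Q 0 := fun m g hg => by simpa [Q, algGrp] using hle1 m hg
  have hQs : ∀ m, Q (m + 1) ≤ Q m := fun m g hg => hle m hg
  have hQn : Q n = ⊥ := by
    rw [eq_bot_iff]
    intro g hg
    have : (g : Module.End k M) - 1 ∈ aug P ^ (n + 1) := hg
    rw [pow_succ, hn, Submodule.bot_mul, Submodule.mem_bot, sub_eq_zero] at this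
    exact Units.ext this
  have key : ∀ m, K ⊔ Q m ≤ normalizer (K ⊔ Q (m + 1) : Subgroup (GLM k M)) := by
    intro m
    refine sup_le (le_sup_left.trans le_normalizer) fun y hy => conjBy_eq_self_iff.1 ?_
    have : ∀ y ∈ Q m, conjBy (K ⊔ Q (m + 1)) y ≤ K ⊔ Q (m + 1) := by
      rintro y hy _ ⟨x, hx, rfl⟩
      have := mul_mem (mem_sup_right (S := K) (hQ m y hy x (sup_le (hK.trans hPQ) (hQ0 _) hx))) hx
      simpa using this
    exact mem_normalizer_of_le (this y hy) (this _ (inv_mem hy))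
  by_contra hcon
  push Not at hcon
  have : ∀ m, ∃ A ∈ Γ, ¬ A ≤ K ∧ A ≤ K ⊔ Q m := by
    intro m
    induction m with
    | zero =>
      obtain ⟨A, hA, h⟩ := h
      exact ⟨A, hA, h, (hΓ A hA).trans (hPQ.trans le_sup_right)⟩
    | succ m ih =>
      obtain ⟨A, hA, h1, h2⟩ := ih
      obtain ⟨a, ha, B, hB, h3, h4⟩ := hcon A hA h1
      refine ⟨_, hc B hB A hA a ha, h4, ?_⟩
      rw [← conjBy_eq_self_iff.2 (key m (h2 ha))]
      exact conjBy_le_conjBy.2 (h3.trans le_sup_left)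
  obtain ⟨A, -, h1, h2⟩ := this n
  rw [hQn, sup_bot_eq] at h2
  exact h1 h2

theorem conj_hat {H : Subgroup (GLM k M)} {A : Subgroup (GLM k M)} (hA : A ≤ hat H) {x : GLM k M}
    (hx : x ∈ hat H) : conjBy A x ≤ hat H := conjBy_le_of_le hA hx

theorem iSup_of_pairwise {G : Subgroup (GLM k M)} {W : Set (Subgroup (GLM k M))} (hWG : ∀ A ∈ W, A ≤ G)
    (hWW : ∀ A ∈ W, ∀ B ∈ W, IsUnipotentOn (A ⊔ B)) (hc : ∀ A ∈ W, ∀ g ∈ G, conjBy A g ∈ W) :
    IsUnipotentOn (⨆ A ∈ W, A) := by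
  let gen : Set (Subgroup (GLM k M)) → Subgroup (GLM k M) := fun Δ => ⨆ A ∈ Δ, A
  have le_gen : ∀ {Δ A}, A ∈ Δ → A ≤ gen Δ := fun {Δ A} h => le_iSup₂_of_le A h le_rfl
  have gen_le : ∀ {Δ K}, (∀ A ∈ Δ, A ≤ K) → gen Δ ≤ K := fun h => iSup₂_le h
  have gen_union : ∀ Δ Δ', gen (Δ ∪ Δ') = gen Δ ⊔ gen Δ' := fun Δ Δ' => iSup_union
  have gen_single : ∀ A, gen {A} = A := fun A => iSup_singleton
  let cl : Set (Subgroup (GLM k M)) → Set (Subgroup (GLM k M)) := fun Δ => {A | A ∈ W ∧ A ≤ hat (gen Δ)}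
  have sub_cl : ∀ Δ, Δ ⊆ W → Δ ⊆ cl Δ := fun Δ h A hA => ⟨h hA, (le_gen hA).trans (le_hat _)⟩
  have cl_le : ∀ Δ, gen (cl Δ) ≤ hat (gen Δ) := fun Δ => gen_le fun A hA => hA.2
  have cl_unip : ∀ Δ, IsUnipotentOn (gen Δ) → IsUnipotentOn (gen (cl Δ)) := fun Δ h => mono (hat_unip h) (cl_le Δ)
  have claim : ∀ n, ∀ Δ₀ Δ₁ Δ₂, Module.finrank k (Module.End k M) - Module.finrank k (aug (gen Δ₀)) = n →
      Δ₀ ⊆ Δ₁ → Δ₀ ⊆ Δ₂ → Δ₁ ⊆ W → Δ₂ ⊆ W → IsUnipotentOn (gen Δ₁) → IsUnipotentOn (gen Δ₂) →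
      IsUnipotentOn (gen (Δ₁ ∪ Δ₂)) := by
    intro n
    induction n using Nat.strong_induction_on with | _ n ih =>
    intro Δ₀ Δ₁ Δ₂ hn s1 s2 w1 w2 u1 u2
    have hh : ∀ Δ, Δ₀ ⊆ Δ → hat (gen Δ₀) ≤ hat (gen Δ) := fun Δ s =>
      hat_le (gen_le fun A hA => (le_gen (s hA)).trans (le_hat _))
    by_cases c1 : ∀ A ∈ Δ₁, A ≤ hat (gen Δ₀)
    · refine mono (hat_unip u2) ?_
      rw [gen_union]
      exact sup_le ((gen_le c1).trans (hh _ s2)) (le_hat _)
    by_cases c2 : ∀ A ∈ Δ₂, A ≤ hat (gen Δ₀)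
    · refine mono (hat_unip u1) ?_
      rw [gen_union]
      exact sup_le (le_hat _) ((gen_le c2).trans (hh _ s1))
    have find : ∀ Δ, Δ₀ ⊆ Δ → Δ ⊆ W → IsUnipotentOn (gen Δ) → (¬ ∀ A ∈ Δ, A ≤ hat (gen Δ₀)) →
        ∃ A ∈ cl Δ, (∀ x ∈ A, ∀ g ∈ gen (cl Δ₀), x⁻¹ * g * x ∈ gen (cl Δ₀)) ∧
          Module.finrank k (Module.End k M) - Module.finrank k (aug (gen (cl Δ₀ ∪ {A}))) < n := by
      intro Δ s w u c
      push Not at c
      obtain ⟨A, hA, hA'⟩ := c
      have hcc : ∀ A ∈ cl Δ, ∀ x ∈ G ⊓ hat (gen Δ), conjBy A x ∈ cl Δ := fun A hA x hx =>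
        ⟨hc A hA.1 x hx.1, conj_hat hA.2 hx.2⟩
      obtain ⟨A, hA, h1, h2⟩ := exists_normalizing (P := G ⊓ hat (gen Δ)) (mono (hat_unip u) inf_le_right)
        (Γ := cl Δ) (fun A hA => le_inf (hWG A hA.1) hA.2)
        (fun A hA B hB b hb => hcc A hA b ⟨hWG B hB.1 hb, hB.2 hb⟩) (K := G ⊓ hat (gen Δ₀))
        (inf_le_inf_left _ (hh _ s)) hcc ⟨A, sub_cl _ w hA, fun h => hA' (h.trans inf_le_right)⟩
      refine ⟨A, hA, fun x hx g hg => ?_, ?_⟩
      · have : gen (cl Δ₀) ≤ conjBy (gen (cl Δ₀)) x := gen_le fun B hB => by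
          have h3 := h2 _ (inv_mem hx) B ⟨hB.1, hB.2.trans (hh _ s)⟩ (le_inf (hWG B hB.1) hB.2)
          have h4 : conjBy B x⁻¹ ≤ gen (cl Δ₀) :=
            le_gen ⟨hc B hB.1 _ (inv_mem (hWG A hA.1 hx)), h3.trans inf_le_right⟩
          simpa using (conjBy_le_conjBy (g := x)).2 h4
        exact mem_conjBy.1 (this hg)
      · have h3 : aug (gen Δ₀) < aug (gen (cl Δ₀ ∪ {A})) := by
          refine lt_of_le_of_ne (aug_le.2 (gen_le fun B hB => (le_gen (Or.inl (sub_cl _ (s.trans w) hB))).trans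
            (le_hat _))) fun e => h1 (le_inf (hWG A hA.1) ((le_gen (Or.inr rfl)).trans (aug_le.1 e.ge)))
        have := Submodule.finrank_lt_finrank_of_lt h3
        have := (aug (gen (cl Δ₀ ∪ {A}))).finrank_le
        omega
    obtain ⟨A₁, a1, n1, l1⟩ := find _ s1 w1 u1 c1
    obtain ⟨A₂, a2, n2, l2⟩ := find _ s2 w2 u2 c2
    have u0 : IsUnipotentOn (gen (cl Δ₀)) := cl_unip _ (mono u1 (gen_le fun A hA => le_gen (s1 hA)))
    have u3 : IsUnipotentOn (gen (cl Δ₀ ∪ ({A₁} ∪ {A₂}))) := by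
      rw [gen_union, gen_union, gen_single, gen_single]
      refine sup_of_normalizes u0 (hWW _ a1.1 _ a2.1) fun x hx => ?_
      refine sup_induction (p := fun x => ∀ g ∈ gen (cl Δ₀), x⁻¹ * g * x ∈ gen (cl Δ₀)) n1 n2 ?_ hx
      intro x y _ _ h1 h2 g hg
      have := h2 _ (h1 g hg)
      simpa [mul_assoc] using this
    have cc : ∀ Δ, Δ₀ ⊆ Δ → cl Δ₀ ⊆ cl Δ := fun Δ s A hA => ⟨hA.1, hA.2.trans (hh _ s)⟩
    have w3 : cl Δ₀ ∪ ({A₁} ∪ {A₂}) ⊆ W := by
      rintro A (h | rfl | rfl)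
      exacts [h.1, a1.1, a2.1]
    have u4 := ih _ l1 _ (cl Δ₁) _ rfl (Set.union_subset (cc _ s1) (by simpa using a1))
      (Set.union_subset_union_right _ Set.subset_union_left) (fun A hA => hA.1) w3 (cl_unip _ u1) u3
    have u5 := ih _ l2 _ _ (cl Δ₂) rfl
      ((Set.union_subset_union_right _ Set.subset_union_right).trans Set.subset_union_right)
      (Set.union_subset (cc _ s2) (by simpa using a2)) (Set.union_subset (fun A hA => hA.1) w3) (fun A hA => hA.1)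
      u4 (cl_unip _ u2)
    refine mono u5 (gen_le ?_)
    rintro A (h | h)
    · exact le_gen (Or.inl (Or.inl (sub_cl _ w1 h)))
    · exact le_gen (Or.inr (sub_cl _ w2 h))
  have hex : ∃ Δ, Δ ⊆ W ∧ IsUnipotentOn (gen Δ) := ⟨∅, by simp, unip_iff.2 ⟨1, fun l hl hlen => by
    obtain ⟨g, rfl⟩ := List.length_eq_one_iff.1 hlen
    have : g = 1 := by simpa [gen] using hl
    simp [this]⟩⟩
  obtain ⟨Δ, ⟨w, u⟩, hmax⟩ := exists_max_image {Δ | Δ ⊆ W ∧ IsUnipotentOn (gen Δ)}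
    (fun Δ => Module.finrank k (aug (gen Δ))) (Module.finrank k (Module.End k M)) hex
    (fun Δ _ => (aug (gen Δ)).finrank_le)
  refine mono (hat_unip u) (gen_le fun A hA => ?_)
  have u1 := claim _ ∅ Δ {A} rfl (by simp) (by simp) w (by simpa using hA) u
    (by rw [gen_single]; simpa using hWW A hA A hA)
  have h1 : aug (gen Δ) ≤ aug (gen (Δ ∪ {A})) := aug_le.2 (gen_le fun B hB => (le_gen (Or.inl hB)).trans (le_hat _))
  have h2 := Submodule.eq_of_le_of_finrank_le h1 (hmax _ ⟨Set.union_subset w (by simpa using hA), u1⟩)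
  exact (le_gen (Or.inr rfl)).trans (aug_le.1 h2.ge)

end Unip

end H12
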