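import Mathlib
import Cfsg.Agent.H12.DicksonL
import Cfsg.Agent.H12.Unip

/-!
Quadratic pairs I: two square zero endomorphisms. `Q.InL G α` (α² = 0, `1 + kα ⊆ G`), `Q.MinEl G α` (of minimal rank),
coordinates of the conjugates of α under the group generated by `1 + kα`, `1 + kβ` as polynomials in z = αβ + βα
(`Q.Orb`, `Q.orb_surj`), the nilpotent case `Q.nilp_case`.
-/

set_option autoImplicit false

namespace H12

open Cfsg Polynomial

namespace Q

section abstract
variable {R A : Type*} [CommRing R] [Ring A] [Algebra R A] {α β : A} {z : R}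
  (hα : α * α = 0) (hβ : β * β = 0) (hz : α * β + β * α = z • (1 : A))
include hα hβ hz

theorem rules : (∀ x, α * (α * x) = 0) ∧ (∀ x, β * (β * x) = 0) ∧ (∀ x, β * (α * x) = z • x - α * (β * x)) ∧
    β * α = z • (1 : A) - α * β := by
  refine ⟨fun x => by rw [← mul_assoc, hα, zero_mul], fun x => by rw [← mul_assoc, hβ, zero_mul], fun x => ?_,
    by rw [← hz]; abel⟩
  have := congrArg (· * x) hz
  simp only [add_mul, mul_assoc, smul_mul_assoc, one_mul] at this
  rw [← this]; abel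

/-- the conjugate of `α` with coordinates `(a, c)` -/
def gam (α β : A) (z a c : R) : A := (a * a) • α - (a * c) • (α * β - β * α) - (c * c * z) • β

theorem ident (s a c : R) :
    (1 + s • α) * (a • α + c • (β * α)) = (a + s * z * c) • α + c • (β * α) ∧
    (a • α - c • (α * β)) * (1 - s • α) = (a + s * z * c) • α - c • (α * β) ∧
    (1 + s • β) * (a • α + c • (β * α)) = a • α + (c + s * a) • (β * α) ∧
    (a • α - c • (α * β)) * (1 - s • β) = a • α - (c + s * a) • (α * β) ∧
    a • (a • α - c • (α * β)) + c • (β * (a • α - c • (α * β))) = gam α β z a c ∧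
    α * gam α β z a c + gam α β z a c * α = (-(c * c * z * z)) • (1 : A) ∧
    α * β * α = z • α ∧ β * α * β = z • β := by
  obtain ⟨r1, r2, r3, r4⟩ := rules hα hβ hz
  refine ⟨?_, ?_, ?_, ?_, ?_, ?_, ?_, ?_⟩ <;>
    simp only [gam, mul_add, add_mul, mul_sub, sub_mul, smul_mul_assoc, mul_smul_comm, mul_assoc, r1, r2, r3, r4, hα, hβ,
      one_mul, mul_one, mul_zero, smul_zero] <;> module

theorem ident2 (a c : R) (h : (c * c * z * z) • α = 0) :
    α * gam α β z a c * α = 0 ∧ gam α β z a c * α * gam α β z a c = 0 ∧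
    (α * gam α β z a c - gam α β z a c * α) * (α * gam α β z a (-c) - gam α β z a (-c) * α) = 0 ∧
    (α * gam α β z a c - gam α β z a c * α) - (α * gam α β z a (-c) - gam α β z a (-c) * α) =
      (4 * (a * c * z)) • α := by
  obtain ⟨r1, r2, r3, r4⟩ := rules hα hβ hz
  have h1 : (c * c * z * z) • (α * β) = 0 := by rw [← smul_mul_assoc, h, zero_mul]
  have h2 : (c * c * z * z * z) • (1 : A) = 0 := by
    have : (c * c * z * z) • (β * α) = 0 := by rw [← mul_smul_comm, h, mul_zero]
    rw [mul_smul, ← hz, smul_add, h1, this, add_zero]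
  have h3 : (c * c * z * z * z) • β = 0 := by simpa using congrArg (· * β) h2
  refine ⟨?_, ?_, ?_, ?_⟩ <;>
    simp only [gam, mul_add, add_mul, mul_sub, sub_mul, smul_mul_assoc, mul_smul_comm, mul_assoc, r1, r2, r3, r4, hα, hβ,
      one_mul, mul_one, mul_zero, zero_mul, smul_zero]
  · linear_combination (norm := module) (-1 : R) • h
  · linear_combination (norm := module) (-(a * a)) • h + (2 * a * c) • h1 + (c * c) • h3 + (-(a * c)) • h2
  · linear_combination (norm := module) (c * c * z) • h2 + (4 * a * c * z) • h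
  · module

theorem ident3 (a c : R) : (c • α = 0 → gam α β z a c = (a * a) • α) ∧
    (a • α = 0 → gam α β z a c = (-(c * c * z)) • β) := by
  obtain ⟨-, -, -, -, -, -, -, i8⟩ := ident hα hβ hz 0 0 0
  have k : ∀ c : R, c • α = 0 → c • (α * β - β * α) = 0 ∧ (c * z) • β = 0 := by
    intro c h
    refine ⟨by rw [smul_sub, ← smul_mul_assoc, ← mul_smul_comm, h]; simp, ?_⟩
    rw [mul_smul, ← i8, ← smul_mul_assoc, ← mul_smul_comm, h]; simp
  constructor
  · intro h
    rw [gam]
    linear_combination (norm := module) (-a) • (k c h).1 + (-c) • (k c h).2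
  · intro h
    rw [gam]
    linear_combination (norm := module) a • h + (-c) • (k a h).1

end abstract

variable {k : Type*} [Field k] {M : Type*} [AddCommGroup M] [Module k M]

/-- the centraliser of `z` -/
def Cz (z : Module.End k M) : Type _ := ↥(Subalgebra.centralizer k ({z} : Set (Module.End k M)))

noncomputable instance czRing (z : Module.End k M) : Ring (Cz z) :=
  inferInstanceAs (Ring ↥(Subalgebra.centralizer k ({z} : Set (Module.End k M))))

theorem commute_aeval {z x : Module.End k M} (h : z * x = x * z) (p : k[X]) : aeval z p * x = x * aeval z p := by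
  induction p using Polynomial.induction_on' with
  | add p q hp hq => rw [map_add, add_mul, mul_add, hp, hq]
  | monomial n a =>
    rw [aeval_monomial]
    exact ((Algebra.commute_algebraMap_left a x).mul_left ((show Commute z x from h).pow_left n))

/-- the element of the centraliser given by `x` -/
def cz {z : Module.End k M} (x : Module.End k M) (h : z * x = x * z) : Cz z :=
  ⟨x, by rintro _ rfl; exact h⟩

/-- the underlying endomorphism -/
def Cz.val {z : Module.End k M} (x : Cz z) : Module.End k M := x.1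

noncomputable instance czAlg (z : Module.End k M) : Algebra k[X] (Cz z) :=
  RingHom.toAlgebra' (((aeval z : k[X] →ₐ[k] _).codRestrict (Subalgebra.centralizer k {z}) (by
    rintro p _ rfl; exact (commute_aeval rfl p).symm)).toRingHom) (fun p x => Subtype.ext
      (commute_aeval (x.2 z rfl) p))

section val
variable {z : Module.End k M}
theorem Cz.ext {x y : Cz z} (h : x.val = y.val) : x = y := Subtype.ext h
@[simp] theorem val_cz (x : Module.End k M) (h : z * x = x * z) : (cz x h).val = x := rfl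
@[simp] theorem val_mul (x y : Cz z) : (x * y).val = x.val * y.val := rfl
@[simp] theorem val_add (x y : Cz z) : (x + y).val = x.val + y.val := rfl
@[simp] theorem val_sub (x y : Cz z) : (x - y).val = x.val - y.val := rfl
@[simp] theorem val_one : (1 : Cz z).val = 1 := rfl
@[simp] theorem val_zero : (0 : Cz z).val = 0 := rfl
@[simp] theorem val_smul (p : k[X]) (x : Cz z) : (p • x).val = aeval z p * x.val := rfl
end val

/-- `α² = 0` and `1 + kα ⊆ G` -/
def InL (G : Subgroup (GLM k M)) (α : Module.End k M) : Prop :=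
  α * α = 0 ∧ ∀ c : k, ∃ g ∈ G, (g : Module.End k M) = 1 + c • α

/-- rank -/
noncomputable def rk (α : Module.End k M) : ℕ := Module.finrank k (LinearMap.range α)

/-- minimal rank members of `L` -/
structure MinEl (G : Subgroup (GLM k M)) (α : Module.End k M) : Prop where
  inL : InL G α
  ne : α ≠ 0
  min : ∀ β, InL G β → β ≠ 0 → rk α ≤ rk β

variable {G : Subgroup (GLM k M)} {α β : Module.End k M}

theorem inv_eq {g : GLM k M} (hα : α * α = 0) (h : (g : Module.End k M) = 1 + α) :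
    ((g⁻¹ : GLM k M) : Module.End k M) = 1 - α := by
  apply Units.inv_eq_of_mul_eq_one_right
  rw [h, add_mul, mul_sub, mul_sub, hα]; simp

theorem InL.sq_smul (h : InL G α) (c : k) : (c • α) * (c • α) = 0 := by
  rw [smul_mul_smul_comm, h.1, smul_zero]

theorem InL.zero : InL G (0 : Module.End k M) := ⟨by simp, fun _ => ⟨1, one_mem _, by simp⟩⟩

theorem InL.smul (h : InL G α) (c : k) : InL G (c • α) :=
  ⟨h.sq_smul c, fun d => by simpa [smul_smul] using h.2 (d * c)⟩

theorem InL.neg (h : InL G α) : InL G (-α) := by simpa using h.smul (-1)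

theorem InL.add (h : InL G α) (h' : InL G β) (h1 : α * β = 0) (h2 : β * α = 0) : InL G (α + β) := by
  refine ⟨by rw [add_mul, mul_add, mul_add, h.1, h'.1, h1, h2]; simp, fun c => ?_⟩
  obtain ⟨g, hg, e⟩ := h.2 c
  obtain ⟨g', hg', e'⟩ := h'.2 c
  refine ⟨g * g', mul_mem hg hg', ?_⟩
  rw [Units.val_mul, e, e', add_mul, mul_add, mul_add, smul_mul_smul_comm, h1, smul_add]; simp; abel

theorem InL.sub (h : InL G α) (h' : InL G β) (h1 : α * β = 0) (h2 : β * α = 0) : InL G (α - β) := by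
  simpa [sub_eq_add_neg] using h.add h'.neg (by simp [h1]) (by simp [h2])

theorem InL.conj (h : InL G α) {g : GLM k M} (hg : g ∈ G) :
    InL G ((g : Module.End k M) * α * (g⁻¹ : GLM k M)) := by
  constructor
  · rw [mul_assoc, mul_assoc, ← mul_assoc (g⁻¹ : GLM k M).1, ← mul_assoc (g⁻¹ : GLM k M).1, Units.inv_mul, one_mul,
      ← mul_assoc α, h.1]; simp
  · intro c
    obtain ⟨g', hg', e'⟩ := h.2 c
    refine ⟨g * g' * g⁻¹, mul_mem (mul_mem hg hg') (inv_mem hg), ?_⟩
    rw [Units.val_mul, Units.val_mul, e', mul_add, add_mul, mul_one, Units.mul_inv]; simp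

theorem comm_eq {g g' : GLM k M} (hα : α * α = 0) (hβ : β * β = 0) (h1 : α * β * α = 0) (h2 : β * α * β = 0)
    (e : (g : Module.End k M) = 1 + α) (e' : (g' : Module.End k M) = 1 + β) :
    ((g * g' * g⁻¹ * g'⁻¹ : GLM k M) : Module.End k M) = 1 + (α * β - β * α) := by
  simp only [Units.val_mul, inv_eq hα e, inv_eq hβ e', e, e']
  have r1 : ∀ x, α * (α * x) = 0 := fun x => by rw [← mul_assoc, hα, zero_mul]
  have r2 : ∀ x, α * (β * (α * x)) = 0 := fun x => by rw [← mul_assoc, ← mul_assoc, h1, zero_mul]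
  rw [mul_assoc] at h1 h2
  simp only [mul_add, add_mul, mul_sub, sub_mul, mul_one, one_mul, mul_assoc, hα, hβ, h1, h2, r1, r2, mul_zero,
    zero_mul]
  abel

theorem InL.comm (h : InL G α) (h' : InL G β) (h1 : α * β * α = 0) (h2 : β * α * β = 0) :
    InL G (α * β - β * α) := by
  constructor
  · have : (α * β - β * α) * (α * β - β * α) =
        (α * β * α) * β - α * (β * β) * α - β * (α * α) * β + (β * α * β) * α := by noncomm_ring
    rw [this, h1, h2, h.1, h'.1]; simp
  · intro c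
    obtain ⟨g, hg, e⟩ := h.2 c
    obtain ⟨g', hg', e'⟩ := h'.2 1
    rw [one_smul] at e'
    refine ⟨_, mul_mem (mul_mem (mul_mem hg hg') (inv_mem hg)) (inv_mem hg'), ?_⟩
    rw [comm_eq (h.sq_smul c) h'.1 (by simp [h1]) (by simp [h2]) e e']
    simp [smul_sub]

variable [FiniteDimensional k M]

theorem rk_mul_add (φ ψ : Module.End k M) :
    rk (φ * ψ) + Module.finrank k ↥(LinearMap.range ψ ⊓ LinearMap.ker φ) = rk ψ := by
  have := LinearMap.finrank_range_add_finrank_ker (φ.domRestrict (LinearMap.range ψ))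
  rw [LinearMap.range_domRestrict, LinearMap.ker_domRestrict] at this
  rw [rk, rk, ← this, Module.End.mul_eq_comp, LinearMap.range_comp, ← Submodule.map_comap_subtype,
    Submodule.finrank_map_subtype_eq]

theorem rk_mul_le_right (φ ψ : Module.End k M) : rk (φ * ψ) ≤ rk ψ := by
  have := rk_mul_add φ ψ; omega

theorem rk_mul_le_left (φ ψ : Module.End k M) : rk (φ * ψ) ≤ rk φ :=
  Submodule.finrank_mono (LinearMap.range_comp_le_range ψ φ)

theorem rk_mul_lt {φ ψ : Module.End k M} {v : M} (h1 : ψ v ≠ 0) (h2 : φ (ψ v) = 0) : rk (φ * ψ) < rk ψ := by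
  have := rk_mul_add φ ψ
  have h3 : 0 < Module.finrank k ↥(LinearMap.range ψ ⊓ LinearMap.ker φ) :=
    Module.finrank_pos_iff_exists_ne_zero.2 ⟨⟨ψ v, ⟨v, rfl⟩, h2⟩, fun e => h1 (congrArg Subtype.val e)⟩
  omega

theorem MinEl.eq_zero (h : MinEl G α) {φ : Module.End k M} (h' : InL G (φ * α)) {v : M} (h1 : α v ≠ 0)
    (h2 : φ (α v) = 0) : φ * α = 0 := by
  by_contra hne
  exact absurd (h.min _ h' hne) (not_le.2 (rk_mul_lt h1 h2))

theorem MinEl.of_le (h : MinEl G α) (h' : InL G β) (hne : β ≠ 0) (hle : rk β ≤ rk α) : MinEl G β :=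
  ⟨h', hne, fun γ h1 h2 => hle.trans (h.min γ h1 h2)⟩

theorem MinEl.conj (h : MinEl G α) {g : GLM k M} (hg : g ∈ G) :
    MinEl G ((g : Module.End k M) * α * (g⁻¹ : GLM k M)) := by
  refine h.of_le (h.inL.conj hg) (fun e => h.ne ?_) ((rk_mul_le_left _ _).trans (rk_mul_le_right _ _))
  rwa [Units.mul_left_eq_zero, Units.mul_right_eq_zero] at e

omit [FiniteDimensional k M] in
theorem z_comm (hα : α * α = 0) : (α * β + β * α) * α = α * (α * β + β * α) := by
  rw [add_mul, mul_add, mul_assoc β, hα, ← mul_assoc α α, hα, mul_assoc]; simp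

omit [FiniteDimensional k M] in
theorem z_comm' (hβ : β * β = 0) : (α * β + β * α) * β = β * (α * β + β * α) := by
  rw [add_comm]; exact z_comm hβ

/-- `h ∈ G` has coordinates `(a, c)` -/
def Coord (G : Subgroup (GLM k M)) (α β : Module.End k M) (a c : k[X]) : Prop :=
  ∃ h ∈ G, (h : Module.End k M) * α = aeval (α * β + β * α) a * α + aeval (α * β + β * α) c * (β * α) ∧
    α * (h⁻¹ : GLM k M) = aeval (α * β + β * α) a * α - aeval (α * β + β * α) c * (α * β) ∧
    Commute (α * β + β * α) h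

/-- the orbit of `(1, 0)` -/
def Orb (G : Subgroup (GLM k M)) (α β : Module.End k M) (a c : k[X]) : Prop :=
  Coord G α β a c ∧ Coord G α β a (-c) ∧ IsCoprime a (X * c) ∧ a.eval 0 = 1

omit [FiniteDimensional k M] in
theorem orb_one : Orb G α β 1 0 :=
  ⟨⟨1, one_mem _, by simp, by simp, by simp⟩, ⟨1, one_mem _, by simp, by simp, by simp⟩, isCoprime_one_left, by simp⟩

section coord
omit [FiniteDimensional k M]
variable (hα : α * α = 0) (hβ : β * β = 0)
include hα hβ

theorem cz_rel : cz α (z_comm (β := β) hα) * cz α (z_comm hα) = 0 ∧ cz β (z_comm' (α := α) hβ) * cz β (z_comm' hβ) = 0 ∧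
    cz α (z_comm (β := β) hα) * cz β (z_comm' hβ) + cz β (z_comm' hβ) * cz α (z_comm hα) = (X : k[X]) • 1 :=
  ⟨Cz.ext hα, Cz.ext hβ, Cz.ext (by simp)⟩

theorem coord_x {a c : k[X]} (h : Coord G α β a c) {s : k[X]} (hs : InL G (aeval (α * β + β * α) s * α)) :
    Coord G α β (a + s * X * c) c := by
  obtain ⟨h, hh, e1, e2, e3⟩ := h
  obtain ⟨g, hg, e⟩ := hs.2 1
  rw [one_smul] at e
  obtain ⟨r1, r2, r3⟩ := cz_rel hα hβ
  obtain ⟨i1, i2, -⟩ := ident r1 r2 r3 s a c
  refine ⟨g * h, mul_mem hg hh, ?_, ?_, ?_⟩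
  · rw [Units.val_mul, mul_assoc, e1, e]
    simpa using congrArg Cz.val i1
  · rw [mul_inv_rev, Units.val_mul, ← mul_assoc, e2, inv_eq hs.1 e]
    simpa using congrArg Cz.val i2
  · rw [Units.val_mul, e]
    exact ((Commute.one_right _).add_right (Commute.mul_right
      (show Commute (α * β + β * α) (aeval (α * β + β * α) s) from (commute_aeval rfl s).symm) (z_comm hα))).mul_right e3

omit hβ in
theorem coord_y (hβ' : InL G β) {a c : k[X]} (h : Coord G α β a c) (t : k) : Coord G α β a (c + C t * a) := by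
  obtain ⟨h, hh, e1, e2, e3⟩ := h
  obtain ⟨g, hg, e⟩ := hβ'.2 t
  obtain ⟨r1, r2, r3⟩ := cz_rel hα hβ'.1
  obtain ⟨-, -, i1, i2, -⟩ := ident r1 r2 r3 (C t) a c
  refine ⟨g * h, mul_mem hg hh, ?_, ?_, ?_⟩
  · rw [Units.val_mul, mul_assoc, e1, e]
    have := congrArg Cz.val i1
    simp only [val_mul, val_add, val_smul, val_one, val_cz, aeval_C, map_add, map_mul] at this
    rw [Algebra.smul_def, this, map_add, map_mul, aeval_C]
  · rw [mul_inv_rev, Units.val_mul, ← mul_assoc, e2, inv_eq (hβ'.sq_smul t) e]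
    have := congrArg Cz.val i2
    simp only [val_mul, val_add, val_sub, val_smul, val_one, val_cz, aeval_C, map_add, map_mul] at this
    rw [Algebra.smul_def, this, map_add, map_mul, aeval_C]
  · rw [Units.val_mul, e]
    exact ((Commute.one_right _).add_right (Commute.smul_right (z_comm' hβ'.1) t)).mul_right e3

theorem orb_x {a c : k[X]} (h : Orb G α β a c) {s : k[X]} (hs : InL G (aeval (α * β + β * α) s * α)) :
    Orb G α β (a + s * X * c) c := by
  refine ⟨coord_x hα hβ h.1 hs, ?_, ?_, by simp [h.2.2.2]⟩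
  · simpa using coord_x hα hβ h.2.1 (s := -s) (by simpa using hs.neg)
  · simpa [mul_assoc] using h.2.2.1.add_mul_right_left s

omit hβ in
theorem orb_y (hβ' : InL G β) {a c : k[X]} (h : Orb G α β a c) (t : k) : Orb G α β a (c + C t * a) := by
  refine ⟨coord_y hα hβ' h.1 t, ?_, ?_, h.2.2.2⟩
  · rw [show -(c + C t * a) = -c + C (-t) * a by rw [map_neg]; ring]
    exact coord_y hα hβ' h.2.1 (-t)
  · rw [show X * (c + C t * a) = X * c + X * C t * a by ring]
    exact h.2.2.1.add_mul_right_right (X * C t)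

/-- the conjugate with coordinates `(a, c)` -/
noncomputable def gm (hα : α * α = 0) (hβ : β * β = 0) (a c : k[X]) : Module.End k M :=
  (gam (cz α (z_comm (β := β) hα)) (cz β (z_comm' hβ)) X a c).val

theorem coord_conj {a c : k[X]} (h : Coord G α β a c) :
    ∃ h ∈ G, (h : Module.End k M) * α * (h⁻¹ : GLM k M) = gm hα hβ a c ∧ Commute (α * β + β * α) h := by
  obtain ⟨h, hh, e1, e2, e3⟩ := h
  obtain ⟨r1, r2, r3⟩ := cz_rel hα hβ
  obtain ⟨-, -, -, -, i, -⟩ := ident r1 r2 r3 0 a c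
  refine ⟨h, hh, ?_, e3⟩
  rw [e1, add_mul, mul_assoc, mul_assoc, mul_assoc, e2, gm, ← i]
  simp

theorem gm_z (a c : k[X]) : α * gm hα hβ a c + gm hα hβ a c * α = aeval (α * β + β * α) (-(c * c * X * X)) := by
  obtain ⟨r1, r2, r3⟩ := cz_rel hα hβ
  obtain ⟨-, -, -, -, -, i, -⟩ := ident r1 r2 r3 0 a c
  have := congrArg Cz.val i
  rwa [val_smul, val_one, mul_one] at this

theorem gm_of_left (a c : k[X]) (h : aeval (α * β + β * α) c * α = 0) :
    gm hα hβ a c = aeval (α * β + β * α) (a * a) * α := by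
  obtain ⟨r1, r2, r3⟩ := cz_rel hα hβ
  exact congrArg Cz.val ((ident3 r1 r2 r3 a c).1 (Cz.ext h))

theorem gm_of_right (a c : k[X]) (h : aeval (α * β + β * α) a * α = 0) :
    gm hα hβ a c = aeval (α * β + β * α) (-(c * c * X)) * β := by
  obtain ⟨r1, r2, r3⟩ := cz_rel hα hβ
  exact congrArg Cz.val ((ident3 r1 r2 r3 a c).2 (Cz.ext h))

end coord

theorem key_delta (h2 : (2 : k) ≠ 0) (hα : MinEl G α) (hβ : β * β = 0) {a c : k[X]} (h : Orb G α β a c)
    (h0 : aeval (α * β + β * α) (c * c * X * X) * α = 0) {v : M} (hv : α v ≠ 0)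
    (hv' : aeval (α * β + β * α) (c * X) (α v) = 0) : aeval (α * β + β * α) (c * X) * α = 0 := by
  obtain ⟨r1, r2, r3⟩ := cz_rel hα.inL.1 hβ
  obtain ⟨i1, i2, i3, i4⟩ := ident2 r1 r2 r3 a c (Cz.ext h0)
  obtain ⟨j1, j2, j3, -⟩ := ident2 r1 r2 r3 a (-c) (Cz.ext (by simpa using h0))
  rw [neg_neg] at j3
  obtain ⟨g, hg, e, -⟩ := coord_conj hα.inL.1 hβ h.1
  obtain ⟨g', hg', e', -⟩ := coord_conj hα.inL.1 hβ h.2.1
  have d1 := hα.inL.comm (β := gm hα.inL.1 hβ a c) (e ▸ hα.inL.conj hg) (congrArg Cz.val i1) (congrArg Cz.val i2)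
  have d2 := hα.inL.comm (β := gm hα.inL.1 hβ a (-c)) (e' ▸ hα.inL.conj hg') (congrArg Cz.val j1)
    (congrArg Cz.val j2)
  have d3 := d1.sub d2 (congrArg Cz.val i3) (congrArg Cz.val j3)
  have i4' : _ = aeval (α * β + β * α) (4 * (a * c * X)) * α := congrArg Cz.val i4
  have d4 : InL G (aeval (α * β + β * α) (4 * (a * c * X)) * α) := i4' ▸ d3
  have d5 := hα.eq_zero d4 hv (by
    rw [mul_assoc a, ← mul_assoc, map_mul, Module.End.mul_apply, hv', map_zero])
  obtain ⟨u, w, huw⟩ := h.2.2.1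
  have h4 : (4 : k) ≠ 0 := by rw [show (4 : k) = 2 * 2 by norm_num]; exact mul_ne_zero h2 h2
  have e4 : C (4⁻¹ : k) * 4 = (1 : k[X]) := by
    rw [show (4 : k[X]) = C 4 from rfl, ← map_mul, inv_mul_cancel₀ h4, map_one]
  have : c * X = (u * C 4⁻¹) * (4 * (a * c * X)) + w * (c * c * X * X) := by
    linear_combination (-(c * X)) * huw - (u * a * c * X) * e4
  rw [this, map_add, add_mul, map_mul, map_mul (aeval _) w, mul_assoc _ _ α, mul_assoc _ _ α, d5, h0]; simp

theorem nilp_case (h2 : (2 : k) ≠ 0) (n : ℕ) : ∀ {α β : Module.End k M}, MinEl G α → InL G β →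
    (α * β + β * α) ^ n * α = 0 → (α * β + β * α) * α = 0 := by
  induction n using Nat.strong_induction_on with | _ n ih =>
  intro α β hα hβ h
  rcases n with _ | _ | n
  · exact absurd (by simpa using h) hα.ne
  · simpa using h
  by_contra hne
  have ho : Orb G α β 1 1 := by simpa using orb_y hα.inL.1 hβ orb_one 1
  obtain ⟨g, hg, e, -⟩ := coord_conj hα.inL.1 hβ.1 ho.1
  have h1 := ih (n + 1) (by omega) hα (e ▸ hα.inL.conj hg) (by
    rw [gm_z, ← map_pow, show (-(1 * 1 * X * X) : k[X]) ^ (n + 1) = ((-1) ^ (n + 1) * X ^ n) * X ^ (n + 1 + 1) by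
      rw [neg_pow]; ring, map_mul, mul_assoc, map_pow, aeval_X, h, mul_zero])
  rw [gm_z, map_neg, neg_mul, neg_eq_zero] at h1
  obtain ⟨v, hv⟩ : ∃ v, ((α * β + β * α) * α) v ≠ 0 := by
    by_contra hc; push Not at hc; exact hne (LinearMap.ext hc)
  have := key_delta h2 hα hβ.1 ho h1 (v := (α * β + β * α) v) (by
    rwa [← Module.End.mul_apply, ← z_comm hα.inL.1]) (by
    rw [← Module.End.mul_apply α, ← z_comm hα.inL.1, ← Module.End.mul_apply, ← mul_assoc]
    simpa using LinearMap.congr_fun h1 v)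
  exact hne (by simpa using this)

omit [FiniteDimensional k M] in
theorem exists_irred {z : Module.End k M} {q : k[X]} (hq : q ≠ 0) : ∀ w : M, w ≠ 0 → aeval z q w = 0 →
    ∃ g, Irreducible g ∧ g ∣ q ∧ ∃ r : k[X], aeval z r w ≠ 0 ∧ aeval z g (aeval z r w) = 0 := by
  induction q using WfDvdMonoid.induction_on_irreducible with
  | zero => exact absurd rfl hq
  | unit u hu =>
    intro w hw h
    obtain ⟨c, hc, rfl⟩ := Polynomial.isUnit_iff.1 hu
    rw [aeval_C, Module.algebraMap_end_apply, smul_eq_zero] at h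
    exact absurd (h.resolve_left hc.ne_zero) hw
  | mul a i ha hi ih =>
    intro w hw h
    by_cases h1 : aeval z a w = 0
    · obtain ⟨g, h2, h3, h4⟩ := ih ha w hw h1
      exact ⟨g, h2, h3.mul_left _, h4⟩
    · exact ⟨i, hi, dvd_mul_right _ _, a, h1, by rwa [map_mul] at h⟩

theorem exists_irred' {z : Module.End k M} (hc : z * α = α * z) (h : ∀ n, z ^ n * α ≠ 0) :
    ∃ g : k[X], Irreducible g ∧ g.eval 0 ≠ 0 ∧ ∃ v, α v ≠ 0 ∧ aeval z g (α v) = 0 := by
  have hi : IsIntegral k z := Algebra.IsIntegral.isIntegral z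
  obtain ⟨q, hq, hq0⟩ := exists_eq_pow_rootMultiplicity_mul_and_not_dvd (minpoly k z) (minpoly.ne_zero hi) 0
  rw [map_zero, sub_zero] at hq hq0
  set m := rootMultiplicity 0 (minpoly k z)
  obtain ⟨u, hu⟩ : ∃ u, (z ^ m * α) u ≠ 0 := by
    by_contra hc; push Not at hc; exact h m (LinearMap.ext hc)
  obtain ⟨g, h1, h2, r, h3, h4⟩ := exists_irred (z := z) (q := q) (by rintro rfl; simp at hq0) _ hu (by
    have := minpoly.aeval k z
    rw [hq, mul_comm, map_mul, map_pow, aeval_X] at this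
    rw [← Module.End.mul_apply, ← mul_assoc, this]; simp)
  have e : aeval z r ((z ^ m * α) u) = α (aeval z (r * X ^ m) u) := by
    rw [← Module.End.mul_apply α, ← commute_aeval hc]; simp
  refine ⟨g, h1, fun e0 => hq0 ((X_dvd_iff.2 ?_).trans h2), _, e ▸ h3, e ▸ h4⟩
  rwa [coeff_zero_eq_eval_zero]

theorem exists_sq_ne_one (hk2 : ringChar k ≠ 2) (hk3 : Nat.card k ≠ 3) : ∃ u : k, u ≠ 0 ∧ u * u ≠ 1 := by
  by_contra hc
  push Not at hc
  apply hk3
  have h2 : (2 : k) ≠ 0 := Ring.two_ne_zero hk2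
  have : (Set.univ : Set k) = {0, 1, -1} := by
    ext u
    simp only [Set.mem_univ, Set.mem_insert_iff, Set.mem_singleton_iff, true_iff]
    by_cases hu : u = 0
    · exact Or.inl hu
    · exact Or.inr (mul_self_eq_one_iff.1 (hc u hu))
  rw [← Set.ncard_univ, this, Set.ncard_eq_three]
  exact ⟨0, 1, -1, zero_ne_one, by simp, fun e => h2 (by linear_combination e), rfl⟩

open scoped MatrixGroups in
omit [FiniteDimensional k M] in
theorem orb_surj (hk2 : ringChar k ≠ 2) (hk3 : Nat.card k ≠ 3) (hα : InL G α) (hβ : InL G β)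
    {K : Type*} [Field K] [Algebra k K] {lam : K} (hl : IsAlgebraic k lam) (h0 : lam ≠ 0)
    (ht : Algebra.adjoin k {lam} = ⊤) (a₁ c₁ : K) (hne : a₁ ≠ 0 ∨ c₁ ≠ 0) (t : k) :
    ∃ a c, Orb G α β a c ∧ aeval lam a = a₁ ∧ aeval lam c = c₁ ∧ c.eval 0 = t := by
  let T : Set (SL(2, K) × Multiplicative k) :=
    {x | ∃ t : k, x = (H17.up (algebraMap k K t), 1) ∨ x = (H17.lo (algebraMap k K t * lam), Multiplicative.ofAdd t)}
  have key : ∀ x ∈ Subgroup.closure T, ∃ a c, Orb G α β a c ∧ aeval lam a = x.1 0 0 ∧ lam * aeval lam c = x.1 1 0 ∧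
      c.eval 0 = Multiplicative.toAdd x.2 := by
    have step : ∀ x ∈ T, ∀ y : SL(2, K) × Multiplicative k,
        (∃ a c, Orb G α β a c ∧ aeval lam a = y.1 0 0 ∧ lam * aeval lam c = y.1 1 0 ∧
          c.eval 0 = Multiplicative.toAdd y.2) → ∃ a c, Orb G α β a c ∧ aeval lam a = (x * y).1 0 0 ∧
          lam * aeval lam c = (x * y).1 1 0 ∧ c.eval 0 = Multiplicative.toAdd (x * y).2 := by
      rintro _ ⟨t, rfl | rfl⟩ y ⟨a, c, h1, h2, h3, h4⟩
      · refine ⟨_, _, orb_x hα.1 hβ.1 h1 (s := C t) (by simpa [← Algebra.smul_def] using hα.smul t), ?_, ?_, ?_⟩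
        · simp [H09.SL2.mul_apply, ← h2, ← h3]; ring
        · simp [H09.SL2.mul_apply, ← h3]
        · simpa using h4
      · refine ⟨_, _, orb_y hα.1 hβ h1 t, ?_, ?_, ?_⟩
        · simp [H09.SL2.mul_apply, ← h2]
        · simp [H09.SL2.mul_apply, ← h2, ← h3]; ring
        · simp [h4, h1.2.2.2, add_comm]
    intro x hx
    induction hx using Subgroup.closure_induction_left with
    | one => exact ⟨1, 0, orb_one, by simp [H17.one_00], by simp [H17.one_10], by simp⟩
    | mul_left x hx y _ ih => exact step x hx y ih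
    | inv_mul_cancel x hx y _ ih =>
      refine step _ ?_ y ih
      obtain ⟨t, rfl | rfl⟩ := hx
      · exact ⟨-t, Or.inl (by simp [H17.up_inv])⟩
      · refine ⟨-t, Or.inr (Prod.ext ?_ (by simp))⟩
        simp only [Prod.fst_inv, map_neg]
        rw [inv_eq_iff_mul_eq_one, H17.lo_mul]
        apply H09.SL2.ext' <;> simp [H17.one_00, H17.one_01, H17.one_10, H17.one_11]
  have h1 : (Subgroup.closure T).map (MonoidHom.fst _ _) = ⊤ :=
    dickson_lemma_top hk2 hk3 hl h0 ht
      (fun c => ⟨_, Subgroup.subset_closure ⟨c, Or.inl rfl⟩, rfl⟩)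
      (fun c => ⟨_, Subgroup.subset_closure ⟨c, Or.inr rfl⟩, rfl⟩)
  have h2 : ∀ g : SL(2, K), (g, 1) ∈ Subgroup.closure T := by
    obtain ⟨u, hu0, hu⟩ := exists_sq_ne_one hk2 hk3
    have hp : commutator SL(2, K) = ⊤ := (Matrix.SL2.commutator_eq_top (a := algebraMap k K u)
      ((_root_.map_ne_zero _).2 hu0) (by
        rw [← map_pow, ne_eq, ← map_one (algebraMap k K), (algebraMap k K).injective.eq_iff, sq]; exact hu))
    have : commutator SL(2, K) ≤ (Subgroup.closure T).comap (MonoidHom.inl _ _) := by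
      rw [commutator, Subgroup.commutator_le]
      intro x _ y _
      obtain ⟨x, hx, rfl⟩ : x ∈ (Subgroup.closure T).map (MonoidHom.fst _ _) := h1 ▸ Subgroup.mem_top x
      obtain ⟨y, hy, rfl⟩ : y ∈ (Subgroup.closure T).map (MonoidHom.fst _ _) := h1 ▸ Subgroup.mem_top y
      have := mul_mem (mul_mem (mul_mem hx hy) (inv_mem hx)) (inv_mem hy)
      rw [Subgroup.mem_comap]
      convert this using 1
      exact Prod.ext rfl (by simp [commutatorElement_def, mul_comm, mul_left_comm])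
    exact fun g => this (hp ▸ Subgroup.mem_top g)
  obtain ⟨g, e1, e2⟩ : ∃ g : SL(2, K), g 0 0 = a₁ ∧ g 1 0 = lam * c₁ := by
    rcases hne with h | h
    · exact ⟨H09.sl2 a₁ 0 (lam * c₁) a₁⁻¹ (by field_simp; ring), rfl, rfl⟩
    · exact ⟨H09.sl2 a₁ (-(lam * c₁)⁻¹) (lam * c₁) 0 (by field_simp; ring), rfl, rfl⟩
  have h3 := mul_mem (h2 (g * (H17.lo (algebraMap k K t * lam))⁻¹)) (Subgroup.subset_closure (k := T) ⟨t, Or.inr rfl⟩)
  obtain ⟨a, c, i1, i2, i3, i4⟩ := key _ h3
  simp only [Prod.mk_mul_mk, inv_mul_cancel_right, one_mul, toAdd_ofAdd] at i2 i3 i4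
  exact ⟨a, c, i1, i2.trans e1, mul_left_cancel₀ h0 (i3.trans e2), i4⟩

end Q

end H12
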