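import Mathlib
import Cfsg.Agent.H12.Quad1

/-!
Quadratic pairs II: `Q.dichotomy` (for α minimal, β in L and z = αβ + βα : zα = 0 or z is injective on αM),
`Q.structure_thm` (in the second case k[z] acts on αM as a field and all r(z)α, r(z)zβ lie in L).
-/

set_option autoImplicit false

namespace H12

open Cfsg Polynomial

namespace Q

variable {k : Type*} [Field k] {M : Type*} [AddCommGroup M] [Module k M]
variable {G : Subgroup (GLM k M)} {α β : Module.End k M}

theorem eq_zero_of_coprime {z : Module.End k M} {p q : k[X]} (h : IsCoprime p q) {w : M} (h1 : aeval z p w = 0)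
    (h2 : aeval z q w = 0) : w = 0 := by
  obtain ⟨u, v, huv⟩ := h
  have := congrArg (fun r => aeval z r w) huv
  simpa [h1, h2] using this.symm

theorem aeval_of_dvd {z : Module.End k M} {p q : k[X]} (h : p ∣ q) {w : M} (h1 : aeval z p w = 0) : aeval z q w = 0 := by
  obtain ⟨r, rfl⟩ := h
  rw [mul_comm, map_mul, Module.End.mul_apply, h1, map_zero]

theorem span_sq (hk2 : ringChar k ≠ 2) {K : Type*} [Field K] [Algebra k K] (lam : K) (S : Submodule k k[X])
    (h : ∀ x : K, x ≠ 0 → ∃ c, aeval lam c = x ∧ c * c ∈ S) (x : K) : ∃ r ∈ S, aeval lam r = x := by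
  have h' : ∀ x : K, ∃ r ∈ S, aeval lam r = x * x := by
    intro x
    by_cases hx : x = 0
    · exact ⟨0, zero_mem _, by simp [hx]⟩
    · obtain ⟨c, rfl, h2⟩ := h x hx
      exact ⟨_, h2, map_mul _ _ _⟩
  obtain ⟨r, h1, e1⟩ := h' (x + 1)
  obtain ⟨s, h2, e2⟩ := h' (x - 1)
  have h2' : (2 : k) ≠ 0 := Ring.two_ne_zero hk2
  have h4 : (4 : k) ≠ 0 := by rw [show (4 : k) = 2 * 2 by norm_num]; exact mul_ne_zero h2' h2'
  refine ⟨(4⁻¹ : k) • (r - s), S.smul_mem _ (sub_mem h1 h2), ?_⟩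
  rw [map_smul, map_sub, e1, e2, inv_smul_eq_iff₀ h4, Algebra.smul_def, map_ofNat]; ring

theorem root_facts {g : k[X]} [Fact (Irreducible g)] (h0 : g.eval 0 ≠ 0) :
    IsAlgebraic k (AdjoinRoot.root g) ∧ AdjoinRoot.root g ≠ 0 ∧ Algebra.adjoin k {AdjoinRoot.root g} = ⊤ ∧
      ∀ p : k[X], aeval (AdjoinRoot.root g) p = 0 ↔ g ∣ p := by
  have h : ∀ p : k[X], aeval (AdjoinRoot.root g) p = 0 ↔ g ∣ p := fun p => by
    rw [AdjoinRoot.aeval_eq, AdjoinRoot.mk_eq_zero]
  have hi : Irreducible g := Fact.out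
  refine ⟨⟨g, hi.ne_zero, (h g).2 dvd_rfl⟩, fun e => h0 ?_, AdjoinRoot.adjoinRoot_eq_top, h⟩
  have := (h X).1 (by simpa using e)
  rw [hi.dvd_irreducible_iff_associated irreducible_X] at this
  rw [← coeff_zero_eq_eval_zero, ← X_dvd_iff]
  exact this.symm.dvd

variable [FiniteDimensional k M]

theorem key_c (hk2 : ringChar k ≠ 2) (hα : MinEl G α) (hβ : InL G β) {a c g : k[X]} (h : Orb G α β a c) (hc : g ∣ c)
    {v : M} (hv : α v ≠ 0) (hg : aeval (α * β + β * α) g (α v) = 0)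
    (ih : InL G (gm hα.inL.1 hβ.1 a c) → aeval (α * β + β * α) (-(c * c * X * X)) * α = 0 ∨
      ∀ v, aeval (α * β + β * α) (-(c * c * X * X)) (α v) = 0 → α v = 0) :
    aeval (α * β + β * α) (c * X) * α = 0 := by
  obtain ⟨h', hh, e, -⟩ := coord_conj hα.inL.1 hβ.1 h.1
  rcases ih (e ▸ hα.inL.conj hh) with h1 | h1
  · rw [map_neg, neg_mul, neg_eq_zero] at h1
    exact key_delta (Ring.two_ne_zero hk2) hα hβ.1 h h1 hv (aeval_of_dvd (hc.mul_right _) hg)
  · exact absurd (h1 v (aeval_of_dvd (by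
      rw [dvd_neg, mul_assoc, mul_assoc]; exact hc.mul_right _) hg)) hv

theorem dichotomy_aux (hk2 : ringChar k ≠ 2) (hk3 : Nat.card k ≠ 3) (hα : MinEl G α) (n : ℕ) :
    ∀ {β : Module.End k M}, InL G β → (∃ N, rk ((α * β + β * α) ^ N * α) ≤ n) →
      (α * β + β * α) * α = 0 ∨ ∀ v, (α * β + β * α) (α v) = 0 → α v = 0 := by
  induction n using Nat.strong_induction_on with | _ n ih =>
  rintro β hβ ⟨N, hN⟩
  by_cases hnil : ∃ m, (α * β + β * α) ^ m * α = 0
  · obtain ⟨m, hm⟩ := hnil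
    exact Or.inl (nilp_case (Ring.two_ne_zero hk2) m hα hβ hm)
  push Not at hnil
  right
  obtain ⟨g, hg, hg0, v, hv, hgv⟩ := exists_irred' (z_comm (β := β) hα.inL.1) hnil
  haveI : Fact (Irreducible g) := ⟨hg⟩
  obtain ⟨l1, l2, l3, l4⟩ := root_facts hg0
  have hcop : IsCoprime g X := by
    rw [hg.coprime_iff_not_dvd, ← l4]; simpa using l2
  have key : ∀ a c, Orb G α β a c → g ∣ c → aeval (α * β + β * α) (c * X) * α = 0 := by
    intro a c h hc
    refine key_c hk2 hα hβ h hc hv hgv (fun hL => ?_)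
    have := ih (rk ((α * gm hα.inL.1 hβ.1 a c + gm hα.inL.1 hβ.1 a c * α) ^ (N + 1) * α)) ?_ hL ⟨N + 1, le_rfl⟩
    · rwa [gm_z] at this
    refine lt_of_lt_of_le ?_ hN
    rw [gm_z, ← map_pow, show (-(c * c * X * X) : k[X]) ^ (N + 1) = ((-(c * c * X)) ^ (N + 1) * X) * X ^ N by
      rw [← neg_mul, mul_pow]; ring, map_mul, mul_assoc _ _ α, map_pow _ X, aeval_X]
    have e : ((α * β + β * α) ^ N * α) v = aeval (α * β + β * α) (X ^ N : k[X]) (α v) := by simp
    refine rk_mul_lt (v := v) (fun e' => hv (eq_zero_of_coprime (hcop.pow_right (n := N)) hgv (e ▸ e'))) ?_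
    rw [e, ← Module.End.mul_apply, ← map_mul]
    refine aeval_of_dvd (Dvd.dvd.mul_right (Dvd.dvd.mul_right (dvd_pow ?_ (by omega)) _) _) hgv
    rw [dvd_neg, mul_assoc]; exact hc.mul_right _
  obtain ⟨u, hu0, hu⟩ := exists_sq_ne_one hk2 hk3
  obtain ⟨a₁, c₁, o1, -, e1, e1'⟩ := orb_surj hk2 hk3 hα.inL hβ l1 l2 l3 1 0 (Or.inl one_ne_zero) 1
  obtain ⟨a, c, o2, e2, e3, e3'⟩ := orb_surj hk2 hk3 hα.inL hβ l1 l2 l3 (algebraMap k _ u) 0
    (Or.inl ((_root_.map_ne_zero _).2 hu0)) 0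
  have k1 := key _ _ o1 ((l4 _).1 e1)
  have k2 := key _ _ o2 ((l4 _).1 e3)
  obtain ⟨c', hc'⟩ : X ∣ c₁ - 1 := by rw [X_dvd_iff, coeff_zero_eq_eval_zero]; simp [e1']
  obtain ⟨c₀, hc₀⟩ : X ∣ c := by rw [X_dvd_iff, coeff_zero_eq_eval_zero]; exact e3'
  have k3 : aeval (α * β + β * α) c * α = 0 := by
    have : c = c₀ * (c₁ * X) - c' * (c * X) := by
      rw [hc₀]; linear_combination (-(c₀ * X)) * hc'
    rw [this, map_sub, sub_mul, map_mul, map_mul _ c', mul_assoc _ _ α, mul_assoc _ _ α, k1, k2]; simp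
  obtain ⟨h, hh, e, -⟩ := coord_conj hα.inL.1 hβ.1 o2.1
  rw [gm_of_left _ _ _ _ k3] at e
  have hL : InL G (aeval (α * β + β * α) (a * a - 1) * α) := by
    rw [map_sub, sub_mul, map_one, one_mul]
    refine InL.sub (e ▸ hα.inL.conj hh) hα.inL (by rw [mul_assoc, hα.inL.1, mul_zero]) ?_
    rw [← mul_assoc, ← commute_aeval (z_comm hα.inL.1), mul_assoc, hα.inL.1, mul_zero]
  intro w hw
  by_contra hne
  have h0 := hα.eq_zero hL hne (aeval_of_dvd (p := X) (by
    rw [X_dvd_iff, coeff_zero_eq_eval_zero]; simp [o2.2.2.2]) (by simpa using hw))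
  refine hv (eq_zero_of_coprime (q := a * a - 1) ?_ hgv (LinearMap.congr_fun h0 v))
  rw [hg.coprime_iff_not_dvd, ← l4, map_sub, map_mul, e2, map_one, ← map_mul, sub_eq_zero, ← map_one (algebraMap k _),
    (algebraMap k _).injective.eq_iff]
  exact hu

theorem dichotomy (hk2 : ringChar k ≠ 2) (hk3 : Nat.card k ≠ 3) (hα : MinEl G α) (hβ : InL G β) :
    (α * β + β * α) * α = 0 ∨ ∀ v, (α * β + β * α) (α v) = 0 → α v = 0 :=
  dichotomy_aux hk2 hk3 hα _ hβ ⟨0, le_rfl⟩

omit [FiniteDimensional k M] in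
theorem poly_sq {z γ : Module.End k M} (hγ : γ * γ = 0) (hz : z * γ = γ * z) (p q : k[X]) :
    (aeval z p * γ) * (aeval z q * γ) = 0 := by
  rw [mul_assoc, ← mul_assoc γ, ← commute_aeval hz, mul_assoc, hγ]; simp

/-- the polynomials `r` with `r(z)γ ∈ L` -/
def polyL (G : Subgroup (GLM k M)) {z γ : Module.End k M} (hγ : γ * γ = 0) (hz : z * γ = γ * z) : Submodule k k[X] where
  carrier := {r | InL G (aeval z r * γ)}
  add_mem' := fun {a b} ha hb => by
    simpa [add_mul] using InL.add ha hb (poly_sq hγ hz _ _) (poly_sq hγ hz _ _)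
  zero_mem' := by simpa using InL.zero
  smul_mem' := fun c r hr => by simpa using InL.smul hr c

theorem structure_thm (hk2 : ringChar k ≠ 2) (hk3 : Nat.card k ≠ 3) (hα : MinEl G α) (hβ : InL G β)
    (hinj : ∀ v, (α * β + β * α) (α v) = 0 → α v = 0) :
    ∃ g : k[X], Irreducible g ∧ g.eval 0 ≠ 0 ∧ aeval (α * β + β * α) g * α = 0 ∧
      (∀ r : k[X], InL G (aeval (α * β + β * α) r * α)) ∧
      ∀ r : k[X], InL G (aeval (α * β + β * α) r * ((α * β + β * α) * β)) := by
  have hc := z_comm (β := β) hα.inL.1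
  have hc' := z_comm' (α := α) hβ.1
  have hinj' : ∀ r : k[X], aeval (α * β + β * α) (r * X) * α = 0 → aeval (α * β + β * α) r * α = 0 := by
    intro r hr
    rw [commute_aeval hc]
    ext v
    refine hinj _ ?_
    rw [← Module.End.mul_apply α, ← commute_aeval hc, ← Module.End.mul_apply, ← mul_assoc, ← commute_aeval rfl]
    simpa using LinearMap.congr_fun hr v
  have hnil : ∀ m, (α * β + β * α) ^ m * α ≠ 0 := by
    intro m
    induction m with
    | zero => simpa using hα.ne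
    | succ m ih => exact fun e => ih (by simpa using hinj' (X ^ m) (by simpa [pow_succ] using e))
  obtain ⟨g, hg, hg0, v, hv, hgv⟩ := exists_irred' hc hnil
  haveI : Fact (Irreducible g) := ⟨hg⟩
  obtain ⟨l1, l2, l3, l4⟩ := root_facts hg0
  have key : ∀ a c, Orb G α β a c → g ∣ c → aeval (α * β + β * α) c * α = 0 := by
    intro a c h hc
    refine hinj' _ (key_c hk2 hα hβ h hc hv hgv (fun hL => ?_))
    have := dichotomy hk2 hk3 hα hL
    rwa [gm_z] at this
  let S := polyL G hα.inL.1 hc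
  have hS : ∀ r ∈ S, g ∣ r → aeval (α * β + β * α) r * α = 0 := fun r hr h => hα.eq_zero hr hv (aeval_of_dvd h hgv)
  let T : Subalgebra k k[X] :=
    { carrier := {t | ∀ r ∈ S, t * r ∈ S}
      mul_mem' := fun ha hb r hr => by rw [mul_assoc]; exact ha _ (hb r hr)
      add_mem' := fun ha hb r hr => by rw [add_mul]; exact add_mem (ha r hr) (hb r hr)
      algebraMap_mem' := fun c r hr => by rw [← Algebra.smul_def]; exact S.smul_mem c hr }
  have hTS : ∀ t ∈ T, t ∈ S := fun t ht => by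
    simpa using ht 1 (show InL G (aeval (α * β + β * α) (1 : k[X]) * α) by simpa using hα.inL)
  have hT := span_sq hk2 (AdjoinRoot.root g) (Subalgebra.toSubmodule T) (fun x hx => by
    obtain ⟨a, c, o, e1, e2, -⟩ := orb_surj hk2 hk3 hα.inL hβ l1 l2 l3 x 0 (Or.inl hx) 0
    refine ⟨a, e1, fun r hr => ?_⟩
    obtain ⟨h, hh, e, e'⟩ := coord_conj hα.inL.1 hβ.1 o.1
    rw [gm_of_left _ _ _ _ (key _ _ o ((l4 _).1 e2))] at e
    have := InL.conj hr hh
    rw [← mul_assoc, ← commute_aeval e', mul_assoc, mul_assoc, ← mul_assoc _ α, e, ← mul_assoc, ← map_mul,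
      mul_comm r] at this
    exact this)
  have two : (2 : AdjoinRoot g) ≠ 0 := by
    rw [← map_ofNat (algebraMap k _), _root_.map_ne_zero]; exact Ring.two_ne_zero hk2
  have hgα : aeval (α * β + β * α) g * α = 0 := by
    let I : Ideal k[X] :=
      { carrier := {r | aeval (α * β + β * α) r * α = 0}
        add_mem' := fun {a b} ha hb => by simp only [Set.mem_setOf_eq, map_add, add_mul] at *; rw [ha, hb, add_zero]
        zero_mem' := by simp
        smul_mem' := fun c r hr => by simp only [Set.mem_setOf_eq, smul_eq_mul, map_mul, mul_assoc] at *; rw [hr, mul_zero] }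
    obtain ⟨s, hs, es⟩ := hT (-2 / AdjoinRoot.root g)
    obtain ⟨s', hs', es'⟩ := hT (AdjoinRoot.root g)
    have o := orb_y hα.inL.1 hβ (orb_x hα.inL.1 hβ.1 (orb_y hα.inL.1 hβ orb_one 1) (hTS s hs)) 1
    have i1 : 2 + s * X ∈ I := by
      rw [show 0 + C 1 * 1 + C 1 * (1 + s * X * (0 + C 1 * 1)) = 2 + s * X by rw [map_one]; ring] at o
      exact key _ _ o ((l4 _).1 (by simp only [map_add, map_mul, es, map_ofNat, aeval_X]; field_simp; ring))
    have i2 : s * s' + 2 ∈ I := hS _ (hTS _ (add_mem (mul_mem hs hs') (by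
      rw [← one_add_one_eq_two]; exact add_mem (one_mem _) (one_mem _)))) ((l4 _).1 (by
        simp only [map_add, map_mul, es, es', map_ofNat]; field_simp; ring))
    have i3 : X - s' ∈ I := by
      have e2 : C (2⁻¹ : k) * 2 = (1 : k[X]) := by
        rw [show (2 : k[X]) = C 2 from rfl, ← map_mul, inv_mul_cancel₀ (Ring.two_ne_zero hk2), map_one]
      have : X - s' = (C 2⁻¹ * X) * (s * s' + 2) - (C 2⁻¹ * s') * (2 + s * X) := by
        linear_combination (s' - X) * e2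
      rw [this]; exact sub_mem (I.mul_mem_left _ i2) (I.mul_mem_left _ i1)
    have i4 : aeval s' g ∈ I := by
      refine hS _ (hTS _ ?_) ((l4 _).1 ?_)
      · exact Algebra.adjoin_le (S := T) (Set.singleton_subset_iff.2 hs') (aeval_mem_adjoin_singleton k s')
      · rw [← aeval_algHom_apply, es', l4]
    have i5 : g - aeval s' g ∈ I := by
      have := sub_dvd_eval_sub X s' (g.map (algebraMap k k[X]))
      rw [eval_map_algebraMap, eval_map_algebraMap, aeval_X_left_apply] at this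
      exact I.mem_of_dvd this i3
    have := add_mem i5 i4
    rwa [sub_add_cancel] at this
  have hall : ∀ {γ : Module.End k M} (hγ : γ * γ = 0) (hz : (α * β + β * α) * γ = γ * (α * β + β * α)),
      aeval (α * β + β * α) g * γ = 0 → (∀ x, ∃ r ∈ polyL G hγ hz, aeval (AdjoinRoot.root g) r = x) →
      ∀ r : k[X], InL G (aeval (α * β + β * α) r * γ) := by
    intro γ hγ hz h0 h r
    obtain ⟨t, ht, e⟩ := h (aeval (AdjoinRoot.root g) r)
    obtain ⟨q, hq⟩ := (l4 (r - t)).1 (by rw [map_sub, e, sub_self])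
    have : r = t + q * g := by linear_combination hq
    rw [this, map_add, add_mul, map_mul, mul_assoc _ _ γ, h0, mul_zero, add_zero]
    exact ht
  refine ⟨g, hg, hg0, hgα, hall hα.inL.1 hc hgα (fun x => (hT x).imp fun r hr => ⟨hTS r hr.1, hr.2⟩), ?_⟩
  have zb : (α * β + β * α) * β = β * α * β := by rw [add_mul, mul_assoc α, hβ.1]; simp
  refine hall (by rw [mul_assoc, ← mul_assoc β, ← hc', mul_assoc, hβ.1]; simp) (by rw [mul_assoc, hc']) ?_
    (span_sq hk2 _ _ fun x hx => ?_)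
  · rw [zb, ← mul_assoc, ← mul_assoc, commute_aeval hc', mul_assoc β, hgα]; simp
  · obtain ⟨a, c, o, e1, e2, -⟩ := orb_surj hk2 hk3 hα.inL hβ l1 l2 l3 0 x (Or.inr hx) 0
    refine ⟨c, e2, ?_⟩
    obtain ⟨h, hh, e, -⟩ := coord_conj hα.inL.1 hβ.1 o.1
    obtain ⟨q, rfl⟩ := (l4 _).1 e1
    rw [gm_of_right _ _ _ _ (by rw [mul_comm, map_mul, mul_assoc _ _ α, hgα, mul_zero])] at e
    have := (e ▸ hα.inL.conj hh : InL G _).neg
    rw [map_neg, neg_mul, neg_neg, map_mul, aeval_X, mul_assoc] at this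
    exact this

end Q

end H12
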