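import Mathlib
import Cfsg.Agent.H12.Quad2
import Cfsg.Agent.H12.SL2Pres
import Cfsg.Agent.H12.Special

/-!
Quadratic pairs III: the spaces `Q.InE G α` and the groups `Q.Esub G α = E(1 + α)`, opposite pairs (αβα ≠ 0), their
normalisation (`Q.exists_norm`), the homomorphism `Q.Fhom` from 2 × 2 matrices, special rank one pairs (`Q.special_of_opp`).
-/

set_option autoImplicit false

namespace H12

open Cfsg Polynomial

namespace Q

section abstract
variable {R A : Type*} [CommRing R] [Ring A] [Algebra R A] {α β : A}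

/-- the monoid homomorphism given by a normalised pair -/
def Fhom (R : Type*) [CommRing R] [Algebra R A] (hα : α * α = 0) (hβ : β * β = 0) (h1 : α * β * α = α) (h2 : β * α * β = β) :
    Matrix (Fin 2) (Fin 2) R →* A where
  toFun m := 1 - α * β - β * α + m 0 0 • (α * β) + m 0 1 • α + m 1 0 • β + m 1 1 • (β * α)
  map_one' := by simp; abel
  map_mul' m n := by
    have r1 : ∀ x, α * (α * x) = 0 := fun x => by rw [← mul_assoc, hα, zero_mul]
    have r2 : ∀ x, β * (β * x) = 0 := fun x => by rw [← mul_assoc, hβ, zero_mul]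
    have r3 : ∀ x, α * (β * (α * x)) = α * x := fun x => by rw [← mul_assoc, ← mul_assoc, h1]
    have r4 : ∀ x, β * (α * (β * x)) = β * x := fun x => by rw [← mul_assoc, ← mul_assoc, h2]
    rw [mul_assoc] at h1 h2
    simp only [Matrix.mul_apply, Fin.sum_univ_two, mul_add, add_mul, mul_sub, sub_mul, smul_mul_assoc, mul_smul_comm,
      mul_assoc, r1, r2, r3, r4, hα, hβ, h1, h2, one_mul, mul_one, mul_zero, zero_mul, smul_zero]
    module

theorem Fhom_apply (hα : α * α = 0) (hβ : β * β = 0) (h1 : α * β * α = α) (h2 : β * α * β = β)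
    (m : Matrix (Fin 2) (Fin 2) R) : Fhom R hα hβ h1 h2 m =
      1 - α * β - β * α + m 0 0 • (α * β) + m 0 1 • α + m 1 0 • β + m 1 1 • (β * α) := rfl

theorem Fhom_eq_iff (hα : α * α = 0) (hβ : β * β = 0) (h1 : α * β * α = α) (h2 : β * α * β = β)
    (m n : Matrix (Fin 2) (Fin 2) R) : Fhom R hα hβ h1 h2 m = Fhom R hα hβ h1 h2 n ↔ ∀ i j, m i j • α = n i j • α := by
  have r1 : ∀ x, α * (α * x) = 0 := fun x => by rw [← mul_assoc, hα, zero_mul]
  have r2 : ∀ x, β * (β * x) = 0 := fun x => by rw [← mul_assoc, hβ, zero_mul]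
  have r3 : ∀ x, α * (β * (α * x)) = α * x := fun x => by rw [← mul_assoc, ← mul_assoc, h1]
  have r4 : ∀ x, β * (α * (β * x)) = β * x := fun x => by rw [← mul_assoc, ← mul_assoc, h2]
  constructor
  · intro h
    have a := congrArg (fun x => α * β * x * α) h
    have b := congrArg (fun x => α * β * x * (β * α)) h
    have c := congrArg (fun x => α * x * α) h
    have d := congrArg (fun x => α * x * (β * α)) h
    rw [mul_assoc] at h1 h2
    simp only [Fhom_apply, mul_add, add_mul, mul_sub, sub_mul, smul_mul_assoc, mul_smul_comm,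
      mul_assoc, r1, r2, r3, r4, hα, hβ, h1, h2, one_mul, mul_one, mul_zero, zero_mul, smul_zero, sub_self, sub_zero,
      zero_add, add_zero] at a b c d
    simp only [Fin.forall_fin_two]
    exact ⟨⟨a, b⟩, c, d⟩
  · intro h
    have h' : ∀ i j, m i j • β = n i j • β := fun i j => by
      have := congrArg (fun x => β * x * β) (h i j)
      simpa only [mul_smul_comm, smul_mul_assoc, h2] using this
    simp only [Fhom_apply, ← smul_mul_assoc, h, h']

end abstract

variable {k : Type*} [Field k] {M : Type*} [AddCommGroup M] [Module k M]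
variable {G : Subgroup (GLM k M)} {α β γ : Module.End k M}

/-- the unit `1 + γ` -/
def un (γ : Module.End k M) (h : γ * γ = 0) : GLM k M :=
  ⟨1 + γ, 1 - γ, by rw [add_mul, mul_sub, mul_sub, h]; simp, by rw [sub_mul, mul_add, mul_add, h]; simp⟩

@[simp] theorem un_val (h : γ * γ = 0) : (un γ h : Module.End k M) = 1 + γ := rfl
@[simp] theorem un_inv (h : γ * γ = 0) : (((un γ h)⁻¹ : GLM k M) : Module.End k M) = 1 - γ := rfl

theorem un_sub (h : γ * γ = 0) : (un γ h : Module.End k M) - 1 = γ := by simp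

theorem val_eq (g : GLM k M) : (g : Module.End k M) = 1 + ((g : Module.End k M) - 1) := by simp

theorem sub_ne_zero_iff {g : GLM k M} : (g : Module.End k M) - 1 ≠ 0 ↔ g ≠ 1 := by
  rw [ne_eq, sub_eq_zero, Units.val_eq_one]

theorem InL.mem {g : GLM k M} (h : InL G γ) (e : (g : Module.End k M) = 1 + γ) : g ∈ G := by
  obtain ⟨g', hg', e'⟩ := h.2 1
  rw [one_smul, ← e, Units.val_inj] at e'
  exact e' ▸ hg'

theorem InL.un_mem (h : InL G γ) : un γ h.1 ∈ G := h.mem rfl

theorem InL.mono {H : Subgroup (GLM k M)} (h : InL G γ) (hle : G ≤ H) : InL H γ :=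
  ⟨h.1, fun c => (h.2 c).imp fun _ hg => ⟨hle hg.1, hg.2⟩⟩

theorem mem_quad_iff {σ : GLM k M} : σ ∈ quadraticElements G ↔ InL G ((σ : Module.End k M) - 1) ∧ σ ≠ 1 := by
  constructor
  · rintro ⟨-, ⟨h1, h2⟩, h3⟩
    refine ⟨⟨h1, fun c => ⟨un (c • ((σ : Module.End k M) - 1)) ?_, h3 ⟨c, rfl⟩, rfl⟩⟩, sub_ne_zero_iff.1 h2⟩
    rw [smul_mul_smul_comm, h1, smul_zero]
  · rintro ⟨h1, h2⟩
    refine ⟨h1.mem (val_eq σ), ⟨h1.1, sub_ne_zero_iff.2 h2⟩, ?_⟩
    rintro τ ⟨c, hc⟩
    exact (h1.smul c).mem hc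

theorem un_mem_quad (h : InL G γ) (h0 : γ ≠ 0) : un γ h.1 ∈ quadraticElements G :=
  mem_quad_iff.2 ⟨by rwa [un_sub], sub_ne_zero_iff.1 (by rwa [un_sub])⟩

theorem mem_min_iff {σ : GLM k M} : σ ∈ minimalQuadraticElements G ↔ MinEl G ((σ : Module.End k M) - 1) := by
  constructor
  · rintro ⟨h1, h2⟩
    rw [mem_quad_iff] at h1
    refine ⟨h1.1, sub_ne_zero_iff.2 h1.2, fun β hβ h0 => ?_⟩
    have := h2 _ (un_mem_quad hβ h0)
    rwa [commutatorRank, commutatorRank, un_sub] at this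
  · intro h
    refine ⟨mem_quad_iff.2 ⟨h.inL, sub_ne_zero_iff.1 h.ne⟩, fun τ hτ => ?_⟩
    rw [mem_quad_iff] at hτ
    exact h.min _ hτ.1 (sub_ne_zero_iff.2 hτ.2)

/-- `γ ∈ L` acts like `α` -/
structure InE (G : Subgroup (GLM k M)) (α γ : Module.End k M) : Prop where
  inL : InL G γ
  rng : LinearMap.range γ ≤ LinearMap.range α
  ker : LinearMap.ker α ≤ LinearMap.ker γ

theorem InE.left (h : InE G α γ) {φ : Module.End k M} (e : φ * α = 0) : φ * γ = 0 := by
  ext v
  obtain ⟨w, hw⟩ := h.rng ⟨v, rfl⟩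
  rw [Module.End.mul_apply, ← hw]; exact LinearMap.congr_fun e w

theorem InE.right (h : InE G α γ) {φ : Module.End k M} (e : α * φ = 0) : γ * φ = 0 := by
  ext v
  exact h.ker (LinearMap.congr_fun e v)

theorem InE.refl (h : InL G α) : InE G α α := ⟨h, le_rfl, le_rfl⟩

theorem InE.trans (h : InE G α β) (h' : InE G β γ) : InE G α γ := ⟨h'.inL, h'.rng.trans h.rng, h.ker.trans h'.ker⟩

theorem InE.zero : InE G α 0 := ⟨InL.zero, by simp, by simp⟩

theorem InE.mul (hα : α * α = 0) (h : InE G α β) (h' : InE G α γ) : β * γ = 0 := h.right (h'.left hα)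

theorem InE.add (hα : α * α = 0) (h : InE G α β) (h' : InE G α γ) : InE G α (β + γ) := by
  refine ⟨h.inL.add h'.inL (h.mul hα h') (h'.mul hα h), ?_, fun v hv => ?_⟩
  · rintro _ ⟨v, rfl⟩
    exact add_mem (h.rng ⟨v, rfl⟩) (h'.rng ⟨v, rfl⟩)
  · rw [LinearMap.mem_ker, LinearMap.add_apply, h.ker hv, h'.ker hv, add_zero]

theorem InE.smul (h : InE G α β) (c : k) : InE G α (c • β) := by
  refine ⟨h.inL.smul c, ?_, fun v hv => ?_⟩
  · rintro _ ⟨v, rfl⟩
    exact Submodule.smul_mem _ c (h.rng ⟨v, rfl⟩)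
  · rw [LinearMap.mem_ker, LinearMap.smul_apply, h.ker hv, smul_zero]

theorem InE.neg (h : InE G α β) : InE G α (-β) := by simpa using h.smul (-1)

theorem InE.sub (hα : α * α = 0) (h : InE G α β) (h' : InE G α γ) : InE G α (β - γ) := by
  simpa [sub_eq_add_neg] using h.add hα h'.neg

theorem InE.of_mul (h : InL G γ) {φ ψ : Module.End k M} (e1 : γ = α * φ) (e2 : γ = ψ * α) : InE G α γ := by
  refine ⟨h, ?_, fun v hv => ?_⟩
  · rw [e1]; exact LinearMap.range_comp_le_range _ _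
  · rw [LinearMap.mem_ker, e2, Module.End.mul_apply, hv, map_zero]

theorem InE.conj (h : InE G α β) {g : GLM k M} (hg : g ∈ G) :
    InE G ((g : Module.End k M) * α * (g⁻¹ : GLM k M)) ((g : Module.End k M) * β * (g⁻¹ : GLM k M)) := by
  refine ⟨h.inL.conj hg, ?_, fun v hv => ?_⟩
  · rintro _ ⟨v, rfl⟩
    obtain ⟨w, hw⟩ := h.rng ⟨(g⁻¹ : GLM k M).1 v, rfl⟩
    refine ⟨g.1 w, ?_⟩
    rw [← Module.End.mul_apply, Units.inv_mul_cancel_right]
    simp [hw]
  · have : α ((g⁻¹ : GLM k M).1 v) = 0 := by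
      have := congrArg (g⁻¹ : GLM k M).1 hv
      rwa [← Module.End.mul_apply, mul_assoc, Units.inv_mul_cancel_left, map_zero] at this
    simp [LinearMap.mem_ker.1 (h.ker this)]

/-- the group `E(1 + α)` -/
def Esub (G : Subgroup (GLM k M)) (α : Module.End k M) : Subgroup (GLM k M) :=
  Subgroup.closure {g | InE G α ((g : Module.End k M) - 1)}

theorem mem_Esub (hα : α * α = 0) {g : GLM k M} : g ∈ Esub G α ↔ InE G α ((g : Module.End k M) - 1) := by
  refine ⟨fun h => ?_, fun h => Subgroup.subset_closure h⟩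
  induction h using Subgroup.closure_induction with
  | mem x hx => exact hx
  | one => simpa using InE.zero
  | mul x y _ _ hx hy =>
    have : ((x * y : GLM k M) : Module.End k M) - 1 = (x.1 - 1) + (y.1 - 1) := by
      rw [Units.val_mul, ← sub_eq_zero, ← hx.mul hα hy]; noncomm_ring
    exact this ▸ hx.add hα hy
  | inv x _ hx =>
    rw [inv_eq hx.inL.1 (val_eq x)]
    simpa using hx.neg

theorem un_mem_Esub (hα : α * α = 0) (h : InE G α γ) : un γ h.inL.1 ∈ Esub G α := (mem_Esub hα).2 (by rwa [un_sub])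

theorem Esub_le : Esub G α ≤ G := (Subgroup.closure_le _).2 fun g hg => hg.inL.mem (val_eq g)

theorem Esub_comm (hα : α * α = 0) : ∀ a ∈ Esub G α, ∀ b ∈ Esub G α, a * b = b * a := by
  intro a ha b hb
  rw [mem_Esub hα] at ha hb
  ext1
  rw [Units.val_mul, Units.val_mul, ← sub_eq_zero]
  have : a.1 * b.1 - b.1 * a.1 = (a.1 - 1) * (b.1 - 1) - (b.1 - 1) * (a.1 - 1) := by noncomm_ring
  rw [this, ha.mul hα hb, hb.mul hα ha, sub_zero]

theorem conj_sub (g x : GLM k M) : ((g * x * g⁻¹ : GLM k M) : Module.End k M) - 1 =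
    (g : Module.End k M) * (x.1 - 1) * (g⁻¹ : GLM k M) := by
  simp [mul_sub, sub_mul]

theorem Esub_conj (hα : α * α = 0) {g : GLM k M} (hg : g ∈ G) :
    conjBy (Esub G α) g = Esub G ((g : Module.End k M) * α * (g⁻¹ : GLM k M)) := by
  have sq : ∀ {g : GLM k M} {α : Module.End k M}, α * α = 0 →
      ((g : Module.End k M) * α * (g⁻¹ : GLM k M)) * ((g : Module.End k M) * α * (g⁻¹ : GLM k M)) = 0 := by
    intro g α h
    simp only [mul_assoc, Units.inv_mul_cancel_left]
    rw [← mul_assoc α, h]; simp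
  ext x
  rw [mem_conjBy, mem_Esub hα, mem_Esub (sq hα)]
  constructor
  · intro h
    have := h.conj hg
    rw [← conj_sub] at this
    simpa [mul_assoc] using this
  · intro h
    have := h.conj (inv_mem hg)
    rw [← conj_sub] at this
    simpa [mul_assoc] using this

variable [FiniteDimensional k M]

theorem InE.symm (hα : MinEl G α) (h : InE G α γ) (h0 : γ ≠ 0) : MinEl G γ ∧ InE G γ α := by
  have e1 := hα.min _ h.inL h0
  have e2 : LinearMap.range γ = LinearMap.range α := Submodule.eq_of_le_of_finrank_le h.rng e1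
  refine ⟨hα.of_le h.inL h0 (Submodule.finrank_mono h.rng), hα.inL, e2.ge, (Submodule.eq_of_le_of_finrank_le h.ker ?_).ge⟩
  have a := LinearMap.finrank_range_add_finrank_ker α
  have b := LinearMap.finrank_range_add_finrank_ker γ
  rw [e2] at b
  omega

theorem Esub_eq (hα : MinEl G α) (h : InE G α γ) (h0 : γ ≠ 0) : Esub G γ = Esub G α := by
  ext x
  rw [mem_Esub hα.inL.1, mem_Esub h.inL.1]
  exact ⟨h.trans, (h.symm hα h0).2.trans⟩

theorem Esub_eq_of_mem (hα : MinEl G α) (hβ : MinEl G β) {x : GLM k M} (h1 : x ∈ Esub G α) (h2 : x ∈ Esub G β)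
    (hx : x ≠ 1) : Esub G α = Esub G β := by
  rw [mem_Esub hα.inL.1] at h1
  rw [mem_Esub hβ.inL.1] at h2
  rw [← Esub_eq hα h1 (sub_ne_zero_iff.2 hx), Esub_eq hβ h2 (sub_ne_zero_iff.2 hx)]

theorem mem_class_iff {σ τ : GLM k M} (hσ : σ ∈ minimalQuadraticElements G) :
    τ ∈ sameActionClass G σ ↔ τ ∈ Esub G ((σ : Module.End k M) - 1) ∧ τ ≠ 1 := by
  rw [mem_min_iff] at hσ
  rw [mem_Esub hσ.inL.1]
  constructor
  · rintro ⟨h1, h2, h3⟩
    rw [mem_min_iff] at h1
    exact ⟨⟨h1.inL, h3.le, h2.ge⟩, sub_ne_zero_iff.1 h1.ne⟩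
  · rintro ⟨h1, h2⟩
    obtain ⟨h3, h4⟩ := h1.symm hσ (sub_ne_zero_iff.2 h2)
    exact ⟨mem_min_iff.2 h3, le_antisymm h4.ker h1.ker, le_antisymm h1.rng h4.rng⟩

theorem sameAction_eq {σ : GLM k M} (hσ : σ ∈ minimalQuadraticElements G) :
    sameActionSubgroup G σ = Esub G ((σ : Module.End k M) - 1) := by
  refine le_antisymm ((Subgroup.closure_le _).2 fun τ hτ => ((mem_class_iff hσ).1 hτ).1) fun τ hτ => ?_
  by_cases h : τ = 1
  · exact h ▸ one_mem _
  · exact Subgroup.subset_closure ((mem_class_iff hσ).2 ⟨hτ, h⟩)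

theorem mem_Sigma {A : Subgroup (GLM k M)} : A ∈ quadraticRootSubgroups G ↔ ∃ α, MinEl G α ∧ A = Esub G α := by
  constructor
  · rintro ⟨σ, hσ, rfl⟩
    exact ⟨_, mem_min_iff.1 hσ, sameAction_eq hσ⟩
  · rintro ⟨α, hα, rfl⟩
    have : un α hα.inL.1 ∈ minimalQuadraticElements G := mem_min_iff.2 (by rwa [un_sub])
    exact ⟨_, this, by rw [sameAction_eq this, un_sub]⟩

omit [FiniteDimensional k M] in
theorem z_mul_left (hα : α * α = 0) : (α * β + β * α) * α = α * β * α := by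
  rw [add_mul, mul_assoc β, hα]; simp

omit [FiniteDimensional k M] in
theorem z_mul_right (hβ : β * β = 0) : (α * β + β * α) * β = β * α * β := by
  rw [add_comm, z_mul_left hβ]

variable (hk2 : ringChar k ≠ 2) (hk3 : Nat.card k ≠ 3)
include hk2 hk3

theorem inj_of_opp (hα : MinEl G α) (hβ : InL G β) (h : α * β * α ≠ 0) : ∀ v, (α * β + β * α) (α v) = 0 → α v = 0 :=
  (dichotomy hk2 hk3 hα hβ).resolve_left (by rwa [z_mul_left hα.inL.1])

theorem case1_symm (hα : InL G α) (hβ : MinEl G β) (h : α * β * α = 0) : β * α * β = 0 := by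
  by_contra hne
  have hi := inj_of_opp hk2 hk3 hβ hα hne
  apply hne
  ext v
  have : (β * α + α * β) * (β * (α * β)) = 0 := by
    have : (β * α + α * β) * (β * (α * β)) = β * (α * β * α) * β + α * (β * β) * (α * β) := by noncomm_ring
    rw [this, h, hβ.inL.1]; simp
  simpa [mul_assoc] using hi ((α * β) v) (LinearMap.congr_fun this v)

theorem case1_indep (hα : MinEl G α) (hβ : MinEl G β) (h : α * β * α = 0) {α' β' : Module.End k M} (h1 : InE G α α')
    (h2 : InE G β β') : α * β' * α = 0 ∧ β * α' * β = 0 := by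
  have k1 : ∀ {α β : Module.End k M}, MinEl G α → MinEl G β → α * β * α = 0 → ∀ {β'}, InE G β β' → α * β' * α = 0 := by
    intro α β hα hβ h β' h2
    have := case1_symm hk2 hk3 hα.inL hβ h
    refine case1_symm hk2 hk3 h2.inL hα ?_
    exact h2.left (by rw [mul_assoc]; exact h2.right (by rwa [← mul_assoc]))
  exact ⟨k1 hα hβ h h2, k1 hβ hα (case1_symm hk2 hk3 hα.inL hβ h) h1⟩

theorem case1_triple (hα : MinEl G α) (hβ : MinEl G β) (h : α * β * α = 0) {α' α'' β' : Module.End k M} (h1 : InE G α α')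
    (h1' : InE G α α'') (h2 : InE G β β') : α' * β' * α'' = 0 :=
  h1'.left (by rw [mul_assoc]; exact h1.right (by rw [← mul_assoc]; exact (case1_indep hk2 hk3 hα hβ h h1 h2).1))

theorem opp_symm (hα : MinEl G α) (hβ : MinEl G β) (h : α * β * α ≠ 0) : β * α * β ≠ 0 :=
  fun e => h (case1_symm hk2 hk3 hβ.inL hα e)

theorem opp_indep (hα : MinEl G α) (hβ : MinEl G β) (h : α * β * α ≠ 0) {α' β' : Module.End k M} (h1 : InE G α α')
    (h2 : InE G β β') (h1' : α' ≠ 0) (h2' : β' ≠ 0) : α' * β' * α' ≠ 0 := by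
  intro e
  obtain ⟨a1, a2⟩ := h1.symm hα h1'
  obtain ⟨b1, b2⟩ := h2.symm hβ h2'
  exact h (case1_triple hk2 hk3 a1 b1 e a2 a2 b2)

/-- polynomial normalisation -/
theorem exists_inv_poly (hα : MinEl G α) (hβ : InL G β) (h : α * β * α ≠ 0) :
    ∃ g r : k[X], Irreducible g ∧ g.eval 0 ≠ 0 ∧ aeval (α * β + β * α) g * α = 0 ∧ g ∣ r * X - 1 ∧
      (∀ r : k[X], InL G (aeval (α * β + β * α) r * α)) ∧
      ∀ r : k[X], InL G (aeval (α * β + β * α) (r * X) * β) := by
  obtain ⟨g, h1, h2, h3, h4, h5⟩ := structure_thm hk2 hk3 hα hβ (inj_of_opp hk2 hk3 hα hβ h)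
  have hcop : IsCoprime g X := by
    rw [isCoprime_comm, irreducible_X.coprime_iff_not_dvd, X_dvd_iff, coeff_zero_eq_eval_zero]; exact h2
  obtain ⟨u, r, hur⟩ := hcop
  exact ⟨g, r, h1, h2, h3, ⟨-u, by linear_combination hur⟩, h4, fun r => by simpa [mul_assoc] using h5 r⟩

/-- normalisation of an opposite pair, and the splitting of `β` -/
theorem exists_norm (hα : MinEl G α) (hβ : InL G β) (h : α * β * α ≠ 0) :
    (∃ β', InE G β β' ∧ MinEl G β' ∧ α * β' * α = α ∧ β' * α * β' = β') ∧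
    ∃ β₁, MinEl G β₁ ∧ InL G (β - β₁) ∧ β₁ * (β - β₁) = 0 ∧ (β - β₁) * β₁ = 0 ∧ rk (β - β₁) < rk β := by
  obtain ⟨g, r, -, -, h3, ⟨q, hq⟩, -, h5⟩ := exists_inv_poly hk2 hk3 hα hβ h
  have hc := z_comm (β := β) hα.inL.1
  have hc' := z_comm' (α := α) hβ.1
  set z := α * β + β * α with hz
  have za : α * β * α = aeval z (X : k[X]) * α := by rw [aeval_X, z_mul_left hα.inL.1]
  have zb : β * α * β = aeval z (X : k[X]) * β := by rw [aeval_X, z_mul_right hβ.1]
  have ga : ∀ p : k[X], aeval z (p * g) * α = 0 := fun p => by rw [map_mul, mul_assoc _ _ α, h3, mul_zero]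
  have gb : ∀ p : k[X], aeval z (p * g * X) * β = 0 := fun p => by
    rw [map_mul, mul_assoc _ _ β, ← zb, ← mul_assoc, ← mul_assoc, commute_aeval hc', mul_assoc β, ga]; simp
  have aba : ∀ p : k[X], α * (aeval z p * β) * α = aeval z (p * X) * α := fun p => by
    rw [← mul_assoc, ← commute_aeval hc, mul_assoc, mul_assoc, ← mul_assoc α, za, map_mul, mul_assoc]
  have bab : ∀ p p' : k[X], (aeval z p * β) * α * (aeval z p' * β) = aeval z (p * p' * X) * β := fun p p' => by
    rw [mul_assoc, ← mul_assoc α, ← commute_aeval hc, mul_assoc, mul_assoc, ← mul_assoc β, ← commute_aeval hc',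
      mul_assoc, ← mul_assoc β, zb, map_mul, map_mul, mul_assoc, mul_assoc]
  have inE : ∀ p : k[X], InE G β (aeval z (p * X) * β) := fun p => InE.of_mul (h5 p) (commute_aeval hc' _) rfl
  have rkle : ∀ p : k[X], rk (aeval z (p * X) * β) ≤ rk α := fun p => by
    rw [map_mul, mul_assoc _ _ β, ← zb]
    exact (rk_mul_le_right _ _).trans ((rk_mul_le_left _ _).trans (rk_mul_le_right _ _))
  constructor
  · have e1 : α * (aeval z (r * r * X) * β) * α = α := by
      rw [aba, show r * r * X * X = 1 + ((r * X + 1) * q) * g by linear_combination (r * X + 1) * hq, map_add, add_mul, ga]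
      simp
    refine ⟨_, inE (r * r), hα.of_le (h5 _) (fun e => hα.ne (by rw [← e1, e]; simp)) (rkle _), e1, ?_⟩
    rw [bab, show r * r * X * (r * r * X) * X = r * r * X + (r * r * (r * X + 1) * q) * g * X by
      linear_combination (r * r * X * (r * X + 1)) * hq, map_add, add_mul, gb, add_zero]
  · have e1 : α * (aeval z (r * X) * β) * α = α * β * α := by
      rw [aba, za, show r * X * X = X + (X * q) * g by linear_combination X * hq, map_add, add_mul, ga, add_zero]
    have hE := (InE.refl hβ).sub hβ.1 (inE r)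
    refine ⟨_, hα.of_le (h5 r) (fun e => h (by rw [← e1, e]; simp)) (rkle _), hE.inL, (inE r).mul hβ.1 hE,
      hE.mul hβ.1 (inE r), ?_⟩
    have e2 : β - aeval z (r * X) * β = aeval z (1 - r * X) * β := by simp [sub_mul]
    obtain ⟨v, hv⟩ : ∃ v, (β * α * β) v ≠ 0 := by
      by_contra hc; push Not at hc
      refine h (case1_symm hk2 hk3 hβ hα (LinearMap.ext hc))
    rw [e2]
    refine rk_mul_lt (v := (α * β) v) (by simpa using hv) ?_
    have : aeval z (1 - r * X) * (β * α * β) = 0 := by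
      rw [zb, ← mul_assoc, ← map_mul, show (1 - r * X) * X = (-q) * g * X by linear_combination (-X) * hq, gb]
    simpa using LinearMap.congr_fun this v

omit [FiniteDimensional k M] hk2 hk3 in
theorem braid (hα : α * α = 0) (hβ : β * β = 0) (h1 : α * β * α = α) (h2 : β * α * β = β) :
    (un β hβ)⁻¹ * un α hα * un β hβ = (un α hα)⁻¹ * (un β hβ)⁻¹ * un α hα := by
  ext1
  simp only [Units.val_mul, un_val, un_inv]
  have e1 : (1 - β) * (1 + α) * (1 + β) = 1 + α + α * β - β * α - β * β - β * α * β := by noncomm_ring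
  have e2 : (1 - α) * (1 - β) * (1 + α) = 1 - β + α * β - β * α - α * α + α * β * α := by noncomm_ring
  rw [e1, e2, hα, hβ, h1, h2]; abel

theorem cond_of_opp (hα : MinEl G α) (hβ : MinEl G β) (h : α * β * α ≠ 0) {a : GLM k M} (ha : a ∈ Esub G α) (ha1 : a ≠ 1) :
    ∃ b ∈ Esub G β, b ≠ 1 ∧ conjBy (Esub G α) b⁻¹ = conjBy (Esub G β) a⁻¹ ∧ b⁻¹ * a * b = a⁻¹ * b⁻¹ * a := by
  have ha' := (mem_Esub hα.inL.1).1 ha
  have h0 := sub_ne_zero_iff.2 ha1
  obtain ⟨β', i1, i2, i3, i4⟩ := (exists_norm hk2 hk3 (ha'.symm hα h0).1 hβ.inL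
    (opp_indep hk2 hk3 hα hβ h ha' (InE.refl hβ.inL) h0 hβ.ne)).1
  have hb := un_mem_Esub hβ.inL.1 i1
  have e := braid ha'.inL.1 i2.inL.1 i3 i4
  rw [show un _ ha'.inL.1 = a from Units.ext (val_eq a).symm] at e
  have hb1 : un β' i1.inL.1 ≠ 1 := sub_ne_zero_iff.1 (by rw [un_sub]; exact i2.ne)
  refine ⟨_, hb, hb1, ?_, e⟩
  have m1 := conj_mem_conjBy_inv ha (un β' i1.inL.1)
  have m2 := conj_mem_conjBy_inv (inv_mem hb) a
  rw [Esub_conj hα.inL.1 (inv_mem (Esub_le hb))] at m1 ⊢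
  rw [Esub_conj hβ.inL.1 (inv_mem (Esub_le ha))] at m2 ⊢
  refine Esub_eq_of_mem (hα.conj (inv_mem (Esub_le hb))) (hβ.conj (inv_mem (Esub_le ha))) m1 (e ▸ m2) fun e' => ha1 ?_
  simpa [mul_assoc, inv_mul_eq_one] using e'

theorem special_of_opp (hα : MinEl G α) (hβ : MinEl G β) (h : α * β * α ≠ 0) :
    IsSpecialRankOnePair (Esub G α) (Esub G β) := by
  have hr : IsRankOnePair (Esub G α) (Esub G β) := by
    refine ⟨fun e => h ?_, nilpotent_of_comm (isMulCommutative_iff.2 (Esub_comm hα.inL.1)),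
      nilpotent_of_comm (isMulCommutative_iff.2 (Esub_comm hβ.inL.1)), fun a ha ha1 => ?_, fun a ha ha1 => ?_⟩
    · have := un_mem_Esub hβ.inL.1 (InE.refl hβ.inL)
      rw [← e, mem_Esub hα.inL.1, un_sub] at this
      rw [this.left hα.inL.1, zero_mul]
    · obtain ⟨b, h1, h2, h3, -⟩ := cond_of_opp hk2 hk3 hα hβ h ha ha1
      exact ⟨b, h1, h2, h3⟩
    · obtain ⟨b, h1, h2, h3, -⟩ := cond_of_opp hk2 hk3 hβ hα (opp_symm hk2 hk3 hα hβ h) ha ha1
      exact ⟨b, h1, h2, h3⟩
  refine ⟨hr, fun a ha ha1 b hb _ e => ?_⟩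
  obtain ⟨b', h1, -, h3, h4⟩ := cond_of_opp hk2 hk3 hα hβ h ha ha1
  obtain rfl : b = b' := inv_injective (RO.conj_left_inj (RO.symm hr) (inv_mem hb) (inv_mem h1) (e.trans h3.symm))
  exact h4

end Q

end H12
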