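import Mathlib
import Cfsg.Agent.H12.Quad3
import Cfsg.Agent.H12.RootSub2

/-!
Quadratic pairs IV: non-opposite pairs (αβα = 0): unipotence, the commutator δ = αβ − βα, `Q.exists_opp` (no isolated
vertices), `Q.comm_surj` ([e, F] = [E, F]), `Q.cc_of_case1` (commutator case), `Q.pair_cases`.
-/

set_option autoImplicit false

namespace H12

open Cfsg Polynomial

namespace Q

variable {k : Type*} [Field k] {M : Type*} [AddCommGroup M] [Module k M]
variable {G : Subgroup (GLM k M)} {α β γ δ δ' : Module.End k M}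

/-- endomorphisms moving down the flag `M ⊇ V₁ ⊇ V₂ ⊇ 0` -/
def flagJ (V₁ V₂ : Submodule k M) : Submodule k (Module.End k M) where
  carrier := {φ | (∀ v, φ v ∈ V₁) ∧ (∀ v ∈ V₁, φ v ∈ V₂) ∧ ∀ v ∈ V₂, φ v = 0}
  add_mem' := fun ha hb => ⟨fun v => add_mem (ha.1 v) (hb.1 v), fun v hv => add_mem (ha.2.1 v hv) (hb.2.1 v hv),
    fun v hv => by rw [LinearMap.add_apply, ha.2.2 v hv, hb.2.2 v hv, add_zero]⟩
  zero_mem' := by simp
  smul_mem' := fun c _ ha => ⟨fun v => V₁.smul_mem c (ha.1 v), fun v hv => V₂.smul_mem c (ha.2.1 v hv),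
    fun v hv => by rw [LinearMap.smul_apply, ha.2.2 v hv, smul_zero]⟩

theorem flagJ_mul (V₁ V₂ : Submodule k M) : ∀ a ∈ flagJ V₁ V₂, ∀ b ∈ flagJ V₁ V₂, a * b ∈ flagJ V₁ V₂ :=
  fun a ha b hb => ⟨fun v => ha.1 _, fun v hv => by
    rw [Module.End.mul_apply, ha.2.2 _ (hb.2.1 v hv)]; exact zero_mem _, fun v hv => by
    rw [Module.End.mul_apply, hb.2.2 v hv, map_zero]⟩

theorem flagJ_pow (V₁ V₂ : Submodule k M) : flagJ V₁ V₂ ^ 3 = ⊥ := by
  rw [pow_succ, sq, eq_bot_iff, Submodule.mul_le]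
  intro m hm c hc
  refine Submodule.mul_induction_on hm (fun a ha b hb => ?_) (fun x y hx hy => by rw [add_mul]; exact add_mem hx hy)
  exact (Submodule.mem_bot k).2 (LinearMap.ext fun v => ha.2.2 _ (hb.2.1 _ (hc.1 v)))

/-- no non-trivial unipotent normal subgroup -/
def NoU (G : Subgroup (GLM k M)) : Prop :=
  ∀ U ≤ G, IsUnipotentOn U → (∀ x ∈ G, ∀ g ∈ U, x⁻¹ * g * x ∈ U) → U = ⊥

theorem noU_of_irr (h : IsIrreducibleFor G) : NoU G := fun _ _ h1 h2 => Unip.eq_bot_of_irreducible h h1 h2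

/-- the dimension of `E(1 + α)` -/
noncomputable def dE (G : Subgroup (GLM k M)) (α : Module.End k M) : ℕ :=
  Module.finrank k (Submodule.span k {γ | InE G α γ})

theorem mem_span_iff (hα : α * α = 0) : γ ∈ Submodule.span k {γ | InE G α γ} ↔ InE G α γ := by
  refine ⟨fun h => ?_, fun h => Submodule.subset_span h⟩
  induction h using Submodule.span_induction with
  | mem x hx => exact hx
  | zero => exact InE.zero
  | add x y _ _ hx hy => exact hx.add hα hy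
  | smul c x _ hx => exact hx.smul c

/-- the subgroup generated by the minimal quadratic elements -/
def G0 (G : Subgroup (GLM k M)) : Subgroup (GLM k M) := Subgroup.closure {g | MinEl G ((g : Module.End k M) - 1)}

theorem G0_le : G0 G ≤ G := (Subgroup.closure_le _).2 fun g hg => hg.inL.mem (val_eq g)

theorem MinEl.un_mem (h : MinEl G α) : un α h.inL.1 ∈ G0 G := Subgroup.subset_closure (by rwa [Set.mem_setOf_eq, un_sub])

/-- conjugacy under `G0` -/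
def Cj (G : Subgroup (GLM k M)) (α β : Module.End k M) : Prop :=
  ∃ g ∈ G0 G, β = (g : Module.End k M) * α * (g⁻¹ : GLM k M)

theorem Cj.symm (h : Cj G α β) : Cj G β α := by
  obtain ⟨g, hg, rfl⟩ := h
  exact ⟨g⁻¹, inv_mem hg, by simp [mul_assoc]⟩

theorem Cj.trans (h : Cj G α β) (h' : Cj G β γ) : Cj G α γ := by
  obtain ⟨g, hg, rfl⟩ := h
  obtain ⟨g', hg', rfl⟩ := h'
  exact ⟨g' * g, mul_mem hg' hg, by simp [mul_assoc]⟩

theorem InE.neg_left (h : InE G α γ) : InE G (-α) γ :=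
  ⟨h.inL, by rw [LinearMap.range_neg]; exact h.rng, by rw [LinearMap.ker_neg]; exact h.ker⟩

theorem dE_neg : dE G (-α) = dE G α := by
  have : {γ | InE G (-α) γ} = {γ | InE G α γ} := Set.ext fun γ => ⟨fun h => by simpa using InE.neg_left h, InE.neg_left⟩
  rw [dE, this, dE]

theorem cj_comm (hα : α * α = 0) (hm : un α hα ∈ G0 G) (h : α * β * α = 0) : Cj G β (β + (α * β - β * α)) := by
  refine ⟨_, hm, ?_⟩
  rw [un_val, un_inv, ← sub_eq_zero, ← h]; noncomm_ring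

variable [FiniteDimensional k M]

theorem Esub_le_G0 (hα : MinEl G α) : Esub G α ≤ G0 G := by
  intro g hg
  by_cases h : g = 1
  · exact h ▸ one_mem _
  · exact Subgroup.subset_closure (((mem_Esub hα.inL.1).1 hg).symm hα (sub_ne_zero_iff.2 h)).1

theorem G0_eq : (⨆ A ∈ quadraticRootSubgroups G, A) = G0 G := by
  refine le_antisymm (iSup₂_le fun A hA => ?_) ((Subgroup.closure_le _).2 fun g hg => ?_)
  · obtain ⟨α, hα, rfl⟩ := mem_Sigma.1 hA
    exact Esub_le_G0 hα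
  · exact le_iSup₂_of_le (f := fun A (_ : A ∈ quadraticRootSubgroups G) => A) _ (mem_Sigma.2 ⟨_, hg, rfl⟩) le_rfl
      ((mem_Esub hg.inL.1).2 (InE.refl hg.inL))

theorem G0_normal {g x : GLM k M} (hg : g ∈ G) (hx : x ∈ G0 G) : g * x * g⁻¹ ∈ G0 G := by
  induction hx using Subgroup.closure_induction with
  | mem x hx => exact Subgroup.subset_closure (by rw [Set.mem_setOf_eq, conj_sub]; exact MinEl.conj hx hg)
  | one => simp
  | mul x y _ _ hx hy => simpa [mul_assoc] using mul_mem hx hy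
  | inv x _ hx => simpa [mul_assoc] using inv_mem hx

theorem sigma_conj {A : Subgroup (GLM k M)} (hA : A ∈ quadraticRootSubgroups G) {g : GLM k M} (hg : g ∈ G) :
    conjBy A g ∈ quadraticRootSubgroups G := by
  obtain ⟨α, hα, rfl⟩ := mem_Sigma.1 hA
  exact mem_Sigma.2 ⟨_, hα.conj hg, Esub_conj hα.inL.1 hg⟩

theorem rk_add_le (φ ψ : Module.End k M) : rk (φ + ψ) ≤ rk φ + rk ψ := by
  refine (Submodule.finrank_mono ?_).trans (Submodule.finrank_add_le_finrank_add_finrank _ _)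
  rintro _ ⟨v, rfl⟩
  exact Submodule.add_mem_sup ⟨v, rfl⟩ ⟨v, rfl⟩

omit [FiniteDimensional k M] in
theorem rk_neg (φ : Module.End k M) : rk (-φ) = rk φ := by rw [rk, LinearMap.range_neg, rk]

theorem rk_split {φ ψ : Module.End k M} (h : φ * γ * ψ = 0) : rk (φ * γ) + rk (γ * ψ) ≤ rk γ := by
  rw [← rk_mul_add φ γ]
  refine Nat.add_le_add_left (Submodule.finrank_mono ?_) _
  rintro _ ⟨v, rfl⟩
  exact ⟨⟨_, rfl⟩, LinearMap.congr_fun h v⟩

theorem dE_le_of_inj (hα : α * α = 0) (hβ : β * β = 0) (f : Module.End k M →ₗ[k] Module.End k M)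
    (h1 : ∀ γ, InE G α γ → InE G β (f γ)) (h2 : ∀ γ, InE G α γ → f γ = 0 → γ = 0) :
    dE G α ≤ dE G β ∧ (dE G β ≤ dE G α → ∀ δ, InE G β δ → ∃ γ, InE G α γ ∧ f γ = δ) := by
  let f' : Submodule.span k {γ | InE G α γ} →ₗ[k] Submodule.span k {γ | InE G β γ} :=
    f.restrict fun x hx => (mem_span_iff hβ).2 (h1 x ((mem_span_iff hα).1 hx))
  have hi : Function.Injective f' := by
    rw [injective_iff_map_eq_zero]
    exact fun x hx => Subtype.ext (h2 _ ((mem_span_iff hα).1 x.2) (congrArg Subtype.val hx))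
  have hle := LinearMap.finrank_le_finrank_of_injective hi
  refine ⟨hle, fun h δ hδ => ?_⟩
  obtain ⟨x, hx⟩ := (LinearMap.injective_iff_surjective_of_finrank_eq_finrank (le_antisymm hle h)).1 hi
    ⟨δ, (mem_span_iff hβ).2 hδ⟩
  exact ⟨x, (mem_span_iff hα).1 x.2, congrArg Subtype.val hx⟩

theorem Cj.dE_le (hα : InL G α) (h : Cj G α β) : dE G α ≤ dE G β := by
  obtain ⟨g, hg, rfl⟩ := h
  refine (dE_le_of_inj hα.1 (hα.conj (G0_le hg)).1
    (LinearMap.mulRight k ((g⁻¹ : GLM k M) : Module.End k M) ∘ₗ LinearMap.mulLeft k (g : Module.End k M))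
    (fun γ hγ => hγ.conj (G0_le hg)) (fun γ _ e => ?_)).1
  simpa using e

theorem unip_of_flag {A B : Subgroup (GLM k M)} {V₁ V₂ : Submodule k M}
    (hA : ∀ g ∈ A, (g : Module.End k M) - 1 ∈ flagJ V₁ V₂) (hB : ∀ g ∈ B, (g : Module.End k M) - 1 ∈ flagJ V₁ V₂) :
    ∀ g ∈ A ⊔ B, (g : Module.End k M) - 1 ∈ flagJ V₁ V₂ :=
  fun _ hg => (sup_le hA hB : A ⊔ B ≤ Unip.algGrp _ (flagJ_mul V₁ V₂)) hg

theorem unip_Esub (hα : α * α = 0) : IsUnipotentOn (Esub G α) := by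
  refine Unip.of_pow_eq_bot (flagJ_pow (LinearMap.range α) ⊥) fun g hg => ?_
  rw [mem_Esub hα] at hg
  refine ⟨fun v => hg.rng ⟨v, rfl⟩, ?_, by simp⟩
  rintro _ ⟨v, rfl⟩
  exact LinearMap.congr_fun (hg.right hα) v

/-- facts on a non-opposite pair with non-zero commutator -/
theorem case1_facts (hα : MinEl G α) (hβ : MinEl G β) (h1 : α * β * α = 0) (h2 : β * α * β = 0) (h0 : α * β - β * α ≠ 0) :
    MinEl G (α * β - β * α) ∧ Disjoint (LinearMap.range α) (LinearMap.range β) ∧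
    LinearMap.range β ⊓ LinearMap.ker α ≤ LinearMap.range (β * α) ∧
    LinearMap.range (β * α) ≤ LinearMap.range (α * β - β * α) := by
  have hL := hα.inL.comm hβ.inL h1 h2
  have aux : ∀ {α β : Module.End k M}, MinEl G β → α * β * α = 0 → InL G (α * β - β * α) → α * β - β * α ≠ 0 →
      LinearMap.range β ⊓ LinearMap.ker α ≤ LinearMap.range (β * α) := by
    intro α β hβ h1 hL h0
    have a := hβ.min _ hL h0
    have b := rk_add_le (α * β) (-(β * α))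
    have c := rk_mul_add α β
    rw [rk_neg, ← sub_eq_add_neg] at b
    refine (Submodule.eq_of_le_of_finrank_le ?_ (by unfold rk at *; omega)).ge
    rintro _ ⟨v, rfl⟩
    exact ⟨⟨_, rfl⟩, LinearMap.congr_fun h1 v⟩
  have a := hβ.min _ hL h0
  have c := rk_split h1
  have hle : LinearMap.range (α * β - β * α) ≤ LinearMap.range (α * β) ⊔ LinearMap.range (β * α) := by
    rintro _ ⟨v, rfl⟩
    exact sub_mem (Submodule.mem_sup_left ⟨v, rfl⟩) (Submodule.mem_sup_right ⟨v, rfl⟩)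
  have d := Submodule.finrank_mono hle
  have e := Submodule.finrank_sup_add_finrank_inf_eq (LinearMap.range (α * β)) (LinearMap.range (β * α))
  unfold rk at a c
  have f : LinearMap.range (α * β) ⊓ LinearMap.range (β * α) = ⊥ := Submodule.finrank_eq_zero.1 (by omega)
  refine ⟨hβ.of_le hL h0 (by unfold rk; omega), ?_, aux hβ h1 hL h0,
    le_sup_right.trans (Submodule.eq_of_le_of_finrank_le hle (by omega)).ge⟩
  rw [disjoint_iff, eq_bot_iff, ← f]
  rintro _ ⟨⟨v, rfl⟩, w, hw⟩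
  exact ⟨aux hα h2 (by simpa using hL.neg) (fun e => h0 (by rw [← neg_sub, e, neg_zero]))
    ⟨⟨v, rfl⟩, by rw [← hw]; exact LinearMap.congr_fun hβ.inL.1 w⟩,
    aux hβ h1 hL h0 ⟨⟨w, hw⟩, LinearMap.congr_fun hα.inL.1 v⟩⟩

theorem case1_flag (hα : MinEl G α) (hβ : MinEl G β) (h1 : α * β * α = 0) (h2 : β * α * β = 0) (h0 : α * β - β * α ≠ 0) :
    (∀ v, (α * β - β * α) v = 0 → v ∈ LinearMap.range β ⊔ LinearMap.ker α) ∧
    LinearMap.range α ⊓ LinearMap.ker β ≤ LinearMap.range (α * β - β * α) := by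
  have h0' : β * α - α * β ≠ 0 := fun e => h0 (by rw [← neg_sub, e, neg_zero])
  obtain ⟨-, a1, a2, a3⟩ := case1_facts hβ hα h2 h1 h0'
  refine ⟨fun v hv => ?_, a2.trans (a3.trans (by rw [← neg_sub, LinearMap.range_neg]))⟩
  rw [LinearMap.sub_apply, sub_eq_zero] at hv
  have : (β * α) v = 0 := (Submodule.disjoint_def.1 a1) _ ⟨_, rfl⟩ ⟨_, hv⟩
  obtain ⟨w, hw⟩ := a2 (Submodule.mem_inf.2 ⟨LinearMap.mem_range_self α v, this⟩)
  rw [show v = β w + (v - β w) by abel]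
  exact Submodule.add_mem_sup ⟨w, rfl⟩ (by rw [LinearMap.mem_ker, map_sub, ← hw]; simp)

/-- the splitting of an element of `U(D)` along the grading -/
theorem split_grade (h2 : (2 : k) ≠ 0) (hδ : InL G δ) (hδ' : InL G δ') (n1 : δ * δ' * δ = δ) (n2 : δ' * δ * δ' = δ')
    (hγ : InL G γ) (hf : γ ∈ flagJ (LinearMap.ker δ) (LinearMap.range δ)) :
    InE G δ (δ * δ' * γ * (δ' * δ)) ∧ InL G (γ - δ * δ' * γ * (δ' * δ)) ∧ rk (γ - δ * δ' * γ * (δ' * δ)) ≤ rk γ ∧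
      γ = δ * δ' * γ + γ * (δ' * δ) - δ * δ' * γ * (δ' * δ) := by
  have a1 : δ * γ = 0 := LinearMap.ext hf.1
  have a2 : γ * δ = 0 := LinearMap.ext fun v => hf.2.2 _ ⟨v, rfl⟩
  have a3 : (1 - δ * δ') * γ * (1 - δ' * δ) = 0 := by
    ext v
    obtain ⟨w, hw⟩ := hf.2.1 ((1 - δ' * δ) v) (by
      have : δ * (1 - δ' * δ) = 0 := by rw [mul_sub, ← mul_assoc, n1]; simp
      exact LinearMap.congr_fun this v)
    have : (1 - δ * δ') * δ = 0 := by rw [sub_mul, n1]; simp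
    rw [Module.End.mul_apply, Module.End.mul_apply, ← hw]
    exact LinearMap.congr_fun this w
  have a4 : γ = δ * δ' * γ + γ * (δ' * δ) - δ * δ' * γ * (δ' * δ) := by
    rw [← sub_eq_zero, ← a3]; noncomm_ring
  have p1 : γ * (δ * δ' * γ * (δ' * δ)) = 0 := by simp only [← mul_assoc, a2, zero_mul]
  have p2 : (δ * δ' * γ * (δ' * δ)) * γ = 0 := by simp only [mul_assoc, a1, mul_zero]
  let φ := Fhom k hδ.1 hδ'.1 n1 n2
  have hn : φ !![1, 1; 0, 1] * φ !![1, 0; -1, 1] * φ !![1, 1; 0, 1] = φ !![0, 1; -1, 0] := by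
    rw [← map_mul, ← map_mul]; congr 1; simp
  have u1 : φ !![1, 1; 0, 1] = un δ hδ.1 := by simp [φ, Fhom_apply]; abel
  have u2 : φ !![1, 0; -1, 1] = un _ hδ'.neg.1 := by simp [φ, Fhom_apply]; abel
  set n := un δ hδ.1 * un _ hδ'.neg.1 * un δ hδ.1
  have hnG : n * n ∈ G := mul_mem (mul_mem (mul_mem hδ.un_mem hδ'.neg.un_mem) hδ.un_mem)
    (mul_mem (mul_mem hδ.un_mem hδ'.neg.un_mem) hδ.un_mem)
  have hi : ((n * n : GLM k M) : Module.End k M) = φ !![-1, 0; 0, -1] := by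
    rw [u1, u2, ← Units.val_mul, ← Units.val_mul] at hn
    rw [Units.val_mul, hn, ← map_mul]; congr 1; simp
  have hi' : (((n * n)⁻¹ : GLM k M) : Module.End k M) = φ !![-1, 0; 0, -1] := by
    apply Units.inv_eq_of_mul_eq_one_right
    rw [hi, ← map_mul, ← map_one φ]; congr 1; simp [Matrix.one_fin_two]
  have c := hγ.conj hnG
  have e : φ !![-1, 0; 0, -1] * γ * φ !![-1, 0; 0, -1] = (2 : k) • (δ * δ' * γ * (δ' * δ)) - γ := by
    have : φ !![-1, 0; 0, -1] = 1 - (2 : k) • (δ * δ') - (2 : k) • (δ' * δ) := by simp [φ, Fhom_apply]; module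
    have b1 : ∀ x, γ * (δ * x) = 0 := fun x => by rw [← mul_assoc, a2, zero_mul]
    have b2 : ∀ x, δ * (γ * x) = 0 := fun x => by rw [← mul_assoc, a1, zero_mul]
    simp only [this, mul_sub, sub_mul, mul_assoc, smul_mul_assoc, mul_smul_comm, a1, b1, b2, mul_zero, zero_mul, smul_zero,
      one_mul, mul_one] at a4 ⊢
    linear_combination (norm := module) (2 : k) • a4
  rw [hi, hi', e] at c
  have c2 : InL G (δ * δ' * γ * (δ' * δ)) := by
    have := (hγ.add c (by rw [mul_sub, mul_smul_comm, p1, hγ.1]; simp)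
      (by rw [sub_mul, smul_mul_assoc, p2, hγ.1]; simp)).smul 2⁻¹
    rwa [add_sub_cancel, inv_smul_smul₀ h2] at this
  refine ⟨InE.of_mul c2 (φ := δ' * γ * (δ' * δ)) (ψ := δ * δ' * γ * δ') (by simp only [mul_assoc])
    (by simp only [mul_assoc]), hγ.sub c2 p1 p2, ?_, a4⟩
  refine le_trans ?_ (rk_split a3)
  refine le_of_eq_of_le (congrArg rk ?_) (rk_add_le _ _)
  rw [sub_mul, mul_sub, one_mul, mul_one]
  linear_combination (norm := module) -a4

variable (hk2 : ringChar k ≠ 2) (hk3 : Nat.card k ≠ 3)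
include hk2 hk3

theorem unip_of_case1 (hα : MinEl G α) (hβ : MinEl G β) (h : α * β * α = 0) : IsUnipotentOn (Esub G α ⊔ Esub G β) := by
  have aux : ∀ {α β : Module.End k M}, MinEl G α → MinEl G β → α * β * α = 0 → ∀ g ∈ Esub G α,
      (g : Module.End k M) - 1 ∈ flagJ (LinearMap.range α ⊔ LinearMap.range β)
        (LinearMap.range α ⊓ LinearMap.ker β ⊔ LinearMap.range β ⊓ LinearMap.ker α) := by
    intro α β hα hβ h g hg
    rw [mem_Esub hα.inL.1] at hg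
    have h0 : ∀ v, ((g : Module.End k M) - 1) (α v) = 0 := LinearMap.congr_fun (hg.right hα.inL.1)
    refine ⟨fun v => Submodule.mem_sup_left (hg.rng ⟨v, rfl⟩), fun v hv => ?_, fun v hv => ?_⟩
    · obtain ⟨_, ⟨a, rfl⟩, _, ⟨b, rfl⟩, rfl⟩ := Submodule.mem_sup.1 hv
      rw [map_add, h0, zero_add]
      exact Submodule.mem_sup_left ⟨hg.rng ⟨_, rfl⟩,
        LinearMap.congr_fun (case1_indep hk2 hk3 hα hβ h hg (InE.refl hβ.inL)).2 b⟩
    · obtain ⟨_, ⟨⟨a, rfl⟩, -⟩, b, ⟨-, hb⟩, rfl⟩ := Submodule.mem_sup.1 hv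
      rw [map_add, h0, zero_add]
      exact hg.ker hb
  refine Unip.of_pow_eq_bot (flagJ_pow _ _) (unip_of_flag (aux hα hβ h) ?_)
  rw [sup_comm (LinearMap.range α), sup_comm (LinearMap.range α ⊓ _)]
  exact aux hβ hα (case1_symm hk2 hk3 hα.inL hβ h)

theorem not_unip_of_opp (hα : MinEl G α) (hβ : MinEl G β) (h : α * β * α ≠ 0) :
    ¬ IsUnipotentOn (Esub G α ⊔ Esub G β) := by
  intro hu
  obtain ⟨n, hn⟩ := Unip.aug_pow hu
  obtain ⟨β', i1, -, i3, -⟩ := (exists_norm hk2 hk3 hα hβ.inL h).1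
  have m1 := Unip.mem_aug (Subgroup.mem_sup_left (T := Esub G β) (un_mem_Esub hα.inL.1 (InE.refl hα.inL)))
  have m2 := Unip.mem_aug (Subgroup.mem_sup_right (S := Esub G α) (un_mem_Esub hβ.inL.1 i1))
  rw [un_sub] at m1 m2
  have := Submodule.pow_mem_pow _ (Unip.aug_mul _ _ m1 _ m2) n
  rw [hn, Submodule.mem_bot] at this
  have e : ∀ n, (α * β') ^ n * α = α := fun n => by
    induction n with
    | zero => simp
    | succ n ih => rw [pow_succ, mul_assoc, i3, ih]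
  exact hα.ne (by rw [← e n, this, zero_mul])

theorem exists_opp (hU : NoU G) (hα : MinEl G α) : ∃ β, MinEl G β ∧ α * β * α ≠ 0 := by
  by_contra hc
  push Not at hc
  let W : Set (Subgroup (GLM k M)) := {A | ∃ α, MinEl G α ∧ (∀ β, MinEl G β → α * β * α = 0) ∧ A = Esub G α}
  have hW : ∀ A ∈ W, ∀ g ∈ G, conjBy A g ∈ W := by
    rintro _ ⟨α, h1, h2, rfl⟩ g hg
    refine ⟨_, h1.conj hg, fun β hβ => ?_, Esub_conj h1.inL.1 hg⟩
    have := congrArg (fun x => (g : Module.End k M) * x * (g⁻¹ : GLM k M)) (h2 _ (hβ.conj (inv_mem hg)))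
    simpa [mul_assoc] using this
  have hu := Unip.iSup_of_pairwise (G := G) (W := W) (by rintro _ ⟨α, -, -, rfl⟩; exact Esub_le)
    (by rintro _ ⟨α, h1, h2, rfl⟩ _ ⟨β, h3, -, rfl⟩; exact unip_of_case1 hk2 hk3 h1 h3 (h2 β h3)) hW
  have := hU _ (iSup₂_le (by rintro _ ⟨α, -, -, rfl⟩; exact Esub_le)) hu (fun x hx g hg => by
    have : conjBy (⨆ A ∈ W, A) x⁻¹ ≤ ⨆ A ∈ W, A := by
      simp only [conjBy, Subgroup.map_iSup]
      exact iSup₂_le fun A hA => le_iSup₂_of_le (f := fun A (_ : A ∈ W) => A) _ (hW A hA _ (inv_mem hx)) le_rfl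
    exact this (conj_mem_conjBy_inv hg x))
  have m : un α hα.inL.1 ∈ ⨆ A ∈ W, A := le_iSup₂_of_le (f := fun A (_ : A ∈ W) => A) _ ⟨α, hα, hc, rfl⟩ le_rfl
    (un_mem_Esub hα.inL.1 (InE.refl hα.inL))
  rw [this, Subgroup.mem_bot] at m
  exact sub_ne_zero_iff.1 (by rw [un_sub]; exact hα.ne) m

theorem mem_flag (hα : MinEl G α) (hβ : MinEl G β) (h : α * β * α = 0) (h0 : α * β - β * α ≠ 0) {α' : Module.End k M}
    (h1 : InE G α α') : α' ∈ flagJ (LinearMap.ker (α * β - β * α)) (LinearMap.range (α * β - β * α)) := by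
  have h' := case1_symm hk2 hk3 hα.inL hβ h
  obtain ⟨a1, a2⟩ := case1_flag hα hβ h h' h0
  refine ⟨fun v => LinearMap.congr_fun (h1.left (φ := α * β - β * α)
    (by rw [sub_mul, h, mul_assoc, hα.inL.1]; simp)) v, fun v hv => ?_, ?_⟩
  · obtain ⟨_, ⟨b, rfl⟩, c, hc, rfl⟩ := Submodule.mem_sup.1 (a1 v hv)
    rw [map_add, h1.ker hc, add_zero]
    exact a2 ⟨h1.rng ⟨_, rfl⟩, LinearMap.congr_fun (case1_indep hk2 hk3 hα hβ h h1 (InE.refl hβ.inL)).2 b⟩
  · rintro _ ⟨v, rfl⟩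
    exact LinearMap.congr_fun (h1.right (by rw [mul_sub, ← mul_assoc, ← mul_assoc, h, hα.inL.1]; simp)) v

theorem mem_flag' (hα : MinEl G α) (hβ : MinEl G β) (h : α * β * α = 0) (h0 : α * β - β * α ≠ 0) {β' : Module.End k M}
    (h1 : InE G β β') : β' ∈ flagJ (LinearMap.ker (α * β - β * α)) (LinearMap.range (α * β - β * α)) := by
  have := mem_flag hk2 hk3 hβ hα (case1_symm hk2 hk3 hα.inL hβ h) (fun e => h0 (by rw [← neg_sub, e, neg_zero])) h1
  rwa [← neg_sub, LinearMap.range_neg, LinearMap.ker_neg] at this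

theorem comm_inE (hα : MinEl G α) (hβ : MinEl G β) (h : α * β * α = 0) (h0 : α * β - β * α ≠ 0)
    {α' β' : Module.End k M} (h1 : InE G α α') (h2 : InE G β β') :
    InE G (α * β - β * α) (α' * β' - β' * α') ∧ (α' * β' - β' * α' = 0 → α' = 0 ∨ β' = 0) := by
  have h' := case1_symm hk2 hk3 hα.inL hβ h
  have f1 := mem_flag hk2 hk3 hα hβ h h0 h1
  have f2 := mem_flag' hk2 hk3 hα hβ h h0 h2
  refine ⟨⟨h1.inL.comm h2.inL (case1_triple hk2 hk3 hα hβ h h1 h1 h2) (case1_triple hk2 hk3 hβ hα h' h2 h2 h1), ?_,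
    fun v hv => ?_⟩, fun e => ?_⟩
  · rintro _ ⟨v, rfl⟩
    exact sub_mem (f1.2.1 _ (f2.1 v)) (f2.2.1 _ (f1.1 v))
  · rw [LinearMap.mem_ker, LinearMap.sub_apply, Module.End.mul_apply, Module.End.mul_apply, f1.2.2 _ (f2.2.1 v hv),
      f2.2.2 _ (f1.2.1 v hv), sub_zero]
  · by_contra hc
    push Not at hc
    obtain ⟨-, a1, -⟩ := case1_facts hα hβ h h' h0
    rw [sub_eq_zero] at e
    have e1 : α' * β' = 0 := LinearMap.ext fun v => (Submodule.disjoint_def.1 a1) _ (h1.rng ⟨_, rfl⟩)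
      (by rw [e]; exact h2.rng ⟨_, rfl⟩)
    have s1 := (h1.symm hα hc.1).2
    have s2 := (h2.symm hβ hc.2).2
    exact h0 (by rw [s1.right (s2.left e1), s2.right (s1.left (e ▸ e1)), sub_zero])

theorem dE_le_comm (hα : MinEl G α) (hβ : MinEl G β) (h : α * β * α = 0) (h0 : α * β - β * α ≠ 0) :
    dE G β ≤ dE G (α * β - β * α) ∧ (dE G (α * β - β * α) ≤ dE G β →
      ∀ δ, InE G (α * β - β * α) δ → ∃ β', InE G β β' ∧ α * β' - β' * α = δ) :=
  dE_le_of_inj hβ.inL.1 (case1_facts hα hβ h (case1_symm hk2 hk3 hα.inL hβ h) h0).1.inL.1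
    (LinearMap.mulLeft k α - LinearMap.mulRight k α)
    (fun _ hγ => (comm_inE hk2 hk3 hα hβ h h0 (InE.refl hα.inL) hγ).1)
    (fun _ hγ e => ((comm_inE hk2 hk3 hα hβ h h0 (InE.refl hα.inL) hγ).2 e).resolve_left hα.ne)

theorem grade_one (hδ : MinEl G δ) (hδ' : MinEl G δ') (n2 : δ' * δ * δ' = δ')
    (hγ : MinEl G γ) (a1 : δ * γ = 0) (a2 : γ * δ = 0) (a3 : γ = δ * δ' * γ + γ * (δ' * δ)) (a4 : δ' * γ * δ' = 0) :
    dE G δ ≤ dE G γ ∧ Cj G δ (δ + γ) := by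
  have e : (γ * δ' - δ' * γ) * δ - δ * (γ * δ' - δ' * γ) = γ := by
    rw [sub_mul, mul_sub, mul_assoc δ', a2, ← mul_assoc δ γ, a1, mul_assoc γ, ← mul_assoc δ, mul_zero, zero_mul]
    linear_combination (norm := module) -a3
  have a5 := case1_symm hk2 hk3 hδ'.inL hγ a4
  have hκ := (case1_facts hγ hδ' a5 a4 (fun e' => hγ.ne (by rw [← e, e']; simp))).1
  have a6 : δ * (γ * δ' - δ' * γ) * δ = 0 := by
    rw [mul_sub, sub_mul, ← mul_assoc, a1, mul_assoc δ, mul_assoc δ', a2]; simp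
  have a7 := case1_symm hk2 hk3 hδ.inL hκ a6
  have := (dE_le_comm hk2 hk3 hκ hδ a7 (by rw [e]; exact hγ.ne)).1
  have c := cj_comm _ hκ.un_mem a7
  rw [e] at this c
  exact ⟨this, c⟩

theorem comm_conj (hU : NoU G) (hα : MinEl G α) (hβ : MinEl G β) (h : α * β * α = 0) (h0 : α * β - β * α ≠ 0) :
    Cj G (α * β - β * α) β := by
  have h' := case1_symm hk2 hk3 hα.inL hβ h
  have hδ := (case1_facts hα hβ h h' h0).1
  have f1 := mem_flag hk2 hk3 hα hβ h h0 (InE.refl hα.inL)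
  have f2 := mem_flag' hk2 hk3 hα hβ h h0 (InE.refl hβ.inL)
  generalize hδe : α * β - β * α = δ at *
  obtain ⟨η, hη, ho⟩ := exists_opp hk2 hk3 hU hδ
  obtain ⟨δ', -, hδ', n1, n2⟩ := (exists_norm hk2 hk3 hδ hη.inL ho).1
  have aux : ∀ {γ}, MinEl G γ → γ ∈ flagJ (LinearMap.ker δ) (LinearMap.range δ) → γ - δ * δ' * γ * (δ' * δ) ≠ 0 →
      MinEl G (γ - δ * δ' * γ * (δ' * δ)) ∧ InE G δ (δ * δ' * γ * (δ' * δ)) ∧ dE G δ ≤ dE G (γ - δ * δ' * γ * (δ' * δ)) ∧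
        Cj G δ (δ + (γ - δ * δ' * γ * (δ' * δ))) := by
    intro γ hγ hf hne
    obtain ⟨s1, s2, s3, s4⟩ := split_grade (Ring.two_ne_zero hk2) hδ.inL hδ'.inL n1 n2 hγ.inL hf
    have a1 : δ * γ = 0 := LinearMap.ext hf.1
    have a2 : γ * δ = 0 := LinearMap.ext fun v => hf.2.2 _ ⟨v, rfl⟩
    have r1 : ∀ x, δ * (δ' * (δ * x)) = δ * x := fun x => by rw [← mul_assoc, ← mul_assoc, n1]
    have r2 : ∀ x, δ' * (δ * (δ' * x)) = δ' * x := fun x => by rw [← mul_assoc, ← mul_assoc, n2]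
    have hm := hγ.of_le s2 hne s3
    refine ⟨hm, s1, grade_one hk2 hk3 hδ hδ' n2 hm (by rw [mul_sub, a1, s1.left hδ.inL.1, sub_zero])
      (by rw [sub_mul, a2, s1.right hδ.inL.1, sub_zero]) ?_ ?_⟩
    · rw [mul_assoc] at n2
      simp only [mul_sub, sub_mul, mul_assoc, r1, r2] at s4 ⊢
      linear_combination (norm := module) s4
    · rw [mul_assoc] at n2
      simp only [mul_sub, sub_mul, mul_assoc, r1, r2, n2, sub_self]
  have prod : ∀ {x y : Module.End k M}, x ∈ flagJ (LinearMap.ker δ) (LinearMap.range δ) →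
      y ∈ flagJ (LinearMap.ker δ) (LinearMap.range δ) →
      (x - δ * δ' * x * (δ' * δ)) * (y - δ * δ' * y * (δ' * δ)) = x * y ∧ x * (δ * δ' * y * (δ' * δ)) = 0 := by
    intro x y hx hy
    have a1 : δ * y = 0 := LinearMap.ext hy.1
    have a2 : ∀ z, x * (δ * z) = 0 := fun z => LinearMap.ext fun v => hx.2.2 _ ⟨_, rfl⟩
    have a3 : ∀ z, δ * (δ * z) = 0 := fun z => by rw [← mul_assoc, hδ.inL.1, zero_mul]
    simp only [mul_sub, sub_mul, mul_assoc, a1, a2, a3, mul_zero, sub_zero, and_self]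
  have p1 := prod f1 f2
  have p2 := prod f2 f1
  have ne : α - δ * δ' * α * (δ' * δ) ≠ 0 ∧ β - δ * δ' * β * (δ' * δ) ≠ 0 := by
    constructor <;> intro e <;> apply h0 <;> rw [← hδe, ← p1.1, ← p2.1, e] <;> simp
  obtain ⟨m1, -, d1, -⟩ := aux hα f1 ne.1
  obtain ⟨m2, i2, -, c2⟩ := aux hβ f2 ne.2
  have q1 : (α - δ * δ' * α * (δ' * δ)) * (β - δ * δ' * β * (δ' * δ)) * (α - δ * δ' * α * (δ' * δ)) = 0 := by
    rw [p1.1, mul_sub, h, mul_assoc, p2.2]; simp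
  generalize α - δ * δ' * α * (δ' * δ) = α₁ at *
  have hb : β = (β - δ * δ' * β * (δ' * δ)) + δ * δ' * β * (δ' * δ) := by abel
  generalize δ * δ' * β * (δ' * δ) = β₂ at *
  generalize β - β₂ = β₁ at *
  have e : β₁ * α₁ - α₁ * β₁ = -δ := by rw [p1.1, p2.1, ← hδe, neg_sub]
  obtain ⟨α', j1, j2⟩ := (dE_le_comm hk2 hk3 m2 m1 (case1_symm hk2 hk3 m1.inL m2 q1)
    (by rw [e, neg_ne_zero]; exact h0)).2 (by rwa [e, dE_neg]) (-β₂) (by rw [e]; exact i2.neg.neg_left)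
  have c3 := cj_comm _ (Esub_le_G0 m1 (un_mem_Esub m1.inL.1 j1)) (case1_triple hk2 hk3 m1 m2 q1 j1 j1 (InE.refl m2.inL))
  have c4 := cj_comm _ m1.un_mem q1
  rw [← neg_sub, j2, neg_neg, ← hb] at c3
  rw [← neg_sub, e, neg_neg, add_comm] at c4
  exact c2.trans (c4.symm.trans c3)

theorem comm_surj (hU : NoU G) (hα : MinEl G α) (hβ : MinEl G β) (h : α * β * α = 0) (h0 : α * β - β * α ≠ 0)
    (hδ : InE G (α * β - β * α) δ) : ∃ β', InE G β β' ∧ α * β' - β' * α = δ :=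
  (dE_le_comm hk2 hk3 hα hβ h h0).2 ((comm_conj hk2 hk3 hU hα hβ h h0).dE_le
    (case1_facts hα hβ h (case1_symm hk2 hk3 hα.inL hβ h) h0).1.inL) _ hδ

theorem comm_val (hα : MinEl G α) (hβ : MinEl G β) (h : α * β * α = 0) {a b : GLM k M} (ha : a ∈ Esub G α)
    (hb : b ∈ Esub G β) : ((a * b * a⁻¹ * b⁻¹ : GLM k M) : Module.End k M) - 1 =
      (a.1 - 1) * (b.1 - 1) - (b.1 - 1) * (a.1 - 1) := by
  rw [mem_Esub hα.inL.1] at ha
  rw [mem_Esub hβ.inL.1] at hb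
  rw [comm_eq ha.inL.1 hb.inL.1 (case1_triple hk2 hk3 hα hβ h ha ha hb)
    (case1_triple hk2 hk3 hβ hα (case1_symm hk2 hk3 hα.inL hβ h) hb hb ha) (val_eq a) (val_eq b)]
  simp

theorem commutator_le (hα : MinEl G α) (hβ : MinEl G β) (h : α * β * α = 0) (h0 : α * β - β * α ≠ 0) :
    ⁅Esub G α, Esub G β⁆ ≤ Esub G (α * β - β * α) := by
  rw [Subgroup.commutator_le]
  intro a ha b hb
  rw [mem_Esub (case1_facts hα hβ h (case1_symm hk2 hk3 hα.inL hβ h) h0).1.inL.1, commutatorElement_def,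
    comm_val hk2 hk3 hα hβ h ha hb]
  exact (comm_inE hk2 hk3 hα hβ h h0 ((mem_Esub hα.inL.1).1 ha) ((mem_Esub hβ.inL.1).1 hb)).1

theorem commute_of_comm (hα : MinEl G α) (hβ : MinEl G β) {a b : GLM k M} (ha : a ∈ Esub G α) (hb : b ∈ Esub G β)
    (ha1 : a ≠ 1) (hb1 : b ≠ 1) (e : a * b = b * a) : ⁅Esub G α, Esub G β⁆ = ⊥ := by
  have ha' := (mem_Esub hα.inL.1).1 ha
  have hb' := (mem_Esub hβ.inL.1).1 hb
  have a0 := sub_ne_zero_iff.2 ha1
  have b0 := sub_ne_zero_iff.2 hb1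
  have e1 : (a.1 - 1) * (b.1 - 1) - (b.1 - 1) * (a.1 - 1) = 0 := by
    have := congrArg Units.val e
    rw [Units.val_mul, Units.val_mul, ← sub_eq_zero] at this
    rw [← this]; noncomm_ring
  have h : α * β * α = 0 := by
    by_contra hc
    apply opp_indep hk2 hk3 hα hβ hc ha' hb' a0 b0
    rw [sub_eq_zero.1 e1, mul_assoc, ha'.inL.1, mul_zero]
  rw [commutator_eq_bot_iff]
  intro x hx y hy
  have := comm_val hk2 hk3 hα hβ h hx hy
  have hx' := (mem_Esub hα.inL.1).1 hx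
  have hy' := (mem_Esub hβ.inL.1).1 hy
  by_contra hc
  have h0 : (x.1 - 1) * (y.1 - 1) - (y.1 - 1) * (x.1 - 1) ≠ 0 := by
    rw [← this, sub_ne_zero_iff]
    intro e; apply hc
    rw [mul_inv_eq_one, mul_inv_eq_iff_eq_mul] at e; exact e
  obtain ⟨x1, x2⟩ := hx'.symm hα (fun e => h0 (by simp [e]))
  obtain ⟨y1, y2⟩ := hy'.symm hβ (fun e => h0 (by simp [e]))
  exact ((comm_inE hk2 hk3 x1 y1 (case1_triple hk2 hk3 hα hβ h hx' hx' hy') h0 (x2.trans ha') (y2.trans hb')).2 e1).elim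
    a0 b0

theorem closure_comm (hU : NoU G) (hα : MinEl G α) (hβ : MinEl G β) (h : α * β * α = 0) (h0 : α * β - β * α ≠ 0)
    {a : GLM k M} (ha : a ∈ Esub G α) (ha1 : a ≠ 1) :
    Esub G (α * β - β * α) ≤ Subgroup.closure ((fun b : GLM k M => a * b * a⁻¹ * b⁻¹) '' (Esub G β : Set (GLM k M))) := by
  intro x hx
  have hδ := (case1_facts hα hβ h (case1_symm hk2 hk3 hα.inL hβ h) h0).1
  rw [mem_Esub hδ.inL.1] at hx
  have ha' := (mem_Esub hα.inL.1).1 ha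
  have a0 := sub_ne_zero_iff.2 ha1
  obtain ⟨i1, i2⟩ := comm_inE hk2 hk3 hα hβ h h0 ha' (InE.refl hβ.inL)
  have i3 : _ ≠ _ := fun e => (i2 e).elim a0 hβ.ne
  obtain ⟨β', j1, j2⟩ := comm_surj hk2 hk3 hU (ha'.symm hα a0).1 hβ
    (case1_triple hk2 hk3 hα hβ h ha' ha' (InE.refl hβ.inL)) i3 ((i1.symm hδ i3).2.trans hx)
  refine Subgroup.subset_closure ⟨_, un_mem_Esub hβ.inL.1 j1, Units.ext (sub_left_injective (b := 1) ?_)⟩
  exact (comm_val hk2 hk3 hα hβ h ha (un_mem_Esub hβ.inL.1 j1)).trans (by rw [un_sub, j2])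

theorem commutator_eq (hU : NoU G) (hα : MinEl G α) (hβ : MinEl G β) (h : α * β * α = 0) (h0 : α * β - β * α ≠ 0) :
    ⁅Esub G α, Esub G β⁆ = Esub G (α * β - β * α) := by
  have ha := un_mem_Esub hα.inL.1 (InE.refl hα.inL)
  refine le_antisymm (commutator_le hk2 hk3 hα hβ h h0) ((closure_comm hk2 hk3 hU hα hβ h h0 ha
    (sub_ne_zero_iff.1 (by rw [un_sub]; exact hα.ne))).trans ((Subgroup.closure_le _).2 ?_))
  rintro _ ⟨b, hb, rfl⟩
  exact comm_mem ha hb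

theorem sup_flag (hα : MinEl G α) (hβ : MinEl G β) (h : α * β * α = 0) (h0 : α * β - β * α ≠ 0) :
    ∀ g ∈ Esub G α ⊔ Esub G β, (g : Module.End k M) - 1 ∈
      flagJ (LinearMap.ker (α * β - β * α)) (LinearMap.range (α * β - β * α)) :=
  unip_of_flag (fun _ hg => mem_flag hk2 hk3 hα hβ h h0 ((mem_Esub hα.inL.1).1 hg))
    (fun _ hg => mem_flag' hk2 hk3 hα hβ h h0 ((mem_Esub hβ.inL.1).1 hg))

omit [FiniteDimensional k M] hk2 hk3 in
theorem commute_of_flag (hδ : δ * δ = 0) {g c : GLM k M}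
    (hg : (g : Module.End k M) - 1 ∈ flagJ (LinearMap.ker δ) (LinearMap.range δ)) (hc : c ∈ Esub G δ) : c * g = g * c := by
  rw [mem_Esub hδ] at hc
  ext1
  have e1 : (c.1 - 1) * (g.1 - 1) = 0 := hc.right (LinearMap.ext hg.1)
  have e2 : (g.1 - 1) * (c.1 - 1) = 0 := hc.left (LinearMap.ext fun v => hg.2.2 _ ⟨v, rfl⟩)
  rw [Units.val_mul, Units.val_mul, ← sub_eq_zero, ← sub_zero (0 : Module.End k M)]
  conv_rhs => rw [← e1]; congr; rfl; rw [e1, ← e2]
  noncomm_ring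

theorem cc_of_case1 (hU : NoU G) (hα : MinEl G α) (hβ : MinEl G β) (h : α * β * α = 0) (h0 : α * β - β * α ≠ 0) :
    RootCommutatorCase (quadraticRootSubgroups G) (Esub G α) (Esub G β) := by
  have h' := case1_symm hk2 hk3 hα.inL hβ h
  have h0' : β * α - α * β ≠ 0 := fun e => h0 (by rw [← neg_sub, e, neg_zero])
  have hδ := (case1_facts hα hβ h h' h0).1
  have e := commutator_eq hk2 hk3 hU hα hβ h h0
  refine ⟨mem_Sigma.2 ⟨_, hδ, e⟩, fun c hc x hx => commute_of_flag hδ.inL.1 (sup_flag hk2 hk3 hα hβ h h0 x hx) (e ▸ hc),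
    fun a ha ha1 => le_antisymm ((Subgroup.closure_le _).2 ?_) (e ▸ closure_comm hk2 hk3 hU hα hβ h h0 ha ha1),
    fun b hb hb1 => le_antisymm ((Subgroup.closure_le _).2 ?_) ?_⟩
  · rintro _ ⟨b, hb, rfl⟩
    exact comm_mem ha hb
  · rintro _ ⟨a, ha, rfl⟩
    exact comm_mem ha hb
  · rw [Subgroup.commutator_comm, commutator_eq hk2 hk3 hU hβ hα h' h0']
    refine (closure_comm hk2 hk3 hU hβ hα h' h0' hb hb1).trans ((Subgroup.closure_le _).2 ?_)
    rintro _ ⟨a, ha, rfl⟩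
    have := inv_mem (Subgroup.subset_closure (k := (fun a : GLM k M => a * b * a⁻¹ * b⁻¹) '' (Esub G α : Set (GLM k M)))
      ⟨a, ha, rfl⟩)
    simpa [mul_assoc] using this

theorem commute_of_zero (hα : MinEl G α) (hβ : MinEl G β) (h0 : α * β - β * α = 0) : ⁅Esub G α, Esub G β⁆ = ⊥ := by
  refine commute_of_comm hk2 hk3 hα hβ (un_mem_Esub hα.inL.1 (InE.refl hα.inL)) (un_mem_Esub hβ.inL.1 (InE.refl hβ.inL))
    (sub_ne_zero_iff.1 (by rw [un_sub]; exact hα.ne)) (sub_ne_zero_iff.1 (by rw [un_sub]; exact hβ.ne)) (Units.ext ?_)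
  rw [Units.val_mul, Units.val_mul, un_val, un_val, ← sub_eq_zero, ← h0]; noncomm_ring

end Q

end H12
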