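import Mathlib
import Cfsg.Agent.H12.RootSub2

/-!
Sets of abstract root subgroups inside the subgroup they generate: `RelRoot` (ambient version), `RelRoot.isRoot`
(passage to `subgroupOf`), `quasisimple_of` (ambient criterion for quasisimplicity of a subgroup).
-/

set_option autoImplicit false

namespace H12

open Cfsg Subgroup
open scoped commutatorElement

variable {G : Type*} [Group G]

theorem map_subgroupOf_subtype {A X : Subgroup G} (h : A ≤ X) : (A.subgroupOf X).map X.subtype = A := by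
  rw [subgroupOf_map_subtype, inf_eq_left.2 h]

theorem subgroupOf_eq_iff {A X : Subgroup G} (h : A ≤ X) {B : Subgroup X} : B = A.subgroupOf X ↔ B.map X.subtype = A := by
  rw [← (map_injective X.subtype_injective).eq_iff, map_subgroupOf_subtype h]

theorem commutator_subgroupOf {A B X : Subgroup G} (hA : A ≤ X) (hB : B ≤ X) :
    ⁅A.subgroupOf X, B.subgroupOf X⁆ = ⁅A, B⁆.subgroupOf X := by
  rw [subgroupOf_eq_iff ((commutator_le_sup A B).trans (sup_le hA hB)), map_commutator, map_subgroupOf_subtype hA,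
    map_subgroupOf_subtype hB]

theorem conjBy_subgroupOf {A X : Subgroup G} (g : X) : conjBy (A.subgroupOf X) g = (conjBy A g).subgroupOf X := by
  ext x
  rw [mem_conjBy, mem_subgroupOf, mem_subgroupOf, mem_conjBy]; rfl

theorem cc_subgroupOf {S : Set (Subgroup G)} {A B X : Subgroup G} (hA : A ≤ X) (hB : B ≤ X)
    (h : RootCommutatorCase S A B) :
    RootCommutatorCase ((fun A : Subgroup G => A.subgroupOf X) '' S) (A.subgroupOf X) (B.subgroupOf X) := by
  have hle := (commutator_le_sup A B).trans (sup_le hA hB)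
  rw [RootCommutatorCase, commutator_subgroupOf hA hB]
  refine ⟨⟨_, h.1, rfl⟩, fun c hc x hx => Subtype.ext (h.2.1 c hc x ?_), fun a ha ha1 => ?_, fun b hb hb1 => ?_⟩
  · rwa [← subgroupOf_sup hA hB] at hx
  · rw [subgroupOf_eq_iff hle, ← h.2.2.1 a ha (fun e => ha1 (Subtype.ext e)), MonoidHom.map_closure, Set.image_image]
    congr 1
    ext y
    exact ⟨fun ⟨b, hb, e⟩ => ⟨b, hb, e⟩, fun ⟨b, hb, e⟩ => ⟨⟨b, hB hb⟩, hb, e⟩⟩
  · rw [subgroupOf_eq_iff hle, ← h.2.2.2 b hb (fun e => hb1 (Subtype.ext e)), MonoidHom.map_closure, Set.image_image]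
    congr 1
    ext y
    exact ⟨fun ⟨b, hb, e⟩ => ⟨b, hb, e⟩, fun ⟨b, hb, e⟩ => ⟨⟨b, hA hb⟩, hb, e⟩⟩

theorem cc_of_subgroupOf {S : Set (Subgroup G)} {A B X : Subgroup G} (hA : A ≤ X) (hB : B ≤ X) (hS : ∀ C ∈ S, C ≤ X)
    (h : RootCommutatorCase ((fun A : Subgroup G => A.subgroupOf X) '' S) (A.subgroupOf X) (B.subgroupOf X)) :
    ⁅A, B⁆ ∈ S := by
  obtain ⟨C, hC, e⟩ := h.1
  rw [commutator_subgroupOf hA hB, subgroupOf_eq_iff ((commutator_le_sup A B).trans (sup_le hA hB)),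
    map_subgroupOf_subtype (hS C hC)] at e
  exact e ▸ hC

/-- `S` is a set of abstract root subgroups of the subgroup it generates -/
structure RelRoot (S : Set (Subgroup G)) : Prop where
  comm : ∀ A ∈ S, IsMulCommutative A
  ne_bot : ∀ A ∈ S, A ≠ ⊥
  conj : ∀ A ∈ S, ∀ g ∈ ⨆ B ∈ S, B, conjBy A g ∈ S
  pair : ∀ A ∈ S, ∀ B ∈ S, ⁅A, B⁆ = ⊥ ∨ IsRankOnePair A B ∨ RootCommutatorCase S A B

theorem le_gen {S : Set (Subgroup G)} {A : Subgroup G} (hA : A ∈ S) : A ≤ ⨆ B ∈ S, B :=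
  le_iSup₂_of_le (f := fun A (_ : A ∈ S) => A) A hA le_rfl

theorem RelRoot.isRoot {S : Set (Subgroup G)} (h : RelRoot S) :
    IsRootSubgroupSet ((fun A : Subgroup G => A.subgroupOf (⨆ B ∈ S, B)) '' S) := by
  refine ⟨?_, ?_, ?_, ?_, ?_⟩
  · rintro _ ⟨A, hA, rfl⟩
    exact isMulCommutative_iff.2 fun a ha b hb => Subtype.ext (isMulCommutative_iff.1 (h.comm A hA) _ ha _ hb)
  · rintro _ ⟨A, hA, rfl⟩ e
    exact h.ne_bot A hA (by rw [← map_subgroupOf_subtype (le_gen hA)]; exact (congrArg _ e).trans (map_bot _))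
  · rw [← (map_injective (⨆ B ∈ S, B).subtype_injective).eq_iff, ← MonoidHom.range_eq_map, range_subtype]
    simp only [Subgroup.map_iSup, iSup_image]
    exact iSup_congr fun A => iSup_congr fun hA => map_subgroupOf_subtype (le_gen hA)
  · rintro _ ⟨A, hA, rfl⟩ g
    exact ⟨_, h.conj A hA g g.2, (conjBy_subgroupOf g).symm⟩
  · rintro _ ⟨A, hA, rfl⟩ _ ⟨B, hB, rfl⟩
    rcases h.pair A hA B hB with e | e | e
    · left; rw [commutator_subgroupOf (le_gen hA) (le_gen hB), e, bot_subgroupOf]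
    · exact Or.inr (Or.inl ((RO.subgroupOf_iff (le_gen hA) (le_gen hB)).2 e))
    · exact Or.inr (Or.inr (cc_subgroupOf (le_gen hA) (le_gen hB) e))

theorem isConjClass_subgroupOf {S : Set (Subgroup G)} {X : Subgroup G} (hne : S.Nonempty)
    (h : ∀ A ∈ S, ∀ B ∈ S, ∃ g ∈ X, B = conjBy A g) :
    IsConjClassOfSubgroups ((fun A : Subgroup G => A.subgroupOf X) '' S) := by
  refine ⟨hne.image _, ?_⟩
  rintro _ ⟨A, hA, rfl⟩ _ ⟨B, hB, rfl⟩
  obtain ⟨g, hg, rfl⟩ := h A hA B hB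
  exact ⟨⟨g, hg⟩, (conjBy_subgroupOf ⟨g, hg⟩).symm⟩

theorem quasisimple_of {X : Subgroup G} (hp : X ≤ ⁅X, X⁆) (hne : X ≠ ⊥)
    (hn : ∀ N ≤ X, (∀ g ∈ X, conjBy N g = N) → N ≤ centralizer (X : Set G) ∨ N = X) : IsQuasisimple X := by
  have hperf : _root_.commutator X = ⊤ := by
    rw [← (map_injective X.subtype_injective).eq_iff, map_subtype_commutator, ← MonoidHom.range_eq_map, range_subtype]
    exact le_antisymm ((commutator_le_sup X X).trans (sup_idem X).le) hp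
  refine ⟨⟨hperf⟩, ?_⟩
  have hnt : Nontrivial (X ⧸ center X) := by
    by_contra hc
    rw [not_nontrivial_iff_subsingleton, QuotientGroup.subsingleton_iff] at hc
    apply hne
    rw [eq_bot_iff]
    refine hp.trans (commutator_eq_bot_iff.2 fun a ha b hb => ?_).le
    exact congrArg Subtype.val (mem_center_iff.1 (hc ▸ mem_top (⟨b, hb⟩ : X)) ⟨a, ha⟩)
  refine ⟨fun M hM => ?_⟩
  have hM' : (M.comap (QuotientGroup.mk' (center X))).Normal := inferInstance
  rcases hn ((M.comap (QuotientGroup.mk' _)).map X.subtype) (map_subtype_le _) (fun g hg => by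
    have : ∀ g ∈ X, conjBy ((M.comap (QuotientGroup.mk' (center X))).map X.subtype) g ≤
        (M.comap (QuotientGroup.mk' (center X))).map X.subtype := by
      rintro g hg _ ⟨_, ⟨x, hx, rfl⟩, rfl⟩
      exact ⟨_, hM'.conj_mem x hx ⟨g, hg⟩, rfl⟩
    exact mem_normalizer_of_le (this g hg) (this _ (inv_mem hg))) with h | h
  · left
    rw [eq_bot_iff]
    intro x hx
    obtain ⟨x, rfl⟩ := QuotientGroup.mk'_surjective _ x
    refine (QuotientGroup.eq_one_iff x).2 (mem_center_iff.2 fun g => Subtype.ext ?_)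
    exact h ⟨x, hx, rfl⟩ g g.2
  · right
    rw [eq_top_iff]
    intro x _
    obtain ⟨x, rfl⟩ := QuotientGroup.mk'_surjective _ x
    obtain ⟨y, hy, e⟩ : (x : G) ∈ (M.comap (QuotientGroup.mk' (center X))).map X.subtype := h.symm ▸ x.2
    exact (Subtype.ext e : y = x) ▸ hy

theorem mem_sup_of_norm {A N : Subgroup G} (h : ∀ a ∈ A, ∀ n ∈ N, a * n * a⁻¹ ∈ N) {x : G} (hx : x ∈ A ⊔ N) :
    ∃ m ∈ N, ∃ a ∈ A, x = m * a := by
  refine sup_induction (p := fun x => ∃ m ∈ N, ∃ a ∈ A, x = m * a) ?_ ?_ ?_ hx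
  · exact fun a ha => ⟨1, one_mem _, a, ha, by simp⟩
  · exact fun b hb => ⟨b, hb, 1, one_mem _, by simp⟩
  · rintro _ _ - - ⟨m, hm, a, ha, rfl⟩ ⟨m', hm', a', ha', rfl⟩
    exact ⟨m * (a * m' * a⁻¹), mul_mem hm (h a ha m' hm'), a * a', mul_mem ha ha', by group⟩

theorem commutator_le_of_norm {A N : Subgroup G} (hA : ∀ a ∈ A, ∀ b ∈ A, a * b = b * a)
    (h : ∀ a ∈ A, ∀ n ∈ N, a * n * a⁻¹ ∈ N) : ⁅A ⊔ N, A ⊔ N⁆ ≤ N := by
  rw [commutator_le]
  intro x hx y hy
  obtain ⟨m, hm, a, ha, rfl⟩ := mem_sup_of_norm h hx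
  obtain ⟨m', hm', a', ha', rfl⟩ := mem_sup_of_norm h hy
  have : ⁅m * a, m' * a'⁆ = m * (a * m' * a⁻¹) * ((a * a' * a⁻¹) * m⁻¹ * a'⁻¹) * m'⁻¹ := by
    rw [commutatorElement_def]; group
  rw [this, hA a ha a' ha', mul_inv_cancel_right]
  exact mul_mem (mul_mem (mul_mem hm (h a ha m' hm')) (h a' ha' _ (inv_mem hm))) (inv_mem hm')

theorem conjBy_eq_of_le_sup {X Γ : Subgroup G} (h : Γ ≤ X ⊔ centralizer (X : Set G)) {A : Subgroup G} (hA : A ≤ X) {g : G}
    (hg : g ∈ Γ) : ∃ x ∈ X, conjBy A g = conjBy A x := by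
  obtain ⟨x, hx, c, hc, rfl⟩ := mem_sup_of_commute (le_centralizer_iff_commutator.1 le_rfl) (h hg)
  exact ⟨x, hx, by rw [conjBy_mul, conjBy_of_commute fun a ha => hc a (hA ha)]⟩

theorem normal_of_le_sup {X Γ : Subgroup G} (h : Γ ≤ X ⊔ centralizer (X : Set G)) {g : G} (hg : g ∈ Γ) :
    conjBy X g = X := by
  obtain ⟨x, hx, e⟩ := conjBy_eq_of_le_sup h le_rfl hg
  rw [e, conjBy_of_mem hx]

end H12
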