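import Mathlib
import Cfsg.Agent.H12.Quad4
import Cfsg.Agent.H12.RootRel

/-!
Quadratic pairs V: the set Σ of root subgroups: `Q.relRoot`, `Q.psl2_of_opp`, the classes `Q.Cls` and the decomposition
`Q.classes` of `G₀` into commuting quasisimple subgroups; `Q.cocentral` (G = G₀ C(G₀)); `Q.central_prod`.
-/

set_option autoImplicit false

namespace H12

open Cfsg Polynomial
open scoped MatrixGroups commutatorElement

namespace Q

variable {k : Type*} [Field k] {M : Type*} [AddCommGroup M] [Module k M]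
variable {G : Subgroup (GLM k M)} {α β γ δ : Module.End k M}

theorem fixed_Esub (h : InL G δ) : fixedSubmodule (Esub G δ) = LinearMap.ker δ := by
  refine le_antisymm (iInf₂_le_of_le _ (un_mem_Esub h.1 (InE.refl h)) ?_) (le_iInf₂ fun g hg => ((mem_Esub h.1).1 hg).ker)
  rw [un_sub]

theorem commSub_Esub (h : InL G δ) : commutatorSubmodule (Esub G δ) = LinearMap.range δ := by
  refine le_antisymm (iSup₂_le fun g hg => ((mem_Esub h.1).1 hg).rng)
    (le_iSup₂_of_le _ (un_mem_Esub h.1 (InE.refl h)) ?_)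
  rw [un_sub]

theorem mem_core (h : InL G δ) {g : GLM k M} (hg : g ∈ G)
    (hf : (g : Module.End k M) - 1 ∈ flagJ (LinearMap.ker δ) (LinearMap.range δ)) :
    g ∈ quadraticUnipotentCore G (Esub G δ) := by
  rw [quadraticUnipotentCore, fixed_Esub h, commSub_Esub h]
  exact ⟨hg, conjBy_eq_self_iff.1 (conjBy_of_commute fun a ha => commute_of_flag h.1 hf ha), hf.1, hf.2.1,
    fun v hv => sub_eq_zero.1 (hf.2.2 v hv)⟩

/-- the homomorphism from `SL₂(k)` given by a normalised pair -/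
def slHom (hα : α * α = 0) (hβ : β * β = 0) (h1 : α * β * α = α) (h2 : β * α * β = β) : SL(2, k) →* GLM k M :=
  ((Fhom k hα hβ h1 h2).comp (Matrix.SpecialLinearGroup.coeMonoidHom)).toHomUnits

theorem slHom_val (hα : α * α = 0) (hβ : β * β = 0) (h1 : α * β * α = α) (h2 : β * α * β = β) (g : SL(2, k)) :
    (slHom hα hβ h1 h2 g : Module.End k M) = Fhom k hα hβ h1 h2 g.1 := rfl

theorem slHom_up (hα : α * α = 0) (hβ : β * β = 0) (h1 : α * β * α = α) (h2 : β * α * β = β) (t : k) :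
    (slHom hα hβ h1 h2 (upSL t) : Module.End k M) - 1 = t • α := by
  rw [slHom_val, Fhom_apply]; simp [upSL]; abel

theorem slHom_lo (hα : α * α = 0) (hβ : β * β = 0) (h1 : α * β * α = α) (h2 : β * α * β = β) (t : k) :
    (slHom hα hβ h1 h2 (loSL t) : Module.End k M) - 1 = t • β := by
  rw [slHom_val, Fhom_apply]; simp [loSL]; abel

theorem slHom_inj (hα : α * α = 0) (hβ : β * β = 0) (h1 : α * β * α = α) (h2 : β * α * β = β) (h0 : α ≠ 0) :
    Function.Injective (slHom hα hβ h1 h2) := by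
  intro x y e
  have := (Fhom_eq_iff hα hβ h1 h2 x.1 y.1).1 (congrArg Units.val e)
  exact Subtype.ext (Matrix.ext fun i j => smul_left_injective k h0 (this i j))

theorem three_lt_card (hk2 : ringChar k ≠ 2) (hk3 : Nat.card k ≠ 3) : 3 < ENat.card k := by
  obtain ⟨u, h0, h1⟩ := exists_sq_ne_one hk2 hk3
  have h2 : (2 : k) ≠ 0 := Ring.two_ne_zero hk2
  have a1 : u ≠ 1 := fun e => h1 (by simp [e])
  have a2 : u ≠ -1 := fun e => h1 (by simp [e])
  have a3 : (1 : k) ≠ -1 := fun e => h2 (by linear_combination e)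
  have : ({u, 0, 1, -1} : Set k).encard = 4 := by
    rw [Set.encard_insert_of_notMem (by simp [h0, a1, a2]), Set.encard_insert_of_notMem (by simp),
      Set.encard_pair a3]; rfl
  rw [← Set.encard_univ]
  exact lt_of_lt_of_le (by rw [this]; decide) (Set.encard_le_encard (Set.subset_univ {u, 0, 1, -1}))

theorem zero_of_commute {Γ K : Subgroup (GLM k M)} (hΓ : IsIrreducibleFor Γ)
    (hK : Γ ≤ K ⊔ Subgroup.centralizer (K : Set (GLM k M))) {x : GLM k M} (hx : x ∈ K) (hx1 : x ≠ 1)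
    (hγ : ∀ g ∈ K, γ * g = g * γ) (h0 : γ * (x.1 - 1) = 0) : γ = 0 := by
  let W : Submodule k M := ⨅ φ ∈ {φ : Module.End k M | (∀ g ∈ K, φ * g = g * φ) ∧ φ * (x.1 - 1) = 0}, LinearMap.ker φ
  have hW : ∀ v, v ∈ W ↔ ∀ φ : Module.End k M, (∀ g ∈ K, φ * g = g * φ) → φ * (x.1 - 1) = 0 → φ v = 0 := by
    simp [W]
  refine (hΓ.2 W (fun g hg => ?_)).elim (fun h => ?_) (fun h => ?_)
  rotate_left
  · refine absurd (LinearMap.ext fun v => ?_) (sub_ne_zero_iff.2 hx1)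
    exact (Submodule.mem_bot k).1 (h ▸ (hW _).2 fun φ _ h => LinearMap.congr_fun h v)
  · exact LinearMap.ext fun v => (hW v).1 (h ▸ Submodule.mem_top) γ hγ h0
  · obtain ⟨a, ha, c, hc, rfl⟩ := mem_sup_of_commute (le_centralizer_iff_commutator.1 le_rfl) (hK hg)
    intro w hw
    rw [hW] at hw ⊢
    intro φ h1 h2
    have hc' : ∀ g ∈ K, g.1 * c.1 = c.1 * g.1 := fun g hg => congrArg Units.val (hc g hg)
    rw [← Module.End.mul_apply, Units.val_mul, ← mul_assoc, h1 a ha, mul_assoc, Module.End.mul_apply, hw, map_zero]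
    · intro g hg
      rw [mul_assoc, ← hc' g hg, ← mul_assoc, h1 g hg, mul_assoc]
    · rw [mul_assoc, mul_sub, ← hc' x hx, mul_one, ← sub_one_mul, ← mul_assoc, h2, zero_mul]

theorem un_comm_iff (hγ : γ * γ = 0) (g : GLM k M) : g * un γ hγ = un γ hγ * g ↔ γ * g = g * γ := by
  rw [← Units.val_inj, Units.val_mul, Units.val_mul, un_val, mul_add, add_mul, mul_one, one_mul, add_right_inj, eq_comm]

theorem comm_of_bot (hα : InL G α) (hβ : InL G β) (h : ⁅Esub G α, Esub G β⁆ = ⊥) : α * β = β * α := by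
  have := (un_comm_iff hβ.1 _).1 (commutator_eq_bot_iff.1 h _ (un_mem_Esub hα.1 (InE.refl hα)) _
    (un_mem_Esub hβ.1 (InE.refl hβ)))
  rw [un_val, mul_add, add_mul, mul_one, one_mul, add_right_inj] at this
  exact this.symm

variable [FiniteDimensional k M]

theorem NoU.family (hU : NoU G) {W : Set (Subgroup (GLM k M))} (hWG : ∀ A ∈ W, A ≤ G)
    (hWW : ∀ A ∈ W, ∀ B ∈ W, IsUnipotentOn (A ⊔ B)) (hc : ∀ A ∈ W, ∀ g ∈ G, conjBy A g ∈ W) : ∀ A ∈ W, A = ⊥ := by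
  intro A hA
  have := hU _ (iSup₂_le hWG) (Unip.iSup_of_pairwise hWG hWW hc) (fun x hx g hg => by
    have : conjBy (⨆ A ∈ W, A) x⁻¹ ≤ ⨆ A ∈ W, A := by
      simp only [conjBy, Subgroup.map_iSup]
      exact iSup₂_le fun A hA => le_gen (hc A hA _ (inv_mem hx))
    exact this (conj_mem_conjBy_inv hg x))
  exact eq_bot_iff.2 (this ▸ le_gen hA)

theorem unip_conj {U : Subgroup (GLM k M)} (h : IsUnipotentOn U) (g : GLM k M) : IsUnipotentOn (conjBy U g) := by
  refine Unip.of_fixed fun W hW hne => ?_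
  let e : M ≃ₗ[k] M := LinearMap.GeneralLinearGroup.toLinearEquiv g
  obtain ⟨v, hv⟩ : ∃ v, v ∉ W := by
    by_contra hc; push Not at hc; exact hne (eq_top_iff.2 fun v _ => hc v)
  have i1 : ∀ v, g.1 ((g⁻¹).1 v) = v := fun v => by rw [← Module.End.mul_apply, Units.mul_inv]; rfl
  have i2 : ∀ v, (g⁻¹).1 (g.1 v) = v := fun v => by rw [← Module.End.mul_apply, Units.inv_mul]; rfl
  obtain ⟨w, -, h1, h2⟩ := Unip.exists_fixed h (W := W.comap g.1) (W' := ⊤) le_top (fun _ _ _ _ => trivial)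
    (v := (g⁻¹).1 v) trivial (by rwa [Submodule.mem_comap, i1])
  refine ⟨g.1 w, h1, ?_⟩
  rintro _ ⟨x, hx, rfl⟩
  have := h2 x hx
  rw [Submodule.mem_comap, map_sub] at this
  simpa [i2] using this

theorem NoU.normal (hU : NoU G) {H : Subgroup (GLM k M)} (hH : H ≤ G) (hn : ∀ g ∈ G, conjBy H g = H) : NoU H := by
  intro U h1 h2 h3
  have a : ∀ g ∈ G, conjBy U g ≤ H := fun g hg => hn g hg ▸ conjBy_le_conjBy.2 h1
  refine hU.family (W := {A | ∃ g ∈ G, A = conjBy U g}) ?_ ?_ ?_ U ⟨1, one_mem _, by simp⟩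
  · rintro _ ⟨g, hg, rfl⟩
    exact (a g hg).trans hH
  · rintro _ ⟨g, hg, rfl⟩ _ ⟨g', hg', rfl⟩
    refine Unip.sup_of_normalizes (unip_conj h2 g) (unip_conj h2 g') fun x hx y hy => ?_
    rw [mem_conjBy] at hy ⊢
    have := h3 (g⁻¹ * x * g) (by rw [← mem_conjBy, hn g hg]; exact a g' hg' hx) _ hy
    simpa [mul_assoc] using this
  · rintro _ ⟨g, hg, rfl⟩ g' hg'
    exact ⟨g' * g, mul_mem hg' hg, conjBy_conjBy _ _ _⟩

theorem Cj.conj (hα : α * α = 0) (h : Cj G α β) : ∃ g ∈ G0 G, Esub G β = conjBy (Esub G α) g := by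
  obtain ⟨g, hg, rfl⟩ := h
  exact ⟨g, hg, (Esub_conj hα (G0_le hg)).symm⟩

theorem sigma_ne_bot {A : Subgroup (GLM k M)} (hA : A ∈ quadraticRootSubgroups G) : A ≠ ⊥ := by
  obtain ⟨α, hα, rfl⟩ := mem_Sigma.1 hA
  intro e
  have := un_mem_Esub hα.inL.1 (InE.refl hα.inL)
  rw [e, Subgroup.mem_bot] at this
  exact sub_ne_zero_iff.1 (by rw [un_sub]; exact hα.ne) this

theorem sigma_comm {A : Subgroup (GLM k M)} (hA : A ∈ quadraticRootSubgroups G) : IsMulCommutative A := by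
  obtain ⟨α, hα, rfl⟩ := mem_Sigma.1 hA
  exact isMulCommutative_iff.2 (Esub_comm hα.inL.1)

theorem sigma_le {A : Subgroup (GLM k M)} (hA : A ∈ quadraticRootSubgroups G) : A ≤ G0 G := G0_eq (G := G) ▸ le_gen hA

theorem sigma_quad {A : Subgroup (GLM k M)} (hA : A ∈ quadraticRootSubgroups G) {a : GLM k M} (ha : a ∈ A) (ha1 : a ≠ 1) :
    a ∈ quadraticElements G := by
  obtain ⟨α, hα, rfl⟩ := mem_Sigma.1 hA
  exact mem_quad_iff.2 ⟨((mem_Esub hα.inL.1).1 ha).inL, ha1⟩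

/-- the `G₀`-class of a root subgroup -/
def Cls (G A : Subgroup (GLM k M)) : Set (Subgroup (GLM k M)) := {B | ∃ g ∈ G0 G, B = conjBy A g}

omit [FiniteDimensional k M] in
theorem Cls.conj {A B : Subgroup (GLM k M)} (h : B ∈ Cls G A) {g : GLM k M} (hg : g ∈ G0 G) : conjBy B g ∈ Cls G A := by
  obtain ⟨x, hx, rfl⟩ := h
  exact ⟨g * x, mul_mem hg hx, conjBy_conjBy _ _ _⟩

omit [FiniteDimensional k M] in
theorem Cls.self (A : Subgroup (GLM k M)) : A ∈ Cls G A := ⟨1, one_mem _, by simp⟩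

omit [FiniteDimensional k M] in
theorem Cls.eq {A B : Subgroup (GLM k M)} (h : B ∈ Cls G A) : Cls G B = Cls G A := by
  obtain ⟨x, hx, rfl⟩ := h
  ext C
  constructor
  · rintro ⟨g, hg, rfl⟩
    exact ⟨g * x, mul_mem hg hx, conjBy_conjBy _ _ _⟩
  · rintro ⟨g, hg, rfl⟩
    exact ⟨g * x⁻¹, mul_mem hg (inv_mem hx), by rw [conjBy_conjBy]; simp⟩

theorem Cls.sub {A : Subgroup (GLM k M)} (hA : A ∈ quadraticRootSubgroups G) : Cls G A ⊆ quadraticRootSubgroups G := by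
  rintro _ ⟨g, hg, rfl⟩
  exact sigma_conj hA (G0_le hg)

variable (hk2 : ringChar k ≠ 2) (hk3 : Nat.card k ≠ 3)
include hk2 hk3

theorem exists_slHom (hα : MinEl G α) (hβ : MinEl G β) (h : α * β * α ≠ 0) {a : GLM k M} (ha : a ∈ Esub G α) :
    ∃ φ : SL(2, k) →* GLM k M, Function.Injective φ ∧ a ∈ φ.range ∧ (upperUnipotentSL2 k).map φ ≤ Esub G α ∧
      (lowerUnipotentSL2 k).map φ ≤ Esub G β := by
  have aux : ∀ {α'}, InE G α α' → α' ≠ 0 → ∃ φ : SL(2, k) →* GLM k M, Function.Injective φ ∧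
      (φ (upSL 1)).1 - 1 = α' ∧ (upperUnipotentSL2 k).map φ ≤ Esub G α ∧ (lowerUnipotentSL2 k).map φ ≤ Esub G β := by
    intro α' ha' h0
    obtain ⟨β', i1, i2, i3, i4⟩ := (exists_norm hk2 hk3 (ha'.symm hα h0).1 hβ.inL
      (opp_indep hk2 hk3 hα hβ h ha' (InE.refl hβ.inL) h0 hβ.ne)).1
    refine ⟨slHom ha'.inL.1 i1.inL.1 i3 i4, slHom_inj _ _ _ _ h0, by rw [slHom_up, one_smul], ?_, ?_⟩
    · rintro _ ⟨x, hx, rfl⟩
      obtain ⟨t, rfl⟩ := mem_upper_iff.1 hx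
      rw [mem_Esub hα.inL.1, slHom_up]; exact ha'.smul t
    · rintro _ ⟨x, hx, rfl⟩
      obtain ⟨t, rfl⟩ := mem_lower_iff.1 hx
      rw [mem_Esub hβ.inL.1, slHom_lo]; exact i1.smul t
  by_cases ha1 : a = 1
  · obtain ⟨φ, h1, -, h2⟩ := aux (InE.refl hα.inL) hα.ne
    exact ⟨φ, h1, ha1 ▸ one_mem _, h2⟩
  · obtain ⟨φ, h1, h2, h3⟩ := aux ((mem_Esub hα.inL.1).1 ha) (sub_ne_zero_iff.2 ha1)
    exact ⟨φ, h1, ⟨_, Units.ext (sub_left_injective h2)⟩, h3⟩

theorem psl2_of_opp (hα : MinEl G α) (hβ : MinEl G β) (h : α * β * α ≠ 0) :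
    ∃ A₀ B₀ : Subgroup (GLM k M), A₀ ≤ Esub G α ∧ B₀ ≤ Esub G β ∧ IsPSL2PairOver k A₀ B₀ := by
  obtain ⟨φ, h1, -, h2, h3⟩ := exists_slHom hk2 hk3 hα hβ h (one_mem _)
  refine ⟨_, _, h2, h3, φ, ?_, by rw [(MonoidHom.ker_eq_bot_iff φ).2 h1]; exact bot_le, rfl, rfl⟩
  rw [← Subgroup.map_sup, upper_sup_lower, MonoidHom.range_eq_map]

theorem le_comm_of_opp (hα : MinEl G α) (hβ : MinEl G β) (h : α * β * α ≠ 0) :
    Esub G α ≤ ⁅Esub G α ⊔ Esub G β, Esub G α ⊔ Esub G β⁆ := by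
  intro a ha
  obtain ⟨φ, -, h1, h2, h3⟩ := exists_slHom hk2 hk3 hα hβ h ha
  obtain ⟨u, hu0, hu⟩ := exists_sq_ne_one hk2 hk3
  have hp : commutator SL(2, k) = ⊤ := Matrix.SL2.commutator_eq_top (a := u) hu0 (by rwa [sq])
  have hle : (⊤ : Subgroup SL(2, k)).map φ ≤ Esub G α ⊔ Esub G β := by
    rw [← upper_sup_lower, Subgroup.map_sup]; exact sup_le_sup h2 h3
  rw [MonoidHom.range_eq_map, ← hp, commutator_def, Subgroup.map_commutator] at h1
  exact Subgroup.commutator_mono hle hle h1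

theorem opp_of_rankOne (hU : NoU G) (hα : MinEl G α) (hβ : MinEl G β) (h : IsRankOnePair (Esub G α) (Esub G β)) :
    α * β * α ≠ 0 := by
  intro e
  by_cases h0 : α * β - β * α = 0
  · exact RO.commutator_ne_bot h (commute_of_zero hk2 hk3 hα hβ h0)
  · exact CC.not_rankOne (cc_of_case1 hk2 hk3 hU hα hβ e h0) (isMulCommutative_iff.2 (Esub_comm hα.inL.1)) h

theorem sigma_pair (hU : NoU G) {A B : Subgroup (GLM k M)} (hA : A ∈ quadraticRootSubgroups G)
    (hB : B ∈ quadraticRootSubgroups G) : ⁅A, B⁆ = ⊥ ∨ (B ∈ Cls G A ∧ (IsRankOnePair A B ∨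
      (RootCommutatorCase (quadraticRootSubgroups G) A B ∧ ⁅A, B⁆ ∈ Cls G A))) := by
  obtain ⟨α, hα, rfl⟩ := mem_Sigma.1 hA
  obtain ⟨β, hβ, rfl⟩ := mem_Sigma.1 hB
  by_cases h : α * β * α = 0
  · by_cases h0 : α * β - β * α = 0
    · exact Or.inl (commute_of_zero hk2 hk3 hα hβ h0)
    · have h' := case1_symm hk2 hk3 hα.inL hβ h
      have h0' : β * α - α * β ≠ 0 := fun e => h0 (by rw [← neg_sub, e, neg_zero])
      have c1 : Esub G β ∈ Cls G ⁅Esub G α, Esub G β⁆ := by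
        rw [commutator_eq hk2 hk3 hU hα hβ h h0]
        exact (comm_conj hk2 hk3 hU hα hβ h h0).conj (case1_facts hα hβ h h' h0).1.inL.1
      have c2 : Esub G α ∈ Cls G ⁅Esub G α, Esub G β⁆ := by
        rw [Subgroup.commutator_comm, commutator_eq hk2 hk3 hU hβ hα h' h0']
        exact (comm_conj hk2 hk3 hU hβ hα h' h0').conj (case1_facts hβ hα h' h h0').1.inL.1
      rw [Cls.eq c2]
      exact Or.inr ⟨c1, Or.inr ⟨cc_of_case1 hk2 hk3 hU hα hβ h h0, Cls.self _⟩⟩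
  · have hr := (special_of_opp hk2 hk3 hα hβ h).1
    obtain ⟨n, hn, e, -⟩ := RO.exists_swap hr
    exact Or.inr ⟨⟨n, sup_le (Esub_le_G0 hα) (Esub_le_G0 hβ) hn, e.symm⟩, Or.inl hr⟩

theorem relRoot (hU : NoU G) : RelRoot (quadraticRootSubgroups G) := by
  refine ⟨fun _ => sigma_comm, fun _ => sigma_ne_bot, fun A hA g hg => sigma_conj hA (G0_le (G0_eq (G := G) ▸ hg)),
    fun A hA B hB => ?_⟩
  rcases sigma_pair hk2 hk3 hU hA hB with h | ⟨-, h | h⟩
  exacts [Or.inl h, Or.inr (Or.inl h), Or.inr (Or.inr h.1)]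

theorem cls_commute (hU : NoU G) {A B : Subgroup (GLM k M)} (hA : A ∈ quadraticRootSubgroups G)
    (hB : B ∈ quadraticRootSubgroups G) (h : B ∉ Cls G A) : B ≤ Subgroup.centralizer ((⨆ C ∈ Cls G A, C : Subgroup _) : Set _) := by
  rw [Subgroup.le_centralizer_iff]
  refine iSup₂_le fun C hC => le_centralizer_iff_commutator.2 (commutator_eq_bot_symm ?_)
  exact (sigma_pair hk2 hk3 hU (Cls.sub hA hC) hB).resolve_right fun e => h (Cls.eq hC ▸ e.1)

theorem G0_le_cls (hU : NoU G) {A : Subgroup (GLM k M)} (hA : A ∈ quadraticRootSubgroups G) :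
    G0 G ≤ (⨆ C ∈ Cls G A, C) ⊔ Subgroup.centralizer ((⨆ C ∈ Cls G A, C : Subgroup _) : Set _) := by
  rw [← G0_eq]
  refine iSup₂_le fun B hB => ?_
  by_cases h : B ∈ Cls G A
  · exact (le_gen h).trans le_sup_left
  · exact (cls_commute hk2 hk3 hU hA hB h).trans le_sup_right

theorem cls_class (hU : NoU G) {A : Subgroup (GLM k M)} (hA : A ∈ quadraticRootSubgroups G) :
    ∀ B ∈ Cls G A, ∀ C ∈ Cls G A, ∃ g ∈ ⨆ C ∈ Cls G A, C, C = conjBy B g := by
  intro B hB C hC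
  obtain ⟨g, hg, rfl⟩ : C ∈ Cls G B := Cls.eq hB ▸ hC
  exact conjBy_eq_of_le_sup (G0_le_cls hk2 hk3 hU hA) (le_gen hB) hg

theorem cls_opp (hU : NoU G) {A B : Subgroup (GLM k M)} (hA : A ∈ quadraticRootSubgroups G) (hB : B ∈ Cls G A) :
    ∃ α β, MinEl G α ∧ MinEl G β ∧ α * β * α ≠ 0 ∧ B = Esub G α ∧ Esub G β ∈ Cls G A := by
  obtain ⟨α, hα, rfl⟩ := mem_Sigma.1 (Cls.sub hA hB)
  obtain ⟨β, hβ, h⟩ := exists_opp hk2 hk3 hU hα
  refine ⟨α, β, hα, hβ, h, rfl, Cls.eq hB ▸ ?_⟩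
  exact ((sigma_pair hk2 hk3 hU (Cls.sub hA hB) (mem_Sigma.2 ⟨β, hβ, rfl⟩)).resolve_left
    (RO.commutator_ne_bot (special_of_opp hk2 hk3 hα hβ h).1)).1

theorem cls_quasisimple (hU : NoU G) {A : Subgroup (GLM k M)} (hA : A ∈ quadraticRootSubgroups G) :
    IsQuasisimple ↥(⨆ C ∈ Cls G A, C) := by
  set X := ⨆ C ∈ Cls G A, C with hX
  have hX0 : X ≤ G0 G := iSup₂_le fun C hC => sigma_le (Cls.sub hA hC)
  have hUX : NoU X := (hU.normal G0_le (fun g hg => by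
    have : ∀ g ∈ G, conjBy (G0 G) g ≤ G0 G := by
      rintro g hg _ ⟨x, hx, rfl⟩; exact G0_normal hg hx
    exact mem_normalizer_of_le (this g hg) (this _ (inv_mem hg)))).normal hX0
    fun g hg => normal_of_le_sup (G0_le_cls hk2 hk3 hU hA) hg
  refine quasisimple_of (iSup₂_le fun B hB => ?_) (fun e => sigma_ne_bot hA (eq_bot_iff.2 (e ▸ le_gen (Cls.self A))))
    fun N hN hn => ?_
  · obtain ⟨α, β, hα, hβ, h, rfl, h'⟩ := cls_opp hk2 hk3 hU hA hB
    have := sup_le (le_gen hB) (le_gen h')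
    exact (le_comm_of_opp hk2 hk3 hα hβ h).trans (Subgroup.commutator_mono this this)
  have hn' : ∀ g ∈ X, ∀ n ∈ N, g * n * g⁻¹ ∈ N := fun g hg n h => hn g hg ▸ conj_mem_conjBy h g
  by_cases hc : ∀ B ∈ Cls G A, ∀ n ∈ N, IsUnipotentOn (B ⊔ conjBy B n)
  · left
    have hV : ∀ B ∈ Cls G A, IsUnipotentOn (⨆ C ∈ {C | ∃ n ∈ N, C = conjBy B n}, C) := by
      intro B hB
      refine Unip.iSup_of_pairwise (G := B ⊔ N) ?_ ?_ ?_
      · rintro _ ⟨n, h, rfl⟩
        exact conjBy_le_of_le le_sup_left (Subgroup.mem_sup_right h)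
      · rintro _ ⟨n, h, rfl⟩ _ ⟨n', h', rfl⟩
        have := hc _ (Cls.conj hB (hX0 (hN h))) _ (mul_mem h' (inv_mem h))
        rwa [conjBy_conjBy, inv_mul_cancel_right] at this
      · rintro _ ⟨n, h, rfl⟩ g hg
        obtain ⟨m, hm, a, ha, rfl⟩ := mem_sup_of_norm (fun a ha => hn' a (le_gen hB ha)) hg
        refine ⟨m * (a * n * a⁻¹), mul_mem hm (hn' a (le_gen hB ha) n h), ?_⟩
        rw [conjBy_conjBy, show m * a * n = m * (a * n * a⁻¹) * a by group, conjBy_mul _ _ a, conjBy_of_mem ha]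
    have hV1 : ∀ B : Subgroup (GLM k M), ⁅B, N⁆ ≤ ⨆ C ∈ {C | ∃ n ∈ N, C = conjBy B n}, C := by
      intro B
      rw [Subgroup.commutator_le]
      intro b hb n h
      rw [show ⁅b, n⁆ = b * (n * b⁻¹ * n⁻¹) by rw [commutatorElement_def]; group]
      exact mul_mem (le_gen (S := {C | ∃ n ∈ N, C = conjBy B n}) ⟨1, one_mem _, (conjBy_one B).symm⟩ hb)
        (le_gen (S := {C | ∃ n ∈ N, C = conjBy B n}) ⟨n, h, rfl⟩ (conj_mem_conjBy (inv_mem hb) n))
    have hV2 : ∀ B ∈ Cls G A, ⁅B, N⁆ ≤ N := by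
      intro B hB
      rw [Subgroup.commutator_le]
      exact fun b hb n h => mul_mem (hn' b (le_gen hB hb) n h) (inv_mem h)
    have := hUX.family (W := {C | ∃ B ∈ Cls G A, C = ⁅B, N⁆}) (by
      rintro _ ⟨B, hB, rfl⟩; exact (hV2 B hB).trans hN) (by
      rintro _ ⟨B, hB, rfl⟩ _ ⟨B', hB', rfl⟩
      refine Unip.mono (Unip.sup_of_normalizes (hV B hB) (Unip.mono (hV B' hB') (hV1 B')) fun x hx g hg => ?_)
        (sup_le_sup_right (hV1 B) _)
      have : conjBy (⨆ C ∈ {C | ∃ n ∈ N, C = conjBy B n}, C) x⁻¹ ≤ ⨆ C ∈ {C | ∃ n ∈ N, C = conjBy B n}, C := by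
        simp only [conjBy, Subgroup.map_iSup]
        refine iSup₂_le ?_
        rintro _ ⟨n, h, rfl⟩
        exact le_gen (S := {C | ∃ n ∈ N, C = conjBy B n})
          ⟨_, mul_mem (inv_mem (hV2 B' hB' hx)) h, conjBy_conjBy _ _ _⟩
      exact this (conj_mem_conjBy_inv hg x)) (by
      rintro _ ⟨B, hB, rfl⟩ g hg
      exact ⟨_, Cls.conj hB (hX0 hg), by rw [conjBy_commutator, hn g hg]⟩)
    rw [Subgroup.le_centralizer_iff]
    exact iSup₂_le fun B hB => le_centralizer_iff_commutator.2 (commutator_eq_bot_symm (this _ ⟨B, hB, rfl⟩))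
  · right
    push Not at hc
    obtain ⟨B, hB, n, h, hu⟩ := hc
    obtain ⟨α, hα, rfl⟩ := mem_Sigma.1 (Cls.sub hA hB)
    have hnG := G0_le (hX0 (hN h))
    have hle : Esub G α ≤ N := by
      have h2 : Esub G α ⊔ conjBy (Esub G α) n ≤ Esub G α ⊔ N :=
        sup_le le_sup_left (conjBy_le_of_le le_sup_left (Subgroup.mem_sup_right h))
      refine le_trans ?_ ((Subgroup.commutator_mono h2 h2).trans
        (commutator_le_of_norm (Esub_comm hα.inL.1) fun a ha => hn' a (le_gen hB ha)))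
      rw [Esub_conj hα.inL.1 hnG] at hu ⊢
      exact le_comm_of_opp hk2 hk3 hα (hα.conj hnG) fun e => hu (unip_of_case1 hk2 hk3 hα (hα.conj hnG) e)
    refine le_antisymm hN (iSup₂_le fun C hC => ?_)
    obtain ⟨g, hg, rfl⟩ := cls_class hk2 hk3 hU hA _ hB C hC
    exact hn g hg ▸ conjBy_le_conjBy.2 hle

theorem cls_finite (hU : NoU G) : Finite {C // ∃ A ∈ quadraticRootSubgroups G, C = Cls G A} := by
  have : ∀ i : {C // ∃ A ∈ quadraticRootSubgroups G, C = Cls G A}, ∃ α β, MinEl G α ∧ MinEl G β ∧ α * β * α ≠ 0 ∧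
      i.1 = Cls G (Esub G α) ∧ i.1 = Cls G (Esub G β) := by
    rintro ⟨_, A, hA, rfl⟩
    obtain ⟨α, β, h1, h2, h3, rfl, h5⟩ := cls_opp hk2 hk3 hU hA (Cls.self A)
    exact ⟨α, β, h1, h2, h3, rfl, (Cls.eq h5).symm⟩
  choose α β h1 h2 h3 h4 h5 using this
  refine LinearIndependent.finite (R := k) (f := α) (linearIndependent_iff'.2 fun s c hs i hi => ?_)
  have := congrArg (LinearMap.mulRight k (β i) - LinearMap.mulLeft k (β i) : _ →ₗ[k] _) hs
  rw [map_sum, map_zero, Finset.sum_eq_single i (fun j _ hj => ?_) (fun h => absurd hi h), map_smul] at this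
  · refine (smul_eq_zero.1 this).resolve_right fun e => h3 i ?_
    rw [show α i * β i = β i * α i from sub_eq_zero.1 e, mul_assoc, (h1 i).inL.1, mul_zero]
  · rw [map_smul, smul_eq_zero]
    refine Or.inr (sub_eq_zero.2 (comm_of_bot (h1 j).inL (h2 i).inL ?_))
    refine (sigma_pair hk2 hk3 hU (mem_Sigma.2 ⟨_, h1 j, rfl⟩) (mem_Sigma.2 ⟨_, h2 i, rfl⟩)).resolve_right fun e => hj ?_
    exact Subtype.ext (by rw [h4, h5 i, Cls.eq e.1])

theorem classes (hU : NoU G) : ∃ (r : ℕ) (A : Fin r → Subgroup (GLM k M)), (∀ i, A i ∈ quadraticRootSubgroups G) ∧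
    (∀ B ∈ quadraticRootSubgroups G, ∃ i, B ∈ Cls G (A i)) ∧ ∀ i j, i ≠ j → Cls G (A i) ≠ Cls G (A j) := by
  have := cls_finite hk2 hk3 hU
  obtain ⟨r, ⟨e⟩⟩ := Finite.exists_equiv_fin {C // ∃ A ∈ quadraticRootSubgroups G, C = Cls G A}
  choose A h1 h2 using fun i => (e.symm i).2
  refine ⟨r, A, h1, fun B hB => ⟨e ⟨_, B, hB, rfl⟩, ?_⟩, fun i j hij h => hij (e.symm.injective (Subtype.ext ?_))⟩
  · rw [← h2, e.symm_apply_apply]; exact Cls.self B
  · rw [h2, h2, h]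

theorem cls_commute' (hU : NoU G) {A B : Subgroup (GLM k M)} (hA : A ∈ quadraticRootSubgroups G)
    (hB : B ∈ quadraticRootSubgroups G) (h : Cls G A ≠ Cls G B) : ⁅⨆ C ∈ Cls G A, C, ⨆ C ∈ Cls G B, C⁆ = ⊥ :=
  le_centralizer_iff_commutator.1 (iSup₂_le fun _ hC => cls_commute hk2 hk3 hU hA (Cls.sub hB hC)
    fun e => h (by rw [← Cls.eq e, Cls.eq hC]))

theorem cls_relRoot (hU : NoU G) {A : Subgroup (GLM k M)} (hA : A ∈ quadraticRootSubgroups G) : RelRoot (Cls G A) := by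
  have hX : (⨆ C ∈ Cls G A, C) ≤ G0 G := iSup₂_le fun C hC => sigma_le (Cls.sub hA hC)
  refine ⟨fun _ h => sigma_comm (Cls.sub hA h), fun _ h => sigma_ne_bot (Cls.sub hA h),
    fun B hB g hg => Cls.conj hB (hX hg), fun B hB C hC => ?_⟩
  rcases sigma_pair hk2 hk3 hU (Cls.sub hA hB) (Cls.sub hA hC) with h | ⟨-, h | h⟩
  exacts [Or.inl h, Or.inr (Or.inl h), Or.inr (Or.inr ⟨Cls.eq hB ▸ h.2, h.1.2⟩)]

theorem commute_of_no_opp (hU : NoU G) (hγ : InL G γ) (h : ∀ α, MinEl G α → α * γ * α = 0) (hδ : MinEl G δ) :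
    γ * δ = δ * γ := by
  have h2 : (2 : k) ≠ 0 := Ring.two_ne_zero hk2
  have J : ∀ {φ : Module.End k M}, (∀ α, MinEl G α → α * φ * α = 0) → ∀ g ∈ G, ∀ α, MinEl G α →
      α * ((g : Module.End k M) * φ * (g⁻¹ : GLM k M)) * α = 0 := by
    intro φ h g hg α hα
    have := congrArg (fun x => (g : Module.End k M) * x * (g⁻¹ : GLM k M)) (h _ (hα.conj (inv_mem hg)))
    simpa [mul_assoc] using this
  have Z : ∀ {φ : Module.End k M}, (∀ α, MinEl G α → α * φ * α = 0) → InL G φ → rk φ ≤ rk δ → φ = 0 := by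
    intro φ h h1 h2
    by_contra h0
    have hm := hδ.of_le h1 h0 h2
    obtain ⟨η, hη, ho⟩ := exists_opp hk2 hk3 hU hm
    exact opp_symm hk2 hk3 hm hη ho (h η hη)
  have a0 := h δ hδ
  have r1 : ∀ x, γ * (γ * x) = 0 := fun x => by rw [← mul_assoc, hγ.1, zero_mul]
  have r2 : ∀ x, δ * (δ * x) = 0 := fun x => by rw [← mul_assoc, hδ.inL.1, zero_mul]
  have r3 : ∀ x, δ * (γ * (δ * x)) = 0 := fun x => by rw [← mul_assoc, ← mul_assoc, a0, zero_mul]
  have r4 : δ * (γ * δ) = 0 := by rw [← mul_assoc, a0]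
  have c1 := hδ.inL.conj hγ.un_mem
  have c2 := hδ.inL.conj hγ.neg.un_mem
  rw [un_val, un_inv] at c1 c2
  have p : ∀ {x y : Module.End k M}, InL G x → InL G y → x * y = 0 → y * x = 0 → ∀ {z}, (2 : k) • z = x - y →
      InL G z := by
    intro x y hx hy e1 e2 z e
    have := (hx.sub hy e1 e2).smul 2⁻¹
    rwa [← e, inv_smul_smul₀ h2] at this
  have hκ : InL G (γ * δ - δ * γ) := p c1 c2
    (by simp only [mul_add, add_mul, mul_sub, sub_mul, mul_neg, neg_mul, mul_assoc, r1, r2, r3, r4, hγ.1, hδ.inL.1,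
      mul_one, one_mul, mul_zero, zero_mul]; simp)
    (by simp only [mul_add, add_mul, mul_sub, sub_mul, mul_neg, neg_mul, mul_assoc, r1, r2, r3, r4, hγ.1, hδ.inL.1,
      mul_one, one_mul, mul_zero, zero_mul]; simp) (by rw [two_smul]; noncomm_ring)
  have hε : InL G (γ * δ * γ) := by
    have := (hδ.inL.add hκ (by simp only [mul_sub, mul_assoc, r2, r4, sub_zero])
      (by simp only [sub_mul, mul_assoc, hδ.inL.1, r4, mul_zero, sub_zero])).sub c1
      (by simp only [mul_add, add_mul, mul_sub, sub_mul, mul_assoc, r1, r2, r3, r4, hγ.1, hδ.inL.1,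
        mul_one, one_mul, mul_zero, zero_mul]; simp)
      (by simp only [mul_add, add_mul, mul_sub, sub_mul, mul_assoc, r1, r2, r3, r4, hγ.1, hδ.inL.1,
        mul_one, one_mul, mul_zero, zero_mul]; simp)
    convert this using 1; noncomm_ring
  have jκ : ∀ α, MinEl G α → α * (γ * δ - δ * γ) * α = 0 := fun α hα => by
    have := J h _ hδ.inL.un_mem α hα
    rw [un_val, un_inv, show (1 + δ) * γ * (1 - δ) = γ - (γ * δ - δ * γ) - δ * γ * δ by noncomm_ring, a0, sub_zero,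
      mul_sub, sub_mul, h α hα, zero_sub, neg_eq_zero] at this
    exact this
  have ε0 : γ * δ * γ = 0 := by
    refine Z (fun α hα => ?_) hε ((rk_mul_le_left _ _).trans (rk_mul_le_right _ _))
    have := J h _ hκ.un_mem α hα
    have e : (1 + (γ * δ - δ * γ)) * γ * (1 - (γ * δ - δ * γ)) = γ + (2 : k) • (γ * δ * γ) := by
      simp only [mul_add, add_mul, mul_sub, sub_mul, mul_assoc, r1, r2, r3, r4, hγ.1, hδ.inL.1,
        mul_one, one_mul, mul_zero, zero_mul]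
      module
    rw [un_val, un_inv, e, mul_add, add_mul, h α hα, zero_add, mul_smul_comm, smul_mul_assoc, smul_eq_zero] at this
    exact this.resolve_left h2
  refine sub_eq_zero.1 (Z jκ hκ ?_)
  rw [sub_eq_add_neg]
  exact (rk_add_le _ _).trans (by rw [rk_neg]; exact rk_split ε0)

theorem mem_cent_of_no_opp (hU : NoU G) (hγ : InL G γ) (h : ∀ α, MinEl G α → α * γ * α = 0) :
    un γ hγ.1 ∈ Subgroup.centralizer (G0 G : Set (GLM k M)) := by
  rw [← Subgroup.zpowers_le, Subgroup.le_centralizer_iff, G0, Subgroup.closure_le]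
  intro g hg
  rw [SetLike.mem_coe, ← Subgroup.zpowers_le, Subgroup.le_centralizer_iff, Subgroup.zpowers_le, Subgroup.mem_centralizer_iff]
  rintro _ ⟨n, rfl⟩
  refine (Commute.zpow_left ((un_comm_iff hγ.1 g).2 ?_) n)
  have := commute_of_no_opp hk2 hk3 hU hγ h hg
  rwa [mul_sub, sub_mul, mul_one, one_mul, sub_left_inj] at this

theorem quad_induction (hU : NoU G) {p : GLM k M → Prop}
    (h0 : ∀ γ (h : InL G γ), un γ h.1 ∈ Subgroup.centralizer (G0 G : Set (GLM k M)) → p (un γ h.1))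
    (h1 : ∀ γ₁ γ₀ (h1 : MinEl G γ₁) (h0 : InL G γ₀), γ₀ * γ₁ = 0 → p (un γ₀ h0.1) → p (un γ₁ h1.inL.1 * un γ₀ h0.1))
    (hγ : InL G γ) : p (un γ hγ.1) := by
  induction hn : rk γ using Nat.strong_induction_on generalizing γ with | _ n ih =>
  by_cases h : ∀ α, MinEl G α → α * γ * α = 0
  · exact h0 γ hγ (mem_cent_of_no_opp hk2 hk3 hU hγ h)
  · push Not at h
    obtain ⟨α, hα, h⟩ := h
    obtain ⟨γ₁, i1, i2, i3, i4, i5⟩ := (exists_norm hk2 hk3 hα hγ h).2
    have := h1 _ _ i1 i2 i4 (ih _ (hn ▸ i5) i2 rfl)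
    convert this using 1
    ext1
    rw [Units.val_mul, un_val, un_val, un_val, add_mul, mul_add, mul_add, i3]; simp; abel

theorem cocentral (hU : NoU G) (hg : Subgroup.closure (quadraticElements G) = G) :
    G ≤ G0 G ⊔ Subgroup.closure (quadraticElements G ∩ Subgroup.centralizer (G0 G : Set (GLM k M))) := by
  conv_lhs => rw [← hg]
  rw [Subgroup.closure_le]
  intro σ hσ
  have h := (mem_quad_iff.1 hσ).1
  rw [show σ = un _ h.1 from Units.ext (val_eq σ)]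
  refine quad_induction hk2 hk3 hU (p := fun x => x ∈ G0 G ⊔ Subgroup.closure (quadraticElements G ∩
    Subgroup.centralizer (G0 G : Set (GLM k M)))) (fun γ hγ hc => Subgroup.mem_sup_right ?_)
    (fun γ₁ γ₀ h1 h0 _ ih => mul_mem (Subgroup.mem_sup_left h1.un_mem) ih) h
  by_cases e : γ = 0
  · exact (show un γ hγ.1 = 1 from Units.ext (by simp [e])) ▸ one_mem _
  · exact Subgroup.subset_closure ⟨un_mem_quad hγ e, hc⟩

theorem central_prod {Γ : Subgroup (GLM k M)} (hΓ : IsIrreducibleFor Γ) (n : ℕ) : ∀ {G : Subgroup (GLM k M)}, G ≤ Γ →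
    Module.finrank k (Submodule.span k {γ | InL G γ}) = n → Γ ≤ G ⊔ Subgroup.centralizer (G : Set (GLM k M)) →
    Subgroup.closure (quadraticElements G) = G →
    ∃ (ι : Type) (_ : Finite ι) (Gi : ι → Subgroup (GLM k M)), (∀ i j, i ≠ j → ⁅Gi i, Gi j⁆ = ⊥) ∧ (⨆ i, Gi i) = G ∧
      (∀ i, IsQuasisimple ↥(Gi i) ∧ Subgroup.closure (quadraticElements G ∩ (Gi i : Set (GLM k M))) = Gi i) ∧
      ∀ σ ∈ quadraticElements G, ∃ i, σ ∈ Gi i := by
  induction n using Nat.strong_induction_on with | _ n ih =>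
  intro G hG hn hc hg
  by_cases hq : quadraticElements G = ∅
  · refine ⟨Empty, inferInstance, fun i => i.elim, fun i => i.elim, ?_, fun i => i.elim, by simp [hq]⟩
    rw [← hg, hq]; simp
  have hU : NoU G := (noU_of_irr hΓ).normal hG fun g h => normal_of_le_sup hc h
  obtain ⟨r, A, a1, a2, a3⟩ := classes hk2 hk3 hU
  set H := Subgroup.closure (quadraticElements G ∩ Subgroup.centralizer (G0 G : Set (GLM k M))) with hH
  have hHG : H ≤ G := (Subgroup.closure_le _).2 fun x hx => hx.1.1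
  have hHC : H ≤ Subgroup.centralizer (G0 G : Set (GLM k M)) := (Subgroup.closure_le _).2 fun x hx => hx.2
  have hco := cocentral hk2 hk3 hU hg
  have hQ : ∀ σ ∈ quadraticElements G, σ ∈ Subgroup.centralizer (G0 G : Set (GLM k M)) → σ ∈ quadraticElements H := by
    intro σ h1 h2
    rw [mem_quad_iff] at h1 ⊢
    refine ⟨⟨h1.1.1, fun c => ⟨_, ?_, un_val (h1.1.smul c).1⟩⟩, h1.2⟩
    by_cases e : c • (σ.1 - 1) = 0
    · rw [show un _ (h1.1.smul c).1 = 1 from Units.ext (by simp [e])]; exact one_mem _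
    · refine Subgroup.subset_closure ⟨un_mem_quad (h1.1.smul c) e, fun g hg => (un_comm_iff _ g).2 ?_⟩
      rw [smul_mul_assoc, mul_smul_comm, sub_mul, mul_sub, ← Units.val_mul, ← h2 g hg]; simp
  have hQ' : quadraticElements H ⊆ quadraticElements G := fun σ h => by
    rw [mem_quad_iff] at h ⊢; exact ⟨h.1.mono hHG, h.2⟩
  have hXle : ∀ i, (⨆ C ∈ Cls G (A i), C) ≤ G0 G := fun i => iSup₂_le fun C hC => sigma_le (Cls.sub (a1 i) hC)
  obtain ⟨ι, hι, Gi, b1, b2, b3, b4⟩ := ih _ (hn ▸ Submodule.finrank_lt_finrank_of_lt (lt_of_le_of_ne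
    (Submodule.span_mono fun γ (h : InL H γ) => h.mono hHG) (fun e => by
      obtain ⟨σ, hσ⟩ := Set.nonempty_iff_ne_empty.2 hq
      rw [mem_quad_iff] at hσ
      obtain ⟨α, hα, hm⟩ := (measure rk).wf.has_min {γ | InL G γ ∧ γ ≠ 0} ⟨_, hσ.1, sub_ne_zero_iff.2 hσ.2⟩
      have hα' : MinEl G α := ⟨hα.1, hα.2, fun β h1 h2 => not_lt.1 (hm β ⟨h1, h2⟩)⟩
      obtain ⟨β, hβ, ho⟩ := exists_opp hk2 hk3 hU hα'
      have : α ∈ Submodule.span k {γ | InL H γ} := e ▸ Submodule.subset_span hα.1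
      have : α ∈ LinearMap.ker (LinearMap.mulRight k β - LinearMap.mulLeft k β : _ →ₗ[k] _) := by
        refine Submodule.span_le.2 (fun γ (hγ : InL H γ) => sub_eq_zero.2 ?_) this
        have := (un_comm_iff hγ.1 _).1 (hHC hγ.un_mem _ hβ.un_mem)
        rwa [un_val, mul_add, add_mul, mul_one, one_mul, add_right_inj] at this
      exact ho (by rw [show α * β = β * α from sub_eq_zero.1 this, mul_assoc, hα.1.1, mul_zero])))) (hHG.trans hG) rfl
    (hc.trans (sup_le (hco.trans (sup_le (le_sup_of_le_right (Subgroup.le_centralizer_iff.1 hHC)) le_sup_left))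
      (le_sup_of_le_right (Subgroup.centralizer_le hHG))))
    (le_antisymm ((Subgroup.closure_le _).2 fun x hx => hx.1) (Subgroup.closure_mono fun x hx => hQ x hx.1 hx.2))
  have hGi : ∀ i, Gi i ≤ H := fun i => b2 ▸ le_iSup Gi i
  refine ⟨Fin r ⊕ ι, inferInstance, Sum.elim (fun i => ⨆ C ∈ Cls G (A i), C) Gi, ?_, ?_, ?_, fun σ hσ => ?_⟩
  · rintro (i | i) (j | j) hij
    · exact cls_commute' hk2 hk3 hU (a1 i) (a1 j) (a3 i j fun e => hij (congrArg _ e))
    · exact commutator_eq_bot_mono (le_centralizer_iff_commutator.1 hHC) (hXle i) (hGi j)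
    · exact commutator_eq_bot_symm (commutator_eq_bot_mono (le_centralizer_iff_commutator.1 hHC) (hXle j) (hGi i))
    · exact b1 i j fun e => hij (congrArg _ e)
  · rw [iSup_sum]
    simp only [Sum.elim_inl, Sum.elim_inr, b2]
    refine le_antisymm (sup_le (iSup_le fun i => (hXle i).trans G0_le) hHG) (hco.trans (sup_le_sup_right ?_ _))
    rw [← G0_eq]
    refine iSup₂_le fun B hB => ?_
    obtain ⟨i, hi⟩ := a2 B hB
    exact le_iSup_of_le i (le_gen hi)
  · rintro (i | i)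
    · refine ⟨cls_quasisimple hk2 hk3 hU (a1 i), le_antisymm ((Subgroup.closure_le _).2 fun x hx => hx.2)
        (iSup₂_le fun C hC x hx => ?_)⟩
      by_cases e : x = 1
      · exact e ▸ one_mem _
      · exact Subgroup.subset_closure ⟨sigma_quad (Cls.sub (a1 i) hC) hx e, le_gen hC hx⟩
    · exact ⟨(b3 i).1, le_antisymm ((Subgroup.closure_le _).2 fun x hx => hx.2)
        ((b3 i).2.ge.trans (Subgroup.closure_mono fun x hx => ⟨hQ' hx.1, hx.2⟩))⟩
  · have h := (mem_quad_iff.1 hσ).1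
    have := quad_induction hk2 hk3 hU (p := fun x => (∃ i, x ∈ ⨆ C ∈ Cls G (A i), C) ∨
      x ∈ Subgroup.centralizer (G0 G : Set (GLM k M))) (fun γ hγ hc => Or.inr hc) (fun γ₁ γ₀ h1 h0 e ih => ?_) h
    · rw [← show σ = un _ h.1 from Units.ext (val_eq σ)] at this
      rcases this with ⟨i, hi⟩ | hi
      · exact ⟨Sum.inl i, hi⟩
      · obtain ⟨i, hi⟩ := b4 σ (hQ σ hσ hi)
        exact ⟨Sum.inr i, hi⟩
    obtain ⟨i, hi⟩ := a2 _ (mem_Sigma.2 ⟨_, h1, rfl⟩)
    have m1 := le_gen hi (un_mem_Esub h1.inL.1 (InE.refl h1.inL))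
    refine Or.inl ⟨i, mul_mem m1 ?_⟩
    by_contra hne
    have m0 : un γ₀ h0.1 ∈ Subgroup.centralizer ((⨆ C ∈ Cls G (A i), C : Subgroup _) : Set (GLM k M)) := by
      rcases ih with ⟨j, hj⟩ | hj
      · exact le_centralizer_iff_commutator.2 (cls_commute' hk2 hk3 hU (a1 i) (a1 j) (a3 i j (by
          rintro rfl; exact hne hj))) hj
      · exact Subgroup.centralizer_le (hXle i) hj
    have := zero_of_commute hΓ (hc.trans (sup_le (hco.trans (sup_le (G0_le_cls hk2 hk3 hU (a1 i))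
      (le_sup_of_le_right (hHC.trans (Subgroup.centralizer_le (hXle i))))))
      (le_sup_of_le_right (Subgroup.centralizer_le ((hXle i).trans G0_le))))) m1
      (sub_ne_zero_iff.1 (by rw [un_sub]; exact h1.ne)) (γ := γ₀) (fun g hg => (un_comm_iff _ g).1 (m0 g hg))
      (by rw [un_sub, e])
    exact hne ((show un γ₀ h0.1 = 1 from Units.ext (by simp [this])) ▸ one_mem _)

end Q

end H12
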