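import Cfsg.Agent.H10.Kinds
import Cfsg.Agent.H10.UField

/-!
# The field data of the universal minimal non-`p`-nilpotent group
* `Dat q ζ σ K₀` : `(u, v) ↦ σ u * v mod K₀` is the universal `ζ`-invariant alternating map; `exists_dat`
* `exists_psi` : an irreducible module for an element of order `q` is the field
-/

namespace H12.Rd
open Polynomial

universe u
variable {K : Type u} [Field K] {p q : ℕ}

/-- the universal invariant alternating map -/
structure Dat (q : ℕ) (ζ : K) (σ : K →+* K) (K₀ : AddSubgroup K) : Prop where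
  prim : IsPrimitiveRoot ζ q
  gen : ∀ ξ : K, ξ ^ q = 1 → ξ ≠ 1 → ∀ S : Subring K, ξ ∈ S → S = ⊤
  alt : ∀ u, σ u * u ∈ K₀
  inv : ∀ c : K, c ^ q = 1 → ∀ u v, ((σ (c * u) * (c * v) : K) : K ⧸ K₀) = (σ u * v : K)
  univ : ∀ {A : Type u} [AddCommGroup A] (β : K →+ K →+ A), (∀ u, β u u = 0) → (∀ u v, β (ζ * u) (ζ * v) = β u v) →
    (∀ u v, β u v = β 1 (σ u * v)) ∧ ∀ x ∈ K₀, β 1 x = 0

theorem gen_of [Finite K] [hp : Fact p.Prime] [hq : Fact q.Prime] [CharP K p] (hK : Nat.card K = p ^ orderOf (p : ZMod q))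
    (ξ : K) (h : ξ ^ q = 1) (h1 : ξ ≠ 1) (S : Subring K) (hS : ξ ∈ S) : S = ⊤ := by
  have := Fintype.ofFinite S
  letI := (Finite.isField_of_domain S).toField
  obtain ⟨n, -, hn⟩ := FiniteField.card S p
  have o : orderOf (⟨ξ, hS⟩ : S) = q := orderOf_eq_prime (Subtype.ext h) fun e => h1 (congrArg Subtype.val e)
  have x0 : (⟨ξ, hS⟩ : S) ≠ 0 := fun e => by simp [show ξ = 0 from congrArg Subtype.val e, hq.out.ne_zero] at h
  have d := orderOf_dvd_of_pow_eq_one (FiniteField.pow_card_sub_one_eq_one _ x0)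
  rw [o, hn, ← ZMod.natCast_eq_zero_iff, Nat.cast_pred (pow_pos hp.out.pos _), sub_eq_zero, Nat.cast_pow,
    ← orderOf_dvd_iff_pow_eq_one] at d
  refine Subring.toAddSubgroup_injective (AddSubgroup.eq_top_of_le_card _ ?_)
  change _ ≤ Nat.card S
  rw [hK, Nat.card_eq_fintype_card, hn]
  exact Nat.pow_le_pow_right hp.out.pos (Nat.le_of_dvd n.pos d)

theorem exists_psi [Fact p.Prime] [Algebra (ZMod p) K] {ζ σ K₀} (h : Dat (K := K) q ζ σ K₀) (hq : q ≠ 0) {V : Type*} [AddCommGroup V]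
    [Module (ZMod p) V] (γ : Module.End (ZMod p) V) (h1 : γ ^ q = 1) {v : V} (hv : γ v ≠ v)
    (irr : ∀ W : Submodule (ZMod p) V, (∀ v ∈ W, γ v ∈ W) → W = ⊥ ∨ W = ⊤) :
    ∃ ξ : K, ξ ^ q = 1 ∧ ξ ≠ 1 ∧ ∃ ψ : V →ₗ[ZMod p] K, Function.Bijective ψ ∧ ∀ v, ψ (γ v) = ξ * ψ v := by
  let e : (ZMod p)[X] →ₗ[ZMod p] V := LinearMap.applyₗ v ∘ₗ (aeval γ).toLinearMap
  have ev : ∀ f, e f = aeval γ f v := fun _ => rfl
  have v0 : v ≠ 0 := by rintro rfl; simp at hv
  have es : e.range = ⊤ := (irr _ (by rintro _ ⟨f, rfl⟩; exact ⟨X * f, by simp [ev]⟩)).resolve_left fun h =>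
    v0 (by simpa [ev] using h.le ⟨1, rfl⟩)
  let I : Ideal (ZMod p)[X] :=
    { e.ker.toAddSubmonoid with smul_mem' := fun c f (h : aeval γ f v = 0) => show aeval γ (c * f) v = 0 by simp [h] }
  obtain ⟨f, hf⟩ := IsPrincipalIdealRing.principal I
  have m : ∀ g, e g = 0 ↔ f ∣ g := fun g => by rw [← Ideal.mem_span_singleton, Ideal.span, ← hf]; rfl
  have d : f.map (algebraMap _ K) ∣ X ^ q - C 1 := by
    convert Polynomial.map_dvd (algebraMap _ K) ((m (X ^ q - 1)).1 (by simp [ev, h1])); simp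
  obtain ⟨ξ, hξ⟩ := ((X_pow_sub_one_splits h.prim).of_dvd (X_pow_sub_C_ne_zero (Nat.pos_of_ne_zero hq) 1) d).exists_eval_eq_zero (by
    rw [degree_map]; exact fun h => v0 (by simpa [ev] using (m 1).2 (isUnit_iff_degree_eq_zero.2 h).dvd))
  obtain ⟨s, hs⟩ := e.exists_rightInverse_of_surjective es
  have k : ∀ g, aeval ξ (s (e g)) = aeval ξ g := fun g => by
    obtain ⟨c, hc⟩ := (m (s (e g) - g)).1 (by rw [map_sub, sub_eq_zero]; exact LinearMap.congr_fun hs _)
    rw [← sub_eq_zero, ← map_sub, hc, map_mul, ← eval_map_algebraMap, hξ, zero_mul]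
  let ψ : V →ₗ[ZMod p] K := (aeval ξ).toLinearMap ∘ₗ s
  have eq : ∀ v, ψ (γ v) = ξ * ψ v := fun w => by
    obtain ⟨g, rfl⟩ := es.ge (Submodule.mem_top (x := w))
    have : γ (e g) = e (X * g) := by simp [ev]
    simp [ψ, this, k]
  have inj : Function.Injective ψ := LinearMap.ker_eq_bot.1 ((irr _ fun v hv => by simp_all).resolve_right fun h => by
    simpa [ψ, k 1] using h.ge (Submodule.mem_top (x := e 1)))
  have x1 : ξ ≠ 1 := by rintro rfl; exact hv (inj (by simp [eq]))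
  have xq : ξ ^ q = 1 := by simpa [hξ, sub_eq_zero] using eval_dvd (x := ξ) d
  exact ⟨ξ, xq, x1, ψ, ⟨inj, fun c => by
    obtain ⟨g, rfl⟩ := (h.gen ξ xq x1 (aeval ξ : _ →ₐ[ZMod p] K).toRingHom.range ⟨X, by simp⟩).ge (Subring.mem_top c)
    exact ⟨e g, k g⟩⟩, eq⟩

theorem adj_of {A : Type*} [AddCommGroup A] (β : K →+ K →+ A) {ζ ζ' : K} (h : ∀ u v, β (ζ * u) v = β u (ζ' * v)) (l : ℤ[X]) :
    ∀ u v, β (aeval ζ l * u) v = β u (aeval ζ' l * v) := by
  induction l using Polynomial.induction_on with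
  | C a => intro u v; rw [aeval_C, aeval_C, eq_intCast, ← zsmul_eq_mul, ← zsmul_eq_mul, map_zsmul, map_zsmul]; rfl
  | add a b ha hb => simp [add_mul, ha, hb]
  | monomial n a ih =>
    intro u v
    rw [pow_succ, ← mul_assoc (C a), map_mul _ _ X, map_mul _ _ X, aeval_X, aeval_X, mul_assoc, ih, h, mul_assoc, mul_left_comm]

theorem exists_dat [hp : Fact p.Prime] [hq : Fact q.Prime] (hpq : p ≠ q) {a₀ : ℕ}
    (h₀ : a₀ = if orderOf (p : ZMod q) % 2 = 1 then orderOf (p : ZMod q) else 3 * orderOf (p : ZMod q) / 2) :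
    ∃ (K : Type u) (_ : Field K) (_ : Finite K) (_ : CharP K p) (ζ : K) (σ : K →+* K) (K₀ : AddSubgroup K),
      Dat q ζ σ K₀ ∧ Nat.card K * Nat.card (K ⧸ K₀) = p ^ a₀ := by
  have p0 : (p : ZMod q) ≠ 0 := fun h => hpq ((Nat.prime_dvd_prime_iff_eq hq.out hp.out).1 ((ZMod.natCast_eq_zero_iff _ _).1 h)).symm
  have a0 : orderOf (p : ZMod q) ≠ 0 := (orderOf_pos_iff.2 (isOfFinOrder_iff_pow_eq_one.2
    ⟨q - 1, by have := hq.out.two_le; omega, ZMod.pow_card_sub_one_eq_one p0⟩)).ne'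
  let K := ULift.{u} (GaloisField p (orderOf (p : ZMod q)))
  have hK : Nat.card K = p ^ orderOf (p : ZMod q) := by rw [Nat.card_ulift, GaloisField.card _ _ a0]
  obtain ⟨z, hz⟩ := exists_prime_orderOf_dvd_card' (G := Kˣ) q (by
    rw [Nat.card_units, hK, ← ZMod.natCast_eq_zero_iff, Nat.cast_pred (pow_pos hp.out.pos _), Nat.cast_pow, pow_orderOf_eq_one, sub_self])
  have prim : IsPrimitiveRoot (z : K) q := by
    have := IsPrimitiveRoot.orderOf z
    exact IsPrimitiveRoot.coe_units_iff.2 (by rwa [hz] at this)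
  have gen := gen_of hK
  have gz := gen z prim.pow_eq_one (prim.ne_one hq.out.one_lt)
  have s : Function.Surjective (aeval z.1 : ℤ[X] →ₐ[ℤ] K).toRingHom := fun c => (gz (RingHom.range _) ⟨X, by simp⟩).ge trivial
  have pw : ∀ n : ℕ, ∀ c : K, c ^ q = 1 → (p : ZMod q) ^ n = -1 → c ^ p ^ n * c = 1 := fun n c hc h => by
    obtain ⟨m, hm⟩ : q ∣ p ^ n + 1 := by rw [← ZMod.natCast_eq_zero_iff]; simp [h]
    rw [← pow_succ, hm, pow_mul, hc, one_pow]
  rcases Nat.even_or_odd' (orderOf (p : ZMod q)) with ⟨b, e | e⟩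
  · have hK' : Nat.card K = (p ^ b) ^ 2 := by rw [hK, e, ← pow_mul']
    let σ := iterateFrobenius K p b
    have sv : ∀ x, σ x = x ^ p ^ b := fun _ => rfl
    have ss : ∀ x, σ (σ x) = x := fun x => by
      have := Fintype.ofFinite K
      rw [sv, sv, ← pow_mul, ← pow_two, ← hK', Nat.card_eq_fintype_card, FiniteField.pow_card]
    have m1 : (p : ZMod q) ^ b = -1 := (sq_eq_one_iff.1 (by rw [← pow_mul', ← e, pow_orderOf_eq_one])).resolve_left
      (pow_ne_one_of_lt_orderOf (by omega) (by omega))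
    obtain ⟨θ, hθ⟩ := H10.Form.exists_theta (σ := σ) (fun h => by
      obtain ⟨x, hx⟩ := H10.exists_not_fixed hK'; exact hx (RingHom.congr_fun h x)) ss
    refine ⟨K, _, inferInstance, inferInstance, z, σ, (σ.eqLocus (.id K)).toAddSubgroup, ⟨prim, gen, fun u => ?_, fun c hc u v => ?_,
      fun β alt inv => ?_⟩, ?_⟩
    · change σ _ = _; simp [ss, mul_comm]
    · rw [map_mul, mul_mul_mul_comm, sv c, pw b c hc m1, one_mul]
    · have := adj_of β (ζ := z) (ζ' := σ z) fun u v => by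
        rw [← inv u, ← mul_assoc, mul_comm z.1 (σ z), sv, pw b _ prim.pow_eq_one m1, one_mul]
      have k : ∀ u v, β u v = β 1 (σ u * v) := fun u v => by
        obtain ⟨l, rfl⟩ := s u
        simpa [show aeval (σ z) l = σ (aeval z.1 l) from aeval_algHom_apply σ.toIntAlgHom z.1 l] using this l 1 v
      refine ⟨k, fun x (hx : σ x = x) => ?_⟩
      have := alt (1 + x * θ)
      simp only [map_add, AddMonoidHom.add_apply, alt, zero_add, add_zero, k (x * θ) 1, mul_one, map_mul, hx] at this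
      rwa [← map_add, ← mul_add, add_comm, hθ, mul_one] at this
    · have c := (σ.eqLocus (.id K)).toAddSubgroup.card_eq_card_quotient_mul_card_addSubgroup
      rw [show Nat.card (σ.eqLocus (.id K)).toAddSubgroup = p ^ b from H10.card_fixed hK', hK', pow_two,
        mul_left_inj' (pow_pos hp.out.pos b).ne'] at c
      rw [← c, hK, h₀, e, if_neg (by omega), ← pow_add]; congr 1; omega
  · refine ⟨K, _, inferInstance, inferInstance, z, .id K, ⊤, ⟨prim, gen, fun u => trivial, fun c hc u v => QuotientAddGroup.eq.2 trivial,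
      fun β alt inv => ?_⟩, by simp [hK, h₀, e]⟩
    suffices ∀ u v, β u v = 0 by simp [this]
    by_contra! n
    obtain ⟨u, v, n⟩ := n
    obtain ⟨τ, tz⟩ : ∃ τ : K →+* K, τ z = z.1⁻¹ := ⟨RingHom.liftOfSurjective _ s ⟨(aeval z.1⁻¹ : ℤ[X] →ₐ[ℤ] K).toRingHom,
      fun l (hl : aeval _ _ = _) => by_contra fun (h : aeval _ _ ≠ _) => n (by
        have := adj_of β (ζ := z) (ζ' := z.1⁻¹) (fun u v => by rw [← inv u, mul_inv_cancel_left₀ z.ne_zero]) l u ((aeval z.1⁻¹ l)⁻¹ * v)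
        rw [hl, mul_inv_cancel_left₀ h] at this
        simpa using this.symm)⟩, (congrArg _ (aeval_X (R := ℤ) z.1).symm).trans
        ((RingHom.liftOfSurjective_comp_apply _ s _ X).trans (aeval_X _))⟩
    by_cases t : τ = .id K
    · have : (z : K) = -1 := (sq_eq_one_iff.1 (by rw [pow_two, mul_eq_one_iff_eq_inv₀ z.ne_zero, ← tz, t]; rfl)).resolve_left
        (prim.ne_one hq.out.one_lt)
      have i := fun c => (gz (Int.castRingHom K).range ⟨-1, by simp [this]⟩).ge (Subring.mem_top c)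
      obtain ⟨a, rfl⟩ := i u
      obtain ⟨c, rfl⟩ := i v
      exact n (by rw [eq_intCast, eq_intCast, ← zsmul_one a, ← zsmul_one c]; simp only [map_zsmul, AddMonoidHom.zsmul_apply, alt, smul_zero])
    · obtain ⟨r, hr, -⟩ := H10.exists_q_of_involutive t fun c => (gz ((τ.comp τ).eqLocus (.id K)) (show τ (τ _) = _ by rw [tz, map_inv₀, tz, inv_inv]; rfl)).ge trivial
      have := congrArg (·.factorization p) (hK.symm.trans hr)
      simp [hp.out.factorization_self, e] at this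
      omega

end H12.Rd
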