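import Cfsg.Agent.H12.RdA
import Cfsg.Agent.H24.MinAct
import Cfsg.Agent.H03.HallNC

/-!
# The universal minimal non-`p`-nilpotent group with given `q`-part (Rédei): `GG`, `min_GG`, `univ_GG`
-/

namespace H12.Rd
open Subgroup Cfsg H03
open scoped commutatorElement IsMulCommutative

universe u
variable {K Z : Type u} {C : Type} [Field K] [AddCommGroup Z] [Group C] {p q : ℕ}

/-- `(K ×_b Z) ⋊ C` -/
@[ext] structure GG (b : K →+ K →+ Z) (χ : C →* K) (h : ∀ i u v, b (χ i * u) (χ i * v) = b u v) where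
  /-- top of the `p`-part -/
  v : K
  /-- centre of the `p`-part -/
  z : Z
  /-- the `q`-part -/
  c : C

variable {b : K →+ K →+ Z} {χ : C →* K} {h : ∀ i u v, b (χ i * u) (χ i * v) = b u v}

instance GG.mul : Mul (GG b χ h) := ⟨fun x y => ⟨x.v + χ x.c * y.v, x.z + y.z + b x.v (χ x.c * y.v), x.c * y.c⟩⟩
instance GG.one : One (GG b χ h) := ⟨⟨0, 0, 1⟩⟩
instance GG.inv : Inv (GG b χ h) := ⟨fun x => ⟨-(χ x.c⁻¹ * x.v), -x.z + b x.v x.v, x.c⁻¹⟩⟩
@[simp] theorem mul_v (x y : GG b χ h) : (x * y).v = x.v + χ x.c * y.v := rfl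
@[simp] theorem mul_z (x y : GG b χ h) : (x * y).z = x.z + y.z + b x.v (χ x.c * y.v) := rfl
@[simp] theorem mul_c (x y : GG b χ h) : (x * y).c = x.c * y.c := rfl
@[simp] theorem one_v : (1 : GG b χ h).v = 0 := rfl
@[simp] theorem one_z : (1 : GG b χ h).z = 0 := rfl
@[simp] theorem one_c : (1 : GG b χ h).c = 1 := rfl
@[simp] theorem inv_v (x : GG b χ h) : x⁻¹.v = -(χ x.c⁻¹ * x.v) := rfl
@[simp] theorem inv_z (x : GG b χ h) : x⁻¹.z = -x.z + b x.v x.v := rfl
@[simp] theorem inv_c (x : GG b χ h) : x⁻¹.c = x.c⁻¹ := rfl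
instance GG.group : Group (GG b χ h) := Group.ofLeftAxioms
  (fun x y z => by ext <;> simp [mul_add, mul_assoc, add_assoc, h]; abel) (fun x => by ext <;> simp)
  fun x => by ext <;> simp [h, -map_inv]

/-- as a set -/
def GG.eqv : GG b χ h ≃ K × Z × C := ⟨fun x => (x.v, x.z, x.c), fun x => ⟨x.1, x.2.1, x.2.2⟩, fun _ => rfl, fun _ => rfl⟩
instance GG.finite [Finite K] [Finite Z] [Finite C] : Finite (GG b χ h) := .of_equiv _ GG.eqv.symm
/-- projection -/
def GG.pr : GG b χ h →* C := ⟨⟨GG.c, rfl⟩, fun _ _ => rfl⟩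
/-- inclusion -/
def GG.inc : C →* GG b χ h := ⟨⟨fun c => ⟨0, 0, c⟩, rfl⟩, fun _ _ => by ext <;> simp⟩

theorem mem_center {x : GG b χ h} (hC : ∀ i j : C, i * j = j * i) (h1 : x.v = 0) (h2 : χ x.c = 1) : x ∈ center (GG b χ h) :=
  mem_center_iff.2 fun y => by ext <;> simp [h1, h2, add_comm, hC x.c]

theorem min_GG [Finite K] [Finite Z] [Finite C] [Fact p.Prime] [hq : Fact q.Prime] (hpq : p ≠ q) {a : ℕ} (hp : Nat.card K * Nat.card Z = p ^ a)
    (hC : IsPGroup q C) {y : C} (hy : ∀ x, x ∈ zpowers y) (o : χ y ^ q = 1) (n : χ y ≠ 1) (gen : ∀ S : Subring K, χ y ∈ S → S = ⊤)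
    (hb : ∀ z, ∃ u v, b u v - b v u = z) : ¬ HasNormalPComplement p (GG b χ h) ∧
      ∀ M : Subgroup (GG b χ h), M ≠ ⊤ → HasNormalPComplement p M := by
  have cy : IsCyclic C := ⟨y, hy⟩
  have cm : ∀ i j : C, i * j = j * i := cy.commutative.1.1
  have hP : IsPGroup p (GG.pr (h := h)).ker := IsPGroup.of_card (n := a) (by
    rw [← hp, ← Nat.card_prod]
    exact Nat.card_congr ⟨fun x => (x.1.v, x.1.z), fun x => ⟨⟨x.1, x.2, 1⟩, rfl⟩, fun x => Subtype.ext (GG.ext rfl rfl x.2.symm), fun _ => rfl⟩)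
  have co : ∀ c : C, (orderOf (GG.inc (h := h) c)).Coprime p := fun c => by
    obtain ⟨k, hk⟩ := IsPGroup.iff_orderOf.1 hC c
    exact Nat.Coprime.coprime_dvd_left (orderOf_map_dvd _ c) (hk ▸ ((Nat.coprime_primes hq.out Fact.out).2 hpq.symm).pow_left k)
  refine ⟨fun H => n ?_, fun M hM => ?_⟩
  · have := HasNPC.commute_of_normalizes H hP (g := GG.inc y) (le_normalizer_of_normal (mem_top _)) (co y) ⟨1, 0, 1⟩ rfl
    simpa [GG.inc] using congrArg GG.v this.symm
  by_cases h1 : ∀ x ∈ M, χ x.c = 1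
  · let f : M →* (GG.pr (h := h)).ker := ⟨⟨fun x => ⟨⟨x.1.v, x.1.z, 1⟩, rfl⟩, rfl⟩, fun x y => by ext <;> simp [h1 _ x.2]⟩
    refine hasNPC_of_normal f.ker (card_coprime_of_forall_orderOf fun x hx => ?_)
      (hP.of_injective _ (QuotientGroup.kerLift_injective f))
    have := congrArg Subtype.val hx
    rw [← Subgroup.orderOf_coe, show x.1 = GG.inc x.1.c from GG.ext (congrArg GG.v this :) (congrArg GG.z this :) rfl]
    exact co _
  by_cases h2 : ∀ x ∈ M, x.c = 1 → x.v = 0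
  · letI := commGroupOfCyclicCenterQuotient (GG.pr.comp M.subtype) fun x (hx : x.1.c = 1) =>
      mem_center_iff.2 fun y => Subtype.ext (mem_center_iff.1 (mem_center cm (h2 _ x.2 hx) (by simp [hx])) _)
    exact hasNPC_of_isNilpotent (hG := CommGroup.isNilpotent)
  push Not at h1 h2
  obtain ⟨x, hx, x1⟩ := h1
  obtain ⟨w, hw, w1, w0⟩ := h2
  have ym : y ∈ M.map GG.pr := by
    obtain ⟨m, hm⟩ := mem_powers_iff_mem_zpowers.2 (hy x.c)
    obtain ⟨k, hk⟩ := IsPGroup.iff_orderOf.1 hC y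
    have : ¬ q ∣ m := by rintro ⟨m, rfl⟩; simp [← hm, pow_mul, o] at x1
    obtain ⟨j, hj⟩ := exists_pow_eq_self_of_coprime (x := y) (n := m) (hk ▸ ((hq.out.coprime_iff_not_dvd.2 this).symm.pow_right k))
    exact hj ▸ pow_mem (mem_map.2 ⟨x, hx, hm.symm⟩) j
  obtain ⟨t, ht, ty⟩ := ym
  let W : AddSubgroup K :=
    { carrier := {v | ∃ z, ⟨v, z, 1⟩ ∈ M}
      zero_mem' := ⟨0, M.one_mem⟩
      add_mem' := fun ⟨_, a⟩ ⟨_, b⟩ => ⟨_, by convert M.mul_mem a b using 1; exact GG.ext (by simp) rfl (by simp)⟩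
      neg_mem' := fun ⟨_, a⟩ => ⟨_, by convert M.inv_mem a using 1; exact GG.ext (by simp) rfl (by simp)⟩ }
  let S : Subring K :=
    { carrier := {k | ∀ v ∈ W, k * v ∈ W}
      mul_mem' := fun a b v h => by rw [mul_assoc]; exact a _ (b v h)
      one_mem' := by simp
      add_mem' := fun a b v h => by rw [add_mul]; exact add_mem (a v h) (b v h)
      zero_mem' := by simp
      neg_mem' := fun a v h => by rw [neg_mul]; exact neg_mem (a v h) }
  have hW : ∀ v, v ∈ W := fun v => by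
    have := (gen S fun v ⟨z, e⟩ => ⟨_, by
      convert mul_mem (mul_mem ht e) (inv_mem ht) using 1
      exact GG.ext (by simp [← ty, GG.pr, ← mul_assoc, ← map_mul, -map_inv]) rfl (by simp)⟩).ge (Subring.mem_top (v / w.v)) w.v ⟨w.z, w1 ▸ hw⟩
    rwa [div_mul_cancel₀ _ w0] at this
  have hZ : ∀ z, ⟨0, z, 1⟩ ∈ M := fun z => by
    obtain ⟨u, v, rfl⟩ := hb z
    obtain ⟨_, a⟩ := hW u
    obtain ⟨_, c⟩ := hW v
    convert mul_mem (mul_mem a c) (inv_mem (mul_mem c a)) using 1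
    ext <;> simp <;> abel
  refine absurd (eq_top_iff.2 fun g _ => ?_) hM
  obtain ⟨k, hk⟩ := hy g.c
  obtain ⟨z, e⟩ := hW (g * t ^ (-k)).v
  convert mul_mem (mul_mem e (hZ ((g * t ^ (-k)).z - z))) (zpow_mem ht k) using 1
  rw [← mul_inv_eq_iff_eq_mul, ← zpow_neg]
  exact GG.ext (by simp) (by simp) (by
    have : GG.pr (g * t ^ (-k)) = 1 := by rw [map_mul, map_zpow, ty, zpow_neg, show y ^ k = _ from hk]; exact mul_inv_cancel _
    exact this.trans (one_mul 1).symm)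

theorem card_of_sup {X : Type*} [Group X] [Finite X] [Fact p.Prime] {D : Subgroup X} [D.Normal] (hD : IsPGroup p D) {g : X}
    (hg : (orderOf g).Coprime p) (h : D ⊔ zpowers g = ⊤) : Nat.card X = Nat.card D * orderOf g := by
  rw [← Nat.card_zpowers] at hg ⊢
  exact (isComplement'_of_disjoint_and_mul_eq_univ (disjoint_of_isPGroup_of_coprime hD hg).symm
    (by rw [← normal_mul, h]; rfl)).card_mul.symm

theorem exists_coord {X : Type u} [Group X] [Finite X] [hp : Fact p.Prime] [hq : Fact q.Prime] [CharP K p] {ζ σ K₀}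
    (d : Dat (K := K) q ζ σ K₀) (h1 : ¬ HasNormalPComplement p X) (h2 : ∀ M : Subgroup X, M ≠ ⊤ → HasNormalPComplement p M)
    (hpq : p ≠ q) {t r : ℕ} (hr : 1 ≤ r) (hX : Nat.card X = p ^ t * q ^ r) :
    ∃ (D : Subgroup X) (_ : D.Normal) (g : X) (ψ : D →* Multiplicative K), IsPGroup p D ∧ orderOf g ∣ q ^ r ∧ Function.Surjective ψ ∧
      (∀ x, ψ x = 1 ↔ x.1 ∈ ⁅D, D⁆) ∧ (∀ x y : D, y.1 = g * x * g⁻¹ → (ψ y).toAdd = ζ * (ψ x).toAdd) ∧ ⁅D, D⁆ ≤ center X := by
  obtain ⟨D, _, q', g, hD, hq', n, ⟨k, hk⟩, gc, e, -⟩ := exists_eq_top_of_minimal_not_hasNPC h1 h2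
  have co : (orderOf g).Coprime p := hk ▸ ((Nat.coprime_primes hq' hp.out).2 n).pow_left k
  have c := card_of_sup hD co e
  obtain ⟨s, hs⟩ := hD.exists_card_eq
  rw [hX, hs, hk] at c
  obtain rfl : q = q' := by
    have : q ∣ p ^ s * q' ^ k := c ▸ (dvd_pow_self q (by omega)).mul_left _
    exact (Nat.prime_dvd_prime_iff_eq hq.out hq').1 (hq.out.dvd_of_dvd_pow ((hq.out.dvd_mul.1 this).resolve_left fun h =>
      hpq ((Nat.prime_dvd_prime_iff_eq hq.out hp.out).1 (hq.out.dvd_of_dvd_pow h)).symm))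
  have kr : q ^ k ∣ q ^ r := (((Nat.coprime_primes hq.out hp.out).2 n).pow k t).dvd_of_dvd_mul_left (c ▸ dvd_mul_left _ _)
  have cen : ∀ (U : Subgroup X) (x : X), IsPGroup p U → x ∈ normalizer (U : Set X) → (orderOf x).Coprime p → U ⊔ zpowers x ≠ ⊤ →
      x ∈ centralizer (U : Set X) := fun U x a b c e => by_contra fun h => not_hasNPC_sup_zpowers a b c h (h2 _ e)
  have m : H24.MinAct p (zpowers g) (zpowers g) D := ⟨hD, le_normalizer_of_normal, le_rfl, le_normalizer, by rwa [Nat.card_zpowers],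
    fun h => gc (le_centralizer_iff.1 (commutator_eq_bot_iff_le_centralizer.1 h) (mem_zpowers g)), fun U a b => by
      have gU := b (mem_zpowers g)
      refine commutator_eq_bot_iff_le_centralizer.2 (le_centralizer_iff.1 (zpowers_le.2 (cen U g (hD.to_le a.le) gU co fun h => ?_)))
      have : U.Normal := normalizer_eq_top_iff.1 (eq_top_iff.2 (h ▸ sup_le le_normalizer b))
      have := (card_of_sup hD co e).symm.trans (card_of_sup (hD.to_le a.le) co h)
      exact a.ne (eq_of_le_of_card_ge a.le (Nat.eq_of_mul_eq_mul_right (orderOf_pos g) this).le)⟩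
  have gq : g ^ q ∈ centralizer (D : Set X) := by
    have co' := co.coprime_dvd_left (orderOf_pow_dvd q)
    refine cen D _ hD (le_normalizer_of_normal (mem_top _)) co' fun h => ?_
    have := Nat.eq_of_mul_eq_mul_left Nat.card_pos ((card_of_sup hD co e).symm.trans (card_of_sup hD co' h))
    rcases k with _ | k
    · exact gc (by rw [orderOf_eq_one_iff.1 hk]; exact one_mem _)
    · rw [orderOf_pow' _ hq.out.ne_zero, hk, Nat.gcd_eq_right (dvd_pow_self q k.succ_ne_zero)] at this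
      exact (Nat.div_lt_self (pow_pos hq.out.pos _) hq.out.one_lt).ne' this
  have ph : BG.frattiniOf D = ⁅D, D⁆ := m.cent_eq_phi.symm.trans m.cent_eq_der
  have cm : ∀ x : D, x ∈ commutator D ↔ x.1 ∈ ⁅D, D⁆ := fun x => by
    rw [← map_subtype_commutator]; exact (mem_map_iff_mem D.subtype_injective).symm
  have : Module (ZMod p) (Additive (Abelianization D)) := AddCommGroup.zmodModule (by
    rintro ⟨x⟩
    exact (QuotientGroup.eq_one_iff (x ^ p)).2 ((cm _).2 (ph ▸ BG.pow_mem_phi hp.out hD x.2)))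
  have := ZMod.algebra K p
  have sur : ∀ v : Additive (Abelianization D), ∃ x : D, .ofMul (Abelianization.of x) = v := by rintro ⟨x⟩; exact ⟨x, rfl⟩
  let γ : X →* Module.End (ZMod p) (Additive (Abelianization D)) :=
    ⟨⟨fun x => (MonoidHom.toAdditive (Abelianization.map (MulAut.conjNormal x).toMonoidHom)).toZModLinearMap p,
      LinearMap.ext fun v => by obtain ⟨x, rfl⟩ := sur v; simp⟩, fun a b => LinearMap.ext fun v => by obtain ⟨x, rfl⟩ := sur v; simp⟩
  obtain ⟨v, hv⟩ : ∃ v, γ g v ≠ v := by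
    by_contra! h
    refine (BG.phi_lt m.ne_bot).not_ge (ph ▸ m.comm_eq.ge.trans (commutator_le.2 fun x hx y hy => ?_))
    have := LinearMap.congr_fun (zpowers_le.2 (show g ∈ γ.ker from LinearMap.ext h) hy) (.ofMul (Abelianization.of ⟨x, hx⟩))
    simpa [commutatorElement_def, mul_assoc] using (cm _).1 (QuotientGroup.leftRel_apply.1 (Quotient.exact' this.symm) |> fun h =>
      (commutator D).inv_mem ((inferInstance : (commutator D).Normal).conj_mem _ h ⟨x, hx⟩))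
  obtain ⟨ξ, a, x1, ψ, bij, eq⟩ := exists_psi d hq.out.ne_zero (γ g) (by
    rw [← map_pow]
    exact LinearMap.ext (by rintro ⟨x⟩; exact congrArg Abelianization.of (Subtype.ext (by rw [MulEquiv.coe_toMonoidHom, MulAut.conjNormal_apply, ← gq x x.2, mul_inv_cancel_right])))) hv fun W hW => by
      let U : Subgroup D := (W.toAddSubgroup.toSubgroup').comap Abelianization.of
      refine (m.irred (U := U.map D.subtype) (ph ▸ fun x hx => ?_) (map_subtype_le _) (zpowers_le.2 ?_)).imp (fun h => ?_) fun h => ?_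
      · have hx' := commutator_le_left D D hx
        exact ⟨⟨x, hx'⟩, show .ofMul (Abelianization.of _) ∈ W by
          rw [show Abelianization.of (⟨x, hx'⟩ : D) = 1 from (QuotientGroup.eq_one_iff _).2 ((cm _).2 hx)]; exact W.zero_mem, rfl⟩
      · exact mem_normalizer_fintype (by rintro _ ⟨x, hx, rfl⟩; exact ⟨MulAut.conjNormal g x, hW _ hx, rfl⟩)
      · exact eq_bot_iff.2 (by rintro ⟨x⟩ hx; exact (QuotientGroup.eq_one_iff _).2 ((cm _).2 (ph ▸ h.le ⟨x, hx, rfl⟩)))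
      · exact eq_top_iff.2 (by rintro ⟨x⟩ -; exact (mem_map_iff_mem D.subtype_injective).1 (h.ge x.2))
  obtain ⟨i, -, hi⟩ := (orderOf_eq_prime a x1 ▸ IsPrimitiveRoot.orderOf ξ : IsPrimitiveRoot ξ q).eq_pow_of_pow_eq_one d.prim.pow_eq_one
  refine ⟨D, ‹_›, g ^ i, (AddMonoidHom.toMultiplicativeRight ψ.toAddMonoidHom).comp Abelianization.of, hD,
    (orderOf_pow_dvd i).trans (hk ▸ kr), bij.2.comp QuotientGroup.mk_surjective, fun x => ?_, fun x y h => ?_, ?_⟩
  · exact ((map_eq_zero_iff ψ bij.1).trans (QuotientGroup.eq_one_iff _)).trans (cm x)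
  · have : ∀ n v, ψ (γ (g ^ n) v) = ξ ^ n * ψ v := fun n => by
      induction n with
      | zero => simp
      | succ n ih => intro v; rw [pow_succ, map_mul, Module.End.mul_apply, ih, eq, pow_succ, mul_assoc]
    rw [show y = MulAut.conjNormal (g ^ i) x from Subtype.ext h, ← hi]
    exact this i (.ofMul (Abelianization.of x))
  · rw [← centralizer_univ, ← coe_top, ← e]
    exact le_centralizer_iff.1 (sup_le (le_centralizer_iff.1 m.der_le_cent) (le_centralizer_iff.1 (m.cent_eq_der.ge.trans inf_le_right)))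

theorem univ_GG {X : Type u} [Group X] [Finite X] [hp : Fact p.Prime] [hq : Fact q.Prime] [CharP K p] {σ K₀} {y : C}
    (d : Dat (K := K) q (χ y) σ K₀) {b : K →+ K →+ K ⧸ K₀} {h : ∀ i u v, b (χ i * u) (χ i * v) = b u v}
    (hb : ∀ u v, b u v = (σ ((1 - (1 - χ y)⁻¹) * u) * v : K)) (hy : ∀ x, x ∈ zpowers y) {r : ℕ} (hr : 1 ≤ r) (ho : orderOf y = q ^ r)
    (h1 : ¬ HasNormalPComplement p X) (h2 : ∀ M : Subgroup X, M ≠ ⊤ → HasNormalPComplement p M)
    (hpq : p ≠ q) {t : ℕ} (hX : Nat.card X = p ^ t * q ^ r) : ∃ φ : GG b χ h →* X, Function.Surjective φ ∧ φ.ker ≤ center _ := by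
  obtain ⟨D, _, g, ψ, hD, og, sj, ker, eq, zc⟩ := exists_coord d h1 h2 hpq hr hX
  have cc : ∀ x y : D, ⁅x.1, y.1⁆ ∈ center X := fun x y => zc (commutator_mem_commutator x.2 y.2)
  have cj : ∀ {c}, c ∈ center X → ∀ x, x * c * x⁻¹ = c := fun h x => by rw [mem_center_iff.1 h, mul_inv_cancel_right]
  have c0 : ∀ x y z : X, ⁅x * y, z⁆ = x * ⁅y, z⁆ * x⁻¹ * ⁅x, z⁆ := fun x y z => by group
  have c1 : ∀ x y z : D, ⁅(x * y).1, z.1⁆ = ⁅x.1, z.1⁆ * ⁅y.1, z.1⁆ := fun x y z => by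
    rw [coe_mul, c0, cj (cc y z), mem_center_iff.1 (cc y z)]
  have c2 : ∀ x y z : D, ⁅z.1, (x * y).1⁆ = ⁅z.1, x.1⁆ * ⁅z.1, y.1⁆ := fun x y z => by
    rw [← commutatorElement_inv, c1, mul_inv_rev, commutatorElement_inv, commutatorElement_inv, mem_center_iff.1 (cc z x)]
  have sz : ∀ {x y : D}, ψ x = ψ y → ∀ w : X, ⁅x.1, w⁆ = ⁅y.1, w⁆ := fun {x y} e w => by
    rw [← mul_inv_cancel_left y x, coe_mul, c0, commutatorElement_eq_one_iff_mul_comm.2
      (mem_center_iff.1 (zc ((ker (y⁻¹ * x)).1 (by simp [e]))) w).symm]; simp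
  have sz' : ∀ {x y : D}, ψ x = ψ y → ∀ w : X, ⁅w, x.1⁆ = ⁅w, y.1⁆ := fun e w => by
    rw [← commutatorElement_inv, sz e, commutatorElement_inv]
  choose s hs using fun v : K => sj (.ofAdd v)
  have sa : ∀ u v, ψ (s (u + v)) = ψ (s u * s v) := by simp [hs]
  let β : K →+ K →+ Additive (center X) := AddMonoidHom.mk' (fun u => AddMonoidHom.mk' (fun v => Additive.ofMul ⟨_, cc (s u) (s v)⟩)
    fun v w => Subtype.ext ((sz' (sa v w) _).trans (c2 ..))) fun u v => AddMonoidHom.ext fun w => Subtype.ext ((sz (sa u v) _).trans (c1 ..))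
  have βe : ∀ x y : D, ((β (ψ x).toAdd (ψ y).toAdd).toMul : X) = ⁅x.1, y.1⁆ := fun x y => (sz (hs _) _).trans (sz' (hs _) _)
  let κ : C →* X := monoidHomOfForallMemZpowers hy (ho ▸ og)
  have κy : κ y = g := monoidHomOfForallMemZpowers_apply_gen ..
  have ek : ∀ (i : C) (x : D), (ψ (MulAut.conjNormal (κ i) x)).toAdd = χ i * (ψ x).toAdd := fun i => by
    have := orderOf_pos_iff.1 (ho ▸ pow_pos hq.out.pos r)
    obtain ⟨n, rfl⟩ := this.mem_powers_iff_mem_zpowers.2 (hy i)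
    induction n with
    | zero => simp
    | succ n ih => intro x; simp only [pow_succ, map_mul, MulAut.mul_apply] at ih ⊢; rw [ih, κy, eq x _ rfl, mul_assoc]
  obtain ⟨u1, u2⟩ := d.univ β (fun u => Subtype.ext (commutatorElement_self _)) fun u v => Subtype.ext (by
    have := βe (MulAut.conjNormal (κ y) (s u)) (MulAut.conjNormal (κ y) (s v))
    rw [ek, ek, hs, hs] at this
    exact this.trans ((conjugate_commutatorElement ..).symm.trans (cj (cc (s u) (s v)) _)))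
  let f : K ⧸ K₀ →+ Additive (center X) := QuotientAddGroup.lift K₀ (β 1) u2
  have fb : ∀ u v, f (b u v) = β ((1 - (1 - χ y)⁻¹) * u) v := fun u v => by rw [hb, u1]; rfl
  have n1 : 1 - χ y ≠ 0 := sub_ne_zero.2 (d.prim.ne_one hq.out.one_lt).symm
  let S : K → D := fun v => ⟨⁅(s ((1 - χ y)⁻¹ * v)).1, g⁆, by
    simpa [commutatorElement_def, mul_assoc] using mul_mem (s _).2 (‹D.Normal›.conj_mem _ (inv_mem (s _).2) g)⟩
  have Sψ : ∀ v, (ψ (S v)).toAdd = v := fun v => by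
    rw [show S v = s ((1 - χ y)⁻¹ * v) * MulAut.conjNormal (κ y) (s ((1 - χ y)⁻¹ * v))⁻¹ from
      Subtype.ext (by simp [S, κy, commutatorElement_def, mul_assoc]), map_mul, toAdd_mul, ek, map_inv, hs]
    simp; field_simp; ring
  have Sk : ∀ i v, κ i * S v = S (χ i * v) * κ i := fun i v => by
    have : Commute (κ i) g := by obtain ⟨n, rfl⟩ := hy i; exact κy ▸ ((Commute.refl y).zpow_left n).map κ
    rw [← mul_inv_eq_iff_eq_mul, conjugate_commutatorElement, this.eq, mul_inv_cancel_right]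
    exact sz (x := MulAut.conjNormal (κ i) _) (Multiplicative.toAdd.injective (by rw [ek, hs, hs]; simp [mul_left_comm])) g
  have Sm : ∀ v w, (S v * S w : X) = S (v + w) * (f (b v w)).toMul := fun v w => by
    have e1 := βe (S v) (S w)
    have e2 := βe (s ((1 - χ y)⁻¹ * v)) (S w)
    rw [Sψ, Sψ] at e1
    rw [Sψ, hs, toAdd_ofAdd] at e2
    rw [fb, sub_mul, one_mul, map_sub, AddMonoidHom.sub_apply, toMul_sub, div_eq_mul_inv, coe_mul, coe_inv, e1, e2,
      mem_center_iff.1 (mul_mem (cc _ _) (inv_mem (cc _ _))), show (S (v + w)).1 = _ from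
        (sz (y := s ((1 - χ y)⁻¹ * v) * s ((1 - χ y)⁻¹ * w)) (by rw [mul_add, sa]) g).trans (c0 _ _ g)]
    change (S v * S w : X) = _ * (_ * S w * _ * S v)
    group
  let φ : GG b χ h →* X := MonoidHom.mk' (fun x => S x.v * (f x.z).toMul * κ x.c) fun x y => by
    have a : ∀ (z) (w : X), (f z).toMul * w = w * (f z).toMul := fun z w => (mem_center_iff.1 (f z).toMul.2 w).symm
    simp only [mul_v, mul_z, mul_c, map_add, map_mul, toMul_add, coe_mul]
    calc _ = (S (x.v + χ x.c * y.v) * (f (b x.v (χ x.c * y.v))).toMul : X) * (f x.z).toMul * (f y.z).toMul * (κ x.c * κ y.c) := by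
          rw [← a (b _ _)]; simp only [mul_assoc]
      _ = _ := by
        rw [← Sm, mul_assoc (S x.v : X), ← a x.z, mul_assoc _ (_ : X) (κ x.c * _), ← mul_assoc _ (κ x.c), a y.z]
        simp only [mul_assoc]; rw [← mul_assoc _ (κ x.c), ← Sk, mul_assoc]
  have S0 : (S 0).1 = 1 := (sz (y := 1) (by simp [hs]) g).trans (by simp)
  have fm : ∀ z, ((f z).toMul : X) ∈ ⁅D, D⁆ := by rintro ⟨z⟩; exact commutator_mem_commutator (s 1).2 (s z).2
  refine ⟨φ, MonoidHom.range_eq_top.1 (by_contra fun n => ?_), fun x hx => ?_⟩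
  · have a : ⁅D, D⁆ ≤ φ.range := commutator_le.2 fun x hx y hy => ⟨⟨0, (σ (ψ ⟨x, hx⟩).toAdd * (ψ ⟨y, hy⟩).toAdd : K), 1⟩, by
      rw [← βe ⟨x, hx⟩ ⟨y, hy⟩, u1]; simp [φ, S0, f]; rfl⟩
    have l : D ≤ φ.range := fun x hx => by
      have := mul_mem (⟨⟨(ψ ⟨x, hx⟩).toAdd, 0, 1⟩, rfl⟩ : _ ∈ φ.range)
        (a ((ker ((S (ψ ⟨x, hx⟩).toAdd)⁻¹ * ⟨x, hx⟩)).1 (Multiplicative.toAdd.injective (by simp [Sψ]))))
      simpa [φ] using this
    have co : (orderOf g).Coprime p := (((Nat.coprime_primes hq.out hp.out).2 hpq.symm).pow_left r).coprime_dvd_left og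
    refine not_hasNPC_sup_zpowers hD (le_normalizer_of_normal (mem_top _)) co (fun c => n1 ?_)
      (HasNPC.of_le (h2 _ n) (sup_le l (zpowers_le.2 ⟨⟨0, 0, y⟩, by simp [φ, S0, κy]⟩)))
    simpa [hs, sub_eq_zero] using eq (s 1) (s 1) (by rw [← c _ (s 1).2, mul_inv_cancel_right])
  · replace hx : (S x.v).1 * (f x.z).toMul * κ x.c = 1 := hx
    have m : (S x.v).1 * (f x.z).toMul ∈ D := mul_mem (S _).2 (commutator_le_left D D (fm _))
    have k : κ x.c = 1 := eq_one_of_mem_isPGroup_of_coprime hD (by rw [eq_inv_of_mul_eq_one_right hx]; exact inv_mem m)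
      ((((Nat.coprime_primes hq.out hp.out).2 hpq.symm).pow_left r).coprime_dvd_left
        ((orderOf_map_dvd _ _).trans (ho ▸ orderOf_dvd_of_mem_zpowers (hy _))))
    refine mem_center (⟨y, hy⟩ : IsCyclic C).commutative.1.1 ?_ (by simpa [k, hs] using (ek x.c (s 1)).symm)
    rw [k, mul_one] at hx
    rw [← Sψ x.v, (ker _).2 (eq_inv_of_mul_eq_one_left hx ▸ inv_mem (fm _))]; rfl

end H12.Rd
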