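import Cfsg.Agent.H04.Amb
import Cfsg.Agent.H03.Focal
import Cfsg.Agent.H22.Components

/-!
# Perfect normal subgroups whose Sylow `2`-subgroup has no invariant four-group (`H12.Rk1.step`, `cyc4`, `nof`, `four`)
-/

namespace H12.Rk1
open Subgroup Cfsg
open scoped commutatorElement

variable {G : Type*} [Group G] [Finite G] {A S T K : Subgroup G} {c d f s t u y z : G}

theorem tt [A.Normal] (hA : ⁅A, A⁆ = A) (T : Sylow 2 G) (hQ : K.relIndex (A ⊓ T) = 2) (uA : u ∈ A) (hu : orderOf u = 2) :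
    ∃ g ∈ A, g * u * g⁻¹ ∈ K := by
  by_contra! h
  obtain ⟨M, _, i, m⟩ := H03.thompson_transfer (P := T.1.subgroupOf A) (Q := K.subgroupOf A) (H03.not_dvd_relIndex_inf_normal T A)
    (by rw [← inf_subgroupOf_left T.1, relIndex_subgroupOf inf_le_left, hQ]) ⟨u, uA⟩ (by rwa [← orderOf_coe]) fun g => h g g.2
  have := isCyclic_of_prime_card (α := A ⧸ M) (p := 2) i
  have e : commutator A = ⊤ := map_injective A.subtype_injective (by rw [map_subtype_commutator, hA, ← MonoidHom.range_eq_map, range_subtype])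
  exact m ((e.ge.trans (Normal.quotient_commutative_iff_commutator_le.1 inferInstance)) trivial)

/-- next step of an invariant chain -/
theorem step (hT : IsPGroup 2 T) (hS : S ≤ T) (hK : T ≤ normalizer (K : Set G)) (n : T ≤ normalizer (S : Set G)) (h : K < S) :
    ∃ N : Subgroup G, T ≤ normalizer (N : Set G) ∧ K < N ∧ N ≤ S ∧ ∀ a ∈ N, ∀ b ∈ N, a ∉ K → b ∉ K → a * b ∈ K := by
  obtain ⟨N, a, b, c, d⟩ := H04.exists_normal_between_card_eq' hT hS hK n h.le (k := 1)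
    (by simpa using H04.mul_card_le_of_lt (hT.to_le hS) h)
  have i : (K.subgroupOf N).index = 2 := by
    have := (K.subgroupOf N).card_mul_index
    rw [H04.card_subgroupOf b, d] at this
    exact Nat.eq_of_mul_eq_mul_left Nat.card_pos (this.trans (by ring))
  exact ⟨N, a, b.lt_of_ne fun e => by simp [e] at i, c, fun x hx y hy h1 h2 =>
    (mul_mem_iff_of_index_two i (a := ⟨x, hx⟩) (b := ⟨y, hy⟩)).2 (iff_of_false h1 h2)⟩

omit [Finite G] in
theorem inv4 (hK : IsPGroup 2 K) (cK : c ∈ K) (c2 : c * c = z) (z2 : z * z = 1) (h : ∀ x ∈ K, x * c = c * x) (k : ∀ x ∈ K, x * x = 1 → x = 1 ∨ x = z)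
    (yc : y * c = c * y) (dK : d ∈ K) (yd : y * d = d⁻¹ * y) : d * d = 1 := by
  obtain ⟨n, hn⟩ := hK ⟨d, dK⟩
  replace hn : d ^ 2 ^ n = 1 := congrArg Subtype.val hn
  induction n generalizing d with
  | zero => simp [show d = 1 by simpa using hn]
  | succ n ih =>
    refine (k _ (mul_mem dK dK) (ih (mul_mem dK dK) (by rw [← mul_assoc, yd, mul_assoc, yd, mul_inv_rev, mul_assoc])
      (by rw [← sq, ← pow_mul, ← pow_succ', hn]))).elim id fun e => ?_
    have : Commute y d := by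
      have yc : Commute y c := yc
      rcases k _ (mul_mem dK cK) (by rw [mul_assoc, ← mul_assoc c, ← h d dK, mul_assoc, c2, ← mul_assoc, e, z2]) with e | e
      · rw [eq_inv_of_mul_eq_one_left e]; exact yc.inv_right
      · rw [eq_mul_inv_of_mul_eq e, ← c2]; exact (yc.mul_right yc).mul_right yc.inv_right
    rw [this.eq, mul_left_inj] at yd
    nth_rw 1 [yd, inv_mul_cancel]

/-- no `T`-invariant four-group in `S` -/
def NoE (S T : Subgroup G) (z : G) : Prop := ∀ y ∈ S, y * y = 1 → (∀ g ∈ T, g * y = y * g ∨ g * y = y * z * g) → y = 1 ∨ y = z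

theorem cen (hT : IsPGroup 2 T) (hS : S ≤ T) (n : T ≤ normalizer (S : Set G)) (h : S ≠ ⊥) :
    ∃ z ∈ S, z ≠ 1 ∧ z * z = 1 ∧ ∀ g ∈ T, g * z = z * g := by
  obtain ⟨N, a, b, c, d⟩ := step hT hS (K := ⊥) le_normalizer_of_normal n h.bot_lt
  obtain ⟨z, z1, z2⟩ := SetLike.exists_of_lt b
  refine ⟨z, c z1, z2, d _ z1 _ z1 z2 z2, fun g hg => ?_⟩
  have := d _ ((mem_normalizer_iff.1 (a hg) z).1 z1) _ (inv_mem z1) (by simpa using z2) (by simpa using z2)
  rwa [mem_bot, mul_inv_eq_one, mul_inv_eq_iff_eq_mul] at this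

theorem cyc4 (hT : IsPGroup 2 T) (hS : S ≤ T) (n : T ≤ normalizer (S : Set G)) (zS : z ∈ S) (z2 : z * z = 1)
    (zc : ∀ g ∈ T, g * z = z * g) (hE : NoE S T z) (sS : s ∈ S) (s1 : s ≠ 1) (sz : s ≠ z) : ∃ c ∈ S, c * c = z ∧
      (∀ g ∈ T, g * c = c * g ∨ g * c = c * z * g) ∧ ∀ x ∈ S, x * c = c * x → x * x = 1 → x = 1 ∨ x = z := by
  have mz : ∀ x, x ∈ zpowers z ↔ x = 1 ∨ x = z := fun x => ⟨fun ⟨k, h⟩ => by
    have : z ^ (2 : ℤ) = 1 := by rw [zpow_two, z2]
    obtain ⟨j, rfl | rfl⟩ := Int.even_or_odd' k <;> simp [← h, zpow_add, zpow_mul, this], by rintro (rfl | rfl) <;> simp⟩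
  have nz : T ≤ normalizer (zpowers z : Set G) := le_trans (fun g hg => by
    rintro _ h; rcases (mz _).1 h with rfl | rfl <;> simp [zc g hg]) (centralizer_le_normalizer _)
  have two : ∀ {K N : Subgroup G} {y : G}, T ≤ normalizer (N : Set G) → T ≤ normalizer (K : Set G) →
      (∀ a ∈ N, ∀ b ∈ N, a ∉ K → b ∉ K → a * b ∈ K) → y ∈ N → y ∉ K → ∀ g ∈ T, y⁻¹ * (g * y * g⁻¹) ∈ K := fun a b d y1 y2 g hg =>
    d _ (inv_mem y1) _ ((mem_normalizer_iff.1 (a hg) _).1 y1) (by simpa using y2) fun h => y2 ((mem_normalizer_iff.1 (b hg) _).2 h)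
  have alt : ∀ {y g : G}, y⁻¹ * (g * y * g⁻¹) = 1 ∨ y⁻¹ * (g * y * g⁻¹) = z → g * y = y * g ∨ g * y = y * z * g := fun h =>
    h.imp (fun h => by rwa [inv_mul_eq_one, eq_mul_inv_iff_mul_eq, eq_comm] at h) fun h => by rwa [inv_mul_eq_iff_eq_mul, mul_inv_eq_iff_eq_mul] at h
  obtain ⟨W, a, b, e, d⟩ := step hT hS nz n (lt_of_le_not_ge (zpowers_le.2 zS) fun h => ((mz s).1 (h sS)).elim s1 sz)
  obtain ⟨c, c1, c2⟩ := SetLike.exists_of_lt b
  have c3 := fun g hg => alt ((mz _).1 (two a nz d c1 c2 g hg))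
  have c4 : c * c = z := ((mz _).1 (d _ c1 _ c1 c2 c2)).resolve_left fun h => c2 ((mz _).2 (hE c (e c1) h c3))
  refine ⟨c, e c1, c4, c3, ?_⟩
  let C := S ⊓ centralizer {c}
  have cz : Commute c z := c4 ▸ (Commute.refl c).mul_right (.refl c)
  have nC : T ≤ normalizer (C : Set G) := fun g hg => H03.mem_normalizer_of_conj_le fun x hx => ⟨(mem_normalizer_iff.1 (n hg) _).1 hx.1, by
    have h1 : Commute x c := mem_centralizer_singleton_iff.1 hx.2
    have h2 : Commute x (g⁻¹ * c * g) := by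
      rcases c3 _ (inv_mem hg) with h | h <;> rw [h, inv_mul_cancel_right]
      exacts [h1, h1.mul_right (zc x (hS hx.1))]
    simpa [mul_assoc] using mem_centralizer_singleton_iff.2 (h2.map (MulAut.conj g)).eq⟩
  obtain ⟨K, ⟨k1, k2, k3, k4⟩, mx⟩ := Set.exists_max_image {K : Subgroup G | T ≤ normalizer (K : Set G) ∧ c ∈ K ∧ K ≤ C ∧
      ∀ x ∈ K, x * x = 1 → x = 1 ∨ x = z} (fun K => Nat.card K) (Set.toFinite _) ⟨W, a, c1, fun x hx => ⟨e hx, mem_centralizer_singleton_iff.2 (by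
        by_cases h : x ∈ zpowers z
        · rcases (mz _).1 h with rfl | rfl; exacts [by simp, cz.symm]
        · rcases (mz _).1 (d _ hx _ c1 h c2) with h | h
          · rw [h, mul_eq_one_comm.1 h]
          · rw [mul_right_cancel (h.trans c4.symm)])⟩, fun x hx h => by_contra fun k => by
        rcases (mz _).1 (d _ hx _ c1 (k ∘ (mz _).1) c2) with e | e
        · obtain rfl := eq_inv_of_mul_eq_one_left e
          exact c2 ((mz _).2 (hE c (‹W ≤ S› c1) (by simpa [← mul_inv_rev] using h) c3))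
        · obtain rfl := mul_right_cancel (e.trans c4.symm)
          exact c2 ((mz _).2 (hE x (‹W ≤ S› c1) h c3))⟩
  suffices K = C from fun x hx h => k4 x (this.ge ⟨hx, mem_centralizer_singleton_iff.2 h⟩)
  by_contra h
  obtain ⟨N, n1, n2, n3, n4⟩ := step hT (inf_le_left.trans hS) k1 nC (k3.lt_of_ne h)
  refine (mx N ⟨n1, n2.le k2, n3, fun y y1 y2 => ?_⟩).not_gt (H04.card_lt_of_lt n2)
  by_cases yK : y ∈ K
  · exact k4 y yK y2
  refine hE y (n3 y1).1 y2 fun g hg => alt (k4 _ (two n1 k1 n4 y1 yK g hg) (inv4 (hT.to_le (k3.trans (inf_le_left.trans hS))) k2 c4 z2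
    (fun x hx => mem_centralizer_singleton_iff.1 (k3 hx).2) k4 (mem_centralizer_singleton_iff.1 (n3 y1).2) (two n1 k1 n4 y1 yK g hg) ?_))
  simp [inv_eq_of_mul_eq_one_left y2, mul_assoc, ← mul_assoc y y, y2]

theorem nof [A.Normal] (hA : ⁅A, A⁆ = A) (T : Sylow 2 G) (c2 : c * c = z) (z2 : z * z = 1)
    (zA : z ∈ A) (zc : ∀ g ∈ T, g * z = z * g) (c3 : ∀ g ∈ T, g * c = c * g ∨ g * c = c * z * g)
    (c4 : ∀ x ∈ A ⊓ T.1, x * c = c * x → x * x = 1 → x = 1 ∨ x = z) (sS : s ∈ A ⊓ T.1) (s2 : s * s = 1) (s1 : s ≠ 1) (sz : s ≠ z)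
    (f2 : f * f = z) (fs : f * s = s * f) : False := by
  have sq : ∀ a ∈ T, ∀ b ∈ T, a * c ≠ c * a → b * c ≠ c * b → a * b * c = c * (a * b) := fun a ha b hb h k => by
    rw [mul_assoc, (c3 b hb).resolve_left k, ← mul_assoc, ← mul_assoc, (c3 a ha).resolve_left h, mul_assoc _ a, zc a ha]
    simp [mul_assoc, ← mul_assoc z, z2]
  have sc : s * c ≠ c * s := fun h => (c4 s sS h s2).elim s1 sz
  obtain ⟨g, -, hg⟩ := tt hA T (K := (A ⊓ T.1) ⊓ centralizer {c}) (relIndex_eq_two_iff.2 ⟨s, sS, fun b hb => by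
    rw [mem_inf (p := A ⊓ T.1), mem_inf (p := A ⊓ T.1), and_iff_right hb, and_iff_right (mul_mem hb sS), mem_centralizer_singleton_iff,
      mem_centralizer_singleton_iff]
    by_cases h : b * c = c * b
    · exact .inr ⟨h, fun k => sc (mul_left_cancel (a := b) (by rw [← mul_assoc, k, ← mul_assoc, ← h, mul_assoc]))⟩
    · exact .inl ⟨sq b hb.2 s sS.2 h sc, h⟩⟩) sS.1 (orderOf_eq_prime (by rwa [pow_two]) s1)
  have e : g * s * g⁻¹ = z := (c4 _ hg.1 (mem_centralizer_singleton_iff.1 hg.2) (by simp [mul_assoc, ← mul_assoc s, s2])).resolve_left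
    (by simpa using s1)
  obtain ⟨h, h1, h2⟩ := H03.exists_conj_mem_of_not_dvd_relIndex T.2 (H03.not_dvd_relIndex_of_le T (C := centralizer {z})
    fun g hg => mem_centralizer_singleton_iff.2 (zc g hg)) (B := zpowers (g * f * g⁻¹)) (IsPGroup.of_card_dvd_pow (n := 2) (by
      rw [Nat.card_zpowers]; refine orderOf_dvd_of_pow_eq_one ?_
      rw [conj_pow, show f ^ 2 ^ 2 = f * f * (f * f) by simp [pow_succ, mul_assoc], f2, z2]; simp))
    (zpowers_le.2 (mem_centralizer_singleton_iff.2 (by simp [← e, mul_assoc, ← mul_assoc f, fs])))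
  have h3 := h2 _ (mem_zpowers _)
  have h4 : h * (g * f * g⁻¹) * h⁻¹ * (h * (g * f * g⁻¹) * h⁻¹) = (h * g) * z * (h * g)⁻¹ := by simp [← f2, mul_assoc]
  have h5 : (h * g) * s * (h * g)⁻¹ = z := by
    rw [mul_assoc h, mul_inv_rev, ← mul_assoc, mul_assoc h, e, mem_centralizer_singleton_iff.1 h1, mul_inv_cancel_right]
  rcases c4 ((h * g) * z * (h * g)⁻¹) ⟨‹A.Normal›.conj_mem _ zA _, by rw [← h4]; exact mul_mem h3 h3⟩ (by
    rw [← h4]
    by_cases k : h * (g * f * g⁻¹) * h⁻¹ * c = c * (h * (g * f * g⁻¹) * h⁻¹)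
    · exact (Commute.mul_left k k).eq
    · exact sq _ h3 _ h3 k k) (by rw [← pow_two, conj_pow, pow_two, z2]; simp) with k | k
  · exact s1 (conj_eq_one_iff.1 (h5.trans (conj_eq_one_iff.1 k)))
  · exact sz (by simpa using h5.trans k.symm)

theorem two_inv [A.Normal] (T : Sylow 2 G) (h : ¬ PRankLE 2 1 A) : A ⊓ T.1 ≠ ⊥ ∧ ∀ z, ∃ s ∈ A ⊓ T.1, s * s = 1 ∧ s ≠ 1 ∧ s ≠ z := by
  suffices ∀ z, ∃ s ∈ A ⊓ T.1, s * s = 1 ∧ s ≠ 1 ∧ s ≠ z from ⟨fun e => (this 1).elim fun s hs => hs.2.2.1 (mem_bot.1 (e ▸ hs.1)), this⟩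
  intro z
  by_contra! k
  refine h fun B _ hB => ?_
  obtain ⟨g, hg⟩ := H03.exists_conj_mem_sylow T ((show IsPGroup 2 B from fun x => ⟨1, Subtype.ext (hB x x.2)⟩).map A.subtype)
  have := Nat.card_le_card_of_injective (β := ({1, z} : Set G)) (fun b : B => ⟨g * b * g⁻¹, or_iff_not_imp_left.2
    (k _ ⟨‹A.Normal›.conj_mem _ b.1.2 _, hg _ ⟨b, b.2, rfl⟩⟩ (by
      rw [← pow_two, conj_pow, show (b : G) ^ 2 = 1 from congrArg Subtype.val (hB b b.2)]; simp))⟩) fun a b e => by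
        ext; simpa using congrArg Subtype.val e
  exact this.trans (by simpa using Set.ncard_insert_le 1 {z})

omit [Finite G] in
theorem perfect (hA : layer A = ⊤) : ⁅A, A⁆ = A := by
  have := congrArg (map A.subtype) (H22.layer_perfect (G := A))
  rwa [map_commutator, hA, ← MonoidHom.range_eq_map, range_subtype] at this

omit [Finite G] in
theorem perfect_sub (hA : ⁅A, A⁆ = A) (h : A ≤ K) : ⁅A.subgroupOf K, A.subgroupOf K⁆ = A.subgroupOf K :=
  map_injective K.subtype_injective (by rwa [map_commutator, map_subgroupOf_eq_of_le h])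

theorem four [A.Normal] (hA : ⁅A, A⁆ = A) {U : Subgroup G} (hU : IsKleinFour U) (h : ∀ u ∈ U, u ≠ 1 → ∀ x ∈ A, ∀ y ∈ A, u * x = x * u →
    u * y = y * u → x * y = y * x → x * x = 1 → y * y = 1 → x ≠ 1 → y = 1 ∨ y = x) : PRankLE 2 1 A := by
  by_contra k
  obtain ⟨T, hT⟩ := (IsPGroup.of_card (p := 2) (n := 2) hU.card_four).exists_le_sylow
  obtain ⟨k0, k⟩ := two_inv T k
  have n : T.1 ≤ normalizer ((A ⊓ T.1 : Subgroup G) : Set G) :=
    (le_inf le_normalizer_of_normal le_normalizer).trans inf_normalizer_le_normalizer_inf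
  obtain ⟨z, zS, z1, z2, zc⟩ := cen T.2 inf_le_right n k0
  have ex : ∀ y, (∀ g ∈ T, g * y = y * g ∨ g * y = y * z * g) → ∃ u ∈ U, u ≠ 1 ∧ u * y = y * u := fun y hy => by
    have := (Finite.one_lt_card_iff_nontrivial (α := U)).1 (by simp)
    obtain ⟨a, ha⟩ := exists_ne (1 : U)
    obtain ⟨b, b1, b2⟩ : ∃ b : U, b ≠ 1 ∧ b ≠ a := by
      by_contra! e
      have := Nat.card_le_card_of_injective (β := ({1, a} : Set U)) (fun b : U => ⟨b, or_iff_not_imp_left.2 (e b)⟩) fun a b e => congrArg Subtype.val e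
      have := this.trans (Set.ncard_insert_le 1 {a})
      simp at this
    rcases hy a (hT a.2) with e | e
    · exact ⟨a, a.2, by simpa using ha, e⟩
    rcases hy b (hT b.2) with e' | e'
    · exact ⟨b, b.2, by simpa using b1, e'⟩
    refine ⟨a * b, mul_mem a.2 b.2, fun h => b2 (by rw [← IsKleinFour.inv_eq_self a]; exact eq_inv_of_mul_eq_one_right (Subtype.ext h)), ?_⟩
    rw [mul_assoc, e', ← mul_assoc, ← mul_assoc, e, mul_assoc _ a.1, zc a (hT a.2)]
    simp [mul_assoc, ← mul_assoc z, z2]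
  have hE : NoE (A ⊓ T.1) T z := fun y y1 y2 y3 => by
    obtain ⟨u, u1, u2, u3⟩ := ex y y3
    exact h u u1 u2 z zS.1 y y1.1 (zc u (hT u1)) u3 (zc y y1.2).symm z2 y2 z1
  obtain ⟨s, sS, s2, s1, sz⟩ := k z
  obtain ⟨c, cS, c2, c3, c4⟩ := cyc4 T.2 inf_le_right n zS z2 zc hE sS s1 sz
  obtain ⟨u, u1, u2, u3⟩ := ex c c3
  have uu : u * u = 1 := congrArg Subtype.val (IsKleinFour.mul_self (⟨u, u1⟩ : U))
  have sc : s * c = c * z * s := (c3 s sS.2).resolve_left fun h => (c4 s sS h s2).elim s1 sz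
  have m : u * s * u⁻¹ ∈ A ⊓ T.1 := (mem_normalizer_iff.1 (n (hT u1)) _).1 sS
  have dK : s * (u * s * u⁻¹) ∈ (A ⊓ T.1) ⊓ centralizer {c} := ⟨mul_mem sS m, mem_centralizer_singleton_iff.2 (by
    have : u⁻¹ * c = c * u⁻¹ := (show Commute u c from u3).inv_left
    have : u * s * u⁻¹ * c = c * z * (u * s * u⁻¹) := by
      rw [mul_assoc, this, ← mul_assoc, mul_assoc u, sc, ← mul_assoc u, ← mul_assoc u, u3, mul_assoc c u, zc u (hT u1)]; simp [mul_assoc]
    rw [mul_assoc, this, ← mul_assoc, ← mul_assoc s, sc, mul_assoc _ s z, zc s sS.2]; simp [mul_assoc, ← mul_assoc z, z2])⟩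
  have si := inv_eq_of_mul_eq_one_left s2
  have ui := inv_eq_of_mul_eq_one_left uu
  rcases c4 _ dK.1 (mem_centralizer_singleton_iff.1 dK.2) (inv4 (K := (A ⊓ T.1) ⊓ centralizer {c}) (T.2.to_le (inf_le_left.trans inf_le_right))
    ⟨cS, mem_centralizer_singleton_iff.2 rfl⟩ c2 z2 (fun x hx => mem_centralizer_singleton_iff.1 hx.2)
    (fun x hx => c4 x hx.1 (mem_centralizer_singleton_iff.1 hx.2)) u3 dK (by simp [si, ui, mul_assoc, uu])) with e | e
  · exact (h u u1 u2 z zS.1 s sS.1 (zc u (hT u1)) (mul_inv_eq_iff_eq_mul.1 ((eq_inv_of_mul_eq_one_right e).trans si))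
      (zc s sS.2).symm z2 s2 z1).elim s1 sz
  · refine nof hA T c2 z2 zS.1 zc c3 c4 sS s2 s1 sz (f := c * u) (by rw [mul_assoc, ← mul_assoc u, u3, mul_assoc, uu, mul_one, c2]) ?_
    rw [← mul_assoc, sc, mul_assoc, mul_assoc, mul_assoc, ← mul_assoc z, ← zc s sS.2, ← e, ← mul_assoc s s, s2]; simp

end H12.Rk1
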