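import Cfsg.Agent.H12.Rk1
import Cfsg.Agent.H04.Quat2
import Cfsg.Agent.H03.Meta2

/-!
# Transfer helpers and the case without invariant four-group (`H12.Rk2.tr`, `xt`, `mta`, `noE`)
-/

namespace H12.Rk2
open Subgroup Cfsg H12.Rk1
open scoped commutatorElement IsMulCommutative

variable {G : Type*} [Group G] [Finite G] {A S K N : Subgroup G} {b c d e f n r s t u w y z : G}

omit [Finite G] in
theorem ctop (hA : ⁅A, A⁆ = A) : commutator A = ⊤ :=
  map_injective A.subtype_injective (by rw [map_subtype_commutator, hA, ← MonoidHom.range_eq_map, range_subtype])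

theorem tr [A.Normal] (hA : ⁅A, A⁆ = A) (T : Sylow 2 G) (hN : ∀ x ∈ A ⊓ T.1, x * x ∈ N) (uS : u ∈ A ⊓ T.1)
    (h : ∀ k : ℕ, ∀ g ∈ A, g⁻¹ * u ^ k * g ∈ T → (g⁻¹ * u ^ k * g)⁻¹ * u ^ k ∈ N) : u ∈ N := by
  let P := T.1.subgroupOf A
  let M : Subgroup P := N.comap (A.subtype.comp P.subtype)
  have sq : ∀ x : P, x * x ∈ M := fun x => hN _ ⟨x.1.2, x.2⟩
  have cm : commutator P ≤ M := commutator_le.2 fun a _ b _ => by
    simpa [commutatorElement_def, mul_assoc] using mul_mem (mul_mem (sq a) (sq (a⁻¹ * b))) (sq b⁻¹)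
  have := Normal.of_commutator_le _ cm
  have := Normal.quotient_commutative_iff_commutator_le.2 cm
  by_contra hu
  let v : P := ⟨⟨u, (mem_inf.1 uS).1⟩, (mem_inf.1 uS).2⟩
  refine H03.exists_normal_notMem_of_transfer (p := 2) (H := P) (H03.not_dvd_relIndex_inf_normal T A) (A := P ⧸ M)
    (fun q => ⟨1, ?_⟩) (QuotientGroup.mk' M) v.1 (QuotientGroup.mk v) (fun e => hu ((QuotientGroup.eq_one_iff (N := M) v).1 e))
    (fun k g hk => ?_) (H03.map_eq_one_of_mem_commutator _ ((ctop hA).ge trivial))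
  · obtain ⟨x, rfl⟩ := QuotientGroup.mk_surjective q
    rw [pow_one, pow_two, ← QuotientGroup.mk_mul, QuotientGroup.eq_one_iff]; exact sq x
  · rw [← QuotientGroup.mk_pow, QuotientGroup.mk'_apply, QuotientGroup.eq]
    exact h k g g.2 hk

theorem tr2 [A.Normal] (hA : ⁅A, A⁆ = A) (T : Sylow 2 G) (hN : ∀ x ∈ A ⊓ T.1, x * x ∈ N) (uS : u ∈ A ⊓ T.1) (u2 : u * u = 1)
    (hu : u ∉ N) : ∃ g ∈ A, g⁻¹ * u * g ∈ T ∧ g⁻¹ * u * g * u ∉ N := by
  by_contra! h
  refine hu (tr hA T hN uS fun k g hg m => ?_)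
  obtain ⟨j, rfl | rfl⟩ := Nat.even_or_odd' k
  · simp [pow_mul, pow_two, u2]
  · simp only [pow_succ, pow_mul, pow_zero, one_mul, u2, one_pow] at m ⊢
    simpa [inv_eq_of_mul_eq_one_left u2, mul_assoc] using h g hg m

theorem odd [A.Normal] (T : Sylow 2 G) (h : A ⊓ T.1 ≤ K) (k : K ≤ A) : ¬ 2 ∣ (A ⊓ T.1).relIndex K := fun e =>
  H03.not_dvd_relIndex_inf_normal T A (by
    rw [← inf_relIndex_left, ← relIndex_mul_relIndex _ _ _ h k]; exact e.mul_right _)

/-- extremal conjugation inside `A` -/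
theorem xt [A.Normal] (T : Sylow 2 G) (h : ∀ x ∈ A ⊓ T.1, x * y = y * x) (hK : IsPGroup 2 K) (k : ∀ x ∈ K, x ∈ A ∧ x * y = y * x) :
    ∃ g ∈ A, g * y = y * g ∧ ∀ x ∈ K, g * x * g⁻¹ ∈ A ⊓ T.1 := by
  obtain ⟨g, g1, g2⟩ := H03.exists_conj_mem_of_not_dvd_relIndex (T.2.to_le inf_le_right) (odd T (K := A ⊓ centralizer {y})
    (fun x hx => ⟨hx.1, mem_centralizer_singleton_iff.2 (h x hx)⟩) inf_le_left) hK
    fun x hx => ⟨(k x hx).1, mem_centralizer_singleton_iff.2 (k x hx).2⟩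
  exact ⟨g, g1.1, mem_centralizer_singleton_iff.1 g1.2, g2⟩

theorem mta [A.Normal] (hA : ⁅A, A⁆ = A) (T : Sylow 2 G) (nS : n ∈ A ⊓ T.1) (hn : ∀ g ∈ A ⊓ T.1, g * n * g⁻¹ ∈ zpowers n)
    (bS : b ∈ A ⊓ T.1) (gen : A ⊓ T.1 ≤ zpowers n ⊔ zpowers b) : b * b ∈ zpowers n := by
  have mz : ∀ x : A, x ∈ zpowers (⟨n, nS.1⟩ : A) ↔ x.1 ∈ zpowers n := fun x => by
    rw [← mem_map_iff_mem A.subtype_injective, MonoidHom.map_zpowers]; rfl
  by_contra h
  have := H03.sol_of_meta (H03.sylowInf T.1 T.2 A (H03.not_dvd_relIndex_inf_normal T A)) (N := zpowers ⟨n, nS.1⟩) (b := ⟨b, bS.1⟩)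
    ⟨(H03.sylowInf ..).2, zpowers_le.2 nS.2, fun g hg => H03.mem_normalizer_of_conj_le (by
      rintro _ ⟨k, rfl⟩
      rw [← conj_zpow]; exact zpow_mem ((mz _).2 (hn g ⟨g.2, hg⟩)) _), inferInstance, bS.2, fun x hx => by
        rw [← mem_map_iff_mem A.subtype_injective, Subgroup.map_sup, MonoidHom.map_zpowers, MonoidHom.map_zpowers]
        exact gen ⟨x.2, hx⟩, fun e => h (by simpa [pow_two] using (mz _).1 e)⟩
  have : Nontrivial A := ⟨⟨b, bS.1⟩, 1, fun e => h (by simp [show b = 1 from congrArg Subtype.val e])⟩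
  exact (Group.IsSolvable.commutator_lt_top_of_nontrivial A).ne (ctop hA)

theorem uq (hK : IsCyclic K) (yK : y ∈ K) (zK : z ∈ K) (y2 : y * y = 1) (z2 : z * z = 1) (z1 : z ≠ 1) : y = 1 ∨ y = z := by
  classical
  by_contra! h
  have := Fintype.ofFinite K
  have := (Finset.card_le_card (s := {1, ⟨y, yK⟩, ⟨z, zK⟩}) (by
    simp [Finset.insert_subset_iff, pow_two, y2, z2, Subtype.ext_iff])).trans (IsCyclic.card_pow_eq_one_le (α := K) (n := 2) two_pos)
  rw [Finset.card_eq_three.2 ⟨_, _, _, fun e => h.1 (congrArg Subtype.val e).symm, fun e => z1 (congrArg Subtype.val e).symm,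
    fun e => h.2 (congrArg Subtype.val e), rfl⟩] at this
  omega

omit [Finite G] in
theorem ext (N : Subgroup G) (hw : ∀ x ∈ N, w⁻¹ * x * w ∈ N) (w2 : w * w ∈ N) : ∃ M : Subgroup G, ∀ x, x ∈ M ↔ x ∈ N ∨ x * w ∈ N :=
  ⟨⟨⟨⟨{x | x ∈ N ∨ x * w ∈ N}, fun {a b} h k => by
    rcases h with h | h <;> rcases k with k | k
    · exact .inl (mul_mem h k)
    · exact .inr (by simpa [mul_assoc] using mul_mem h k)
    · exact .inr (by simpa [mul_assoc] using mul_mem h (hw _ k))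
    · exact .inl (by simpa [mul_assoc] using mul_mem (mul_mem h (hw _ k)) (inv_mem w2))⟩, .inl (one_mem _)⟩, fun {a} h => h.imp inv_mem fun h => by
      simpa [mul_assoc] using hw _ (mul_mem w2 (inv_mem h))⟩, fun _ => .rfl⟩

omit [Finite G] in
theorem cz (hK : IsPGroup 2 K) (cK : c ∈ K) (c2 : c * c = z) (z2 : z * z = 1) (h : ∀ x ∈ K, x * c = c * x) (k : ∀ x ∈ K, x * x = 1 → x = 1 ∨ x = z)
    (yc : y * c ≠ c * y) (dK : d ∈ K) (yd : Commute y d) : d * d = 1 := by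
  obtain ⟨n, hn⟩ := hK ⟨d, dK⟩
  replace hn : d ^ 2 ^ n = 1 := congrArg Subtype.val hn
  induction n generalizing d with
  | zero => simp [show d = 1 by simpa using hn]
  | succ n ih =>
    refine (k _ (mul_mem dK dK) (ih (mul_mem dK dK) (yd.mul_right yd) (by rw [← sq, ← pow_mul, ← pow_succ', hn]))).elim id fun e => (yc ?_).elim
    rcases k _ (mul_mem dK cK) (by rw [mul_assoc, ← mul_assoc c, ← h d dK, mul_assoc, c2, ← mul_assoc, e, z2]) with e' | e'
    · rw [eq_inv_of_mul_eq_one_right e']; exact yd.inv_right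
    · rw [mul_left_cancel (e'.trans e.symm)]; exact yd

theorem ccyc (hK : IsPGroup 2 K) (cK : c ∈ K) (c2 : c * c ≠ 1) (h : ∀ x ∈ K, x * c = c * x) (k : ∀ x ∈ K, x * x = 1 → x = 1 ∨ x = z) :
    IsCyclic K := by
  have h2 : ∀ L : Subgroup K, Nat.card L = 2 → ∀ a ∈ L, a.1 = 1 ∨ a.1 = z := fun L hL a ha => k _ a.2 (by
    have := pow_card_eq_one' (x := (⟨a, ha⟩ : L))
    rw [hL, sq] at this
    exact congrArg (fun x : L => x.1.1) this)
  have h1 : ∀ H L : Subgroup K, Nat.card H = 2 → Nat.card L = 2 → H ≤ L := fun H L hH hL x hx => by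
    obtain ⟨y, hy, -⟩ := (Nat.card_eq_two_iff' (1 : L)).1 hL
    rcases h2 H hH x hx with e | e
    · rw [show x = 1 from Subtype.ext e]; exact one_mem _
    · rw [show x = y from Subtype.ext (e.trans ((h2 L hL _ y.2).resolve_left fun e => hy (Subtype.ext (Subtype.ext e))).symm)]; exact y.2
  refine (H04.isCyclic_or_dsq_of_unique hK fun H L a b => (h1 H L a b).antisymm (h1 L H b a)).resolve_right fun ⟨_, _, _, d, _⟩ => c2 ?_
  simpa [pow_two] using congrArg Subtype.val (d.sq_eq_one_of_mem_center (z := ⟨c, cK⟩) (mem_center_iff.2 fun x => Subtype.ext (h x x.2)))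

omit [Finite G] in
theorem two (z2 : z * z = 1) (za : b * z = z * b) (ha : b * w = w * z * b) (hb : d * w = w * z * d) : b * d * w = w * (b * d) := by
  rw [mul_assoc, hb, ← mul_assoc, ← mul_assoc, ha, mul_assoc _ b, za]; simp [mul_assoc, ← mul_assoc z, z2]

omit [Finite G] in
theorem sqc (z2 : z * z = 1) (za : b * z = z * b) (ha : b * w = w * b ∨ b * w = w * z * b) : b * b * w = w * (b * b) :=
  ha.elim (fun h => (Commute.mul_left h h).eq) fun h => two z2 za h h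

section
variable [A.Normal] (hA : ⁅A, A⁆ = A) (T : Sylow 2 G) (cS : c ∈ A ⊓ T.1) (c2 : c * c = z) (z2 : z * z = 1) (zc : ∀ g ∈ T, g * z = z * g)
  (c3 : ∀ g ∈ T, g * c = c * g ∨ g * c = c * z * g) (c4 : ∀ x ∈ A ⊓ T.1, x * c = c * x → x * x = 1 → x = 1 ∨ x = z)
  (uT : u ∈ T) (u2 : u * u = 1) (uc : u * c = c * u)
include cS c2 z2 zc c3 c4 uT u2 uc

omit [Finite G] in
theorem n0 (yS : y ∈ A ⊓ T.1) : y * u = u * y ∨ y * u = u * z * y := by
  have ui := inv_eq_of_mul_eq_one_left u2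
  have h1 : Commute u (y⁻¹ * c * y) := by
    rcases c3 _ (inv_mem yS.2) with h | h <;> rw [h, inv_mul_cancel_right]
    exacts [uc, Commute.mul_right uc (zc u uT)]
  have dK : y * (u * y⁻¹ * u⁻¹) ∈ (A ⊓ T.1) ⊓ centralizer {c} :=
    ⟨mul_mem yS ⟨‹A.Normal›.conj_mem _ (inv_mem yS).1 _, T.1.mul_mem (T.1.mul_mem uT (inv_mem yS).2) (T.1.inv_mem uT)⟩, mem_centralizer_singleton_iff.2 (by
      calc _ = y * (u * (y⁻¹ * c * y)) * y⁻¹ * u⁻¹ := by simp [mul_assoc, (show Commute u c from uc).inv_left.eq]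
        _ = _ := by rw [h1.eq]; simp [mul_assoc])⟩
  refine (c4 _ dK.1 (mem_centralizer_singleton_iff.1 dK.2) (inv4 (K := (A ⊓ T.1) ⊓ centralizer {c}) (T.2.to_le (inf_le_left.trans inf_le_right))
    ⟨cS, mem_centralizer_singleton_iff.2 rfl⟩ c2 z2 (fun x hx => mem_centralizer_singleton_iff.1 hx.2)
    (fun x hx => c4 x hx.1 (mem_centralizer_singleton_iff.1 hx.2)) uc dK (by simp [ui, mul_assoc]))).imp (fun e => ?_) fun e => ?_
  · rw [← one_mul (u * y), ← e]; simp [mul_assoc]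
  · rw [zc u uT, ← e]; simp [mul_assoc]

include hA in
theorem n1 (sS : s ∈ A ⊓ T.1) (s2 : s * s = 1) : s * u = u * s := by
  by_cases h : s = 1 ∨ s = z
  · rcases h with rfl | rfl; exacts [by simp, (zc u uT).symm]
  refine (n0 T cS c2 z2 zc c3 c4 uT u2 uc sS).resolve_right fun e => nof hA T c2 z2 (c2 ▸ mul_mem cS.1 cS.1) zc c3 c4 sS s2
    (fun e => h (.inl e)) (fun e => h (.inr e)) (f := c * u) (by rw [mul_assoc, ← mul_assoc u, uc, mul_assoc, u2, mul_one, c2]) ?_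
  rw [← mul_assoc, (c3 s sS.2).resolve_left fun k => h (c4 s sS k s2), mul_assoc _ s, e, ← mul_assoc, ← mul_assoc, mul_assoc c z, ← zc u uT]
  simp [mul_assoc, ← mul_assoc z, z2]

end

theorem noE [A.Normal] (hA : ⁅A, A⁆ = A) (T : Sylow 2 G) (tT : t ∈ T) (t2 : t * t = 1) (rS : r ∈ A ⊓ T.1) (r2 : r * r = z) (rt : t * r = r * t)
    (z1 : z ≠ 1) (z2 : z * z = 1) (zc : ∀ g ∈ T, g * z = z * g) (ct : ∀ x ∈ A ⊓ T.1, t * x = x * t → x = 1 ∨ x = z ∨ x = r ∨ x = r * z)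
    (H : ∀ g : G, g * t * g⁻¹ ∈ T → ∀ x ∈ A ⊓ T.1, x * x = 1 → x * (g * t * g⁻¹) = g * t * g⁻¹ * x → x = 1 ∨ x = z)
    (hE : NoE (A ⊓ T.1) T z) (sS : s ∈ A ⊓ T.1) (s2 : s * s = 1) (s1 : s ≠ 1) (sz : s ≠ z) : False := by
  obtain ⟨c, cS, c2, c3, c4⟩ := cyc4 T.2 inf_le_right ((le_inf le_normalizer_of_normal le_normalizer).trans inf_normalizer_le_normalizer_inf)
    (r2 ▸ mul_mem rS rS) z2 zc hE sS s1 sz
  have cz' : Commute c z := zc c cS.2
  have key : ∀ g, g * t * g⁻¹ ∈ T → g * t * g⁻¹ * c ≠ c * (g * t * g⁻¹) := fun g hg h =>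
    (H g hg s sS s2 (n1 hA T cS c2 z2 zc c3 c4 hg (by simp [mul_assoc, ← mul_assoc t, t2]) h sS s2)).elim s1 sz
  have cc : ∀ x ∈ A ⊓ T.1, x * x = z → x * c = c * x → ∀ y, Commute y x → Commute y c := fun x hx h k y hy => by
    rcases c4 _ (mul_mem hx cS) (by rw [mul_assoc, ← mul_assoc c, ← k, mul_assoc]) (by
      rw [mul_assoc, ← mul_assoc c, ← k, mul_assoc, c2, ← mul_assoc, h, z2]) with e | e
    · rw [eq_inv_of_mul_eq_one_right e]; exact hy.inv_right
    · rw [mul_left_cancel (e.trans h.symm)]; exact hy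
  have tc : t * c ≠ c * t := by simpa using key 1 (by simpa)
  have rc : r * c = c * z * r := (c3 r rS.2).resolve_left fun h => tc (cc r rS r2 h t rt)
  have vc : r * t * c = c * (r * t) := two z2 (zc r rS.2) rc ((c3 t tT).resolve_left tc)
  obtain ⟨v, hv⟩ : ∃ v, v = c * (r * t) := ⟨_, rfl⟩
  have vT : v ∈ T := hv ▸ mul_mem cS.2 (mul_mem rS.2 tT)
  have v2 : v * v = 1 := by
    rw [hv, mul_assoc, ← mul_assoc (r * t), vc, mul_assoc c, ← mul_assoc c c, c2, mul_assoc, ← mul_assoc t, rt, mul_assoc, t2, mul_one, r2, z2]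
  have vc' : v * c = c * v := by rw [hv, mul_assoc, vc]
  have a0 := fun y => n0 T cS c2 z2 zc c3 c4 vT v2 vc' (y := y)
  have a1 := fun y => n1 hA T cS c2 z2 zc c3 c4 vT v2 vc' (s := y)
  have rv : r * v ≠ v * r := fun h => z1 (by
    rw [hv, ← mul_assoc, rc, mul_assoc c (r * t), mul_assoc r, rt, mul_assoc, mul_assoc, mul_right_inj] at h; simpa using h)
  refine rv (mem_centralizer_singleton_iff.1 (tr hA T (fun x hx => mem_centralizer_singleton_iff.2 (sqc z2 (zc x hx.2) (a0 x hx))) rS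
    fun k g hg m => mem_centralizer_singleton_iff.2 ?_))
  have qS := pow_mem rS k
  have qt : Commute t (r ^ k) := Commute.pow_right rt k
  generalize r ^ k = q at *
  obtain ⟨p, hp⟩ : ∃ p, p = g⁻¹ * q * g := ⟨_, rfl⟩
  have pp : p * p = g⁻¹ * (q * q) * g := by simp [hp, mul_assoc]
  have pS : p ∈ A ⊓ T.1 := hp ▸ ⟨A.mul_mem (A.mul_mem (inv_mem hg) qS.1) hg, m⟩
  rw [← hp]
  by_cases q2 : q * q = 1
  · exact (Commute.mul_left (Commute.inv_left (a1 p pS (by rw [pp, q2]; simp))) (a1 q qS q2)).eq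
  have ⟨q2, qv⟩ : q * q = z ∧ q * v ≠ v * q := by
    rcases ct q qS qt with e | e | e | e
    · simp [e] at q2
    · exact (q2 (e ▸ z2)).elim
    · exact ⟨e ▸ r2, e ▸ rv⟩
    · refine ⟨by rw [e, mul_assoc, ← mul_assoc z, ← zc r rS.2, mul_assoc, z2, mul_one, r2], fun h => rv ?_⟩
      rwa [e, mul_assoc, ← zc v vT, ← mul_assoc, ← mul_assoc, mul_left_inj] at h
  refine two z2 (zc _ (inv_mem pS).2) ((a0 _ (inv_mem pS)).resolve_left fun h => ?_) ((a0 q qS).resolve_left qv)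
  have pv : Commute p v := by simpa using (show Commute p⁻¹ v from h).inv_left
  have p2 : p * p = z := (c4 _ (mul_mem pS pS) (sqc z2 (zc p pS.2) (c3 p pS.2)) (by
    rw [pp, q2]; simp [mul_assoc, ← mul_assoc z, z2])).resolve_left (by rw [pp, q2]; simpa using mt (conj_eq_one_iff (a := g⁻¹)).1 z1)
  by_cases pc : p * c = c * p
  · have tc' : Commute (g⁻¹ * t * g) c := cc p pS p2 pc _ (by simpa [hp] using qt.map (MulAut.conj g⁻¹))
    obtain ⟨h, h1, h2⟩ := H03.exists_conj_mem_of_not_dvd_relIndex T.2 (H03.not_dvd_relIndex_of_le T (C := normalizer (zpowers c : Set G))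
      fun g hg => H03.mem_normalizer_of_conj_le (by
        rintro _ ⟨k, rfl⟩
        rw [← conj_zpow]; refine zpow_mem ?_ _
        rcases c3 g hg with e | e <;> rw [e, mul_inv_cancel_right]
        exacts [mem_zpowers c, c2 ▸ mul_mem (mem_zpowers c) (mul_mem (mem_zpowers c) (mem_zpowers c))])) (B := zpowers (g⁻¹ * t * g))
      (IsPGroup.of_card_dvd_pow (n := 1) (by
        rw [Nat.card_zpowers]; exact orderOf_dvd_of_pow_eq_one (by simp [pow_two, mul_assoc, ← mul_assoc t, t2])))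
      (zpowers_le.2 (centralizer_le_normalizer _ (by rintro _ ⟨k, rfl⟩; exact (tc'.symm.zpow_left k).eq)))
    obtain ⟨k, hk⟩ := H03.conj_mem_of_mem_normalizer' h1 (mem_zpowers c)
    refine key (h * g⁻¹) (by have := h2 _ (mem_zpowers _); rw [mul_inv_rev, inv_inv]; simp only [mul_assoc] at this ⊢; exact this) ?_
    have := (tc'.zpow_right k).map (MulAut.conj h)
    simp only at hk
    simpa [hk, mul_assoc] using this.eq
  have sc := (c3 s sS.2).resolve_left fun h => (c4 s sS h s2).elim s1 sz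
  let C := (A ⊓ T.1) ⊓ centralizer {c}
  have hC : IsPGroup 2 C := T.2.to_le (inf_le_left.trans inf_le_right)
  have k1 : ∀ x ∈ C, x * c = c * x := fun x hx => mem_centralizer_singleton_iff.1 hx.2
  have k2 : ∀ x ∈ C, x * x = 1 → x = 1 ∨ x = z := fun x hx => c4 x hx.1 (k1 x hx)
  have cC : c ∈ C := ⟨cS, mem_centralizer_singleton_iff.2 rfl⟩
  obtain ⟨a, ha⟩ := (Subgroup.isCyclic_iff_exists_zpowers_eq_top C).1 (ccyc hC cC (c2 ▸ z1) k1 k2)
  have aC : a ∈ C := ha ▸ mem_zpowers a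
  have sv : Commute s v := a1 s sS s2
  have av : ¬ Commute a v := fun h => by
    obtain ⟨i, hi⟩ := ha.ge (show r * s ∈ C from ⟨mul_mem rS sS, mem_centralizer_singleton_iff.2 (two z2 (zc r rS.2) rc sc)⟩)
    have := (h.zpow_left i).mul_left sv.inv_left
    simp only at hi
    rw [hi, mul_inv_cancel_right] at this; exact rv this
  obtain ⟨i, hi⟩ := ha.ge (show p * s ∈ C from ⟨mul_mem pS sS, mem_centralizer_singleton_iff.2 (two z2 (zc p pS.2) ((c3 p pS.2).resolve_left pc) sc)⟩)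
  simp only at hi
  have si := inv_eq_of_mul_eq_one_left s2
  obtain ⟨j, rfl | rfl⟩ := Int.even_or_odd' i
  · have m : s * a * s⁻¹ ∈ C := ⟨⟨‹A.Normal›.conj_mem _ aC.1.1 _, T.1.mul_mem (T.1.mul_mem sS.2 aC.1.2) (inv_mem sS).2⟩, mem_centralizer_singleton_iff.2 (by
      have : Commute a (c * z) := Commute.mul_right (k1 a aC) (zc a aC.1.2)
      rw [si, mul_assoc, sc, mul_assoc, ← mul_assoc a, this.eq, ← mul_assoc, ← mul_assoc, ← mul_assoc, ← mul_assoc, sc, mul_assoc _ s z, zc s sS.2]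
      simp [mul_assoc, ← mul_assoc z, z2])⟩
    have cm : Commute (s * a * s⁻¹) a := by obtain ⟨l, hl⟩ := ha.ge m; rw [← hl]; exact (Commute.refl a).zpow_left l
    have w2 := cz hC cC c2 z2 k1 k2 (y := s) (fun h => (c4 s sS h s2).elim s1 sz) (mul_mem m aC) (by
      rw [Commute, SemiconjBy]; nth_rw 2 [cm.eq]; rw [← mul_assoc, ← mul_assoc, ← mul_assoc, s2, si]; simp [mul_assoc, s2])
    have : s * a ^ 2 * s⁻¹ = (a ^ 2)⁻¹ := by
      rw [← conj_pow]; exact eq_inv_of_mul_eq_one_left (by rw [← cm.mul_pow, pow_two, w2])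
    have e := congrArg (· ^ j) this
    simp only [conj_zpow, ← zpow_natCast, ← zpow_mul, inv_zpow, Nat.cast_ofNat, hi] at e
    refine z1 (p2.symm.trans ?_)
    rw [mul_eq_one_iff_eq_inv]
    simpa [si, mul_assoc, s2] using e
  · have := ((show Commute (a * a) v from sqc z2 (zc a aC.1.2) (a0 a aC.1)).zpow_left j).inv_left.mul_left (pv.mul_left sv)
    rw [← hi, zpow_add, zpow_mul, zpow_two, inv_mul_cancel_left, zpow_one] at this
    exact av this

end H12.Rk2
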