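import Cfsg.Agent.H12.Rk2
import Cfsg.Agent.H04.MaxClass

/-!
# An involution whose fixed points on a Sylow `2`-subgroup are cyclic of order `4` (`H12.Rk3.Cx`, `Str`, `main`)
-/

namespace H12.Rk3
open Subgroup Cfsg H12.Rk1 H12.Rk2
open scoped commutatorElement

variable {G : Type*} [Group G] [Finite G] {A B E N : Subgroup G} {b c e g r t x y z : G}

theorem qa (hG : IsPGroup 2 G) (h4 : Nat.card (centralizer {t}) ≤ 2 ^ 2) (h2 : ∀ x, x * t = t * x → x * x = 1) (h : x * t ≠ t * x) :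
    ∃ a, (zpowers a).index = 2 ∧ t ∉ zpowers a ∧ (∃ k : ℕ, (a * a) ^ k ≠ 1 ∧ (a * a) ^ k * t = t * (a * a) ^ k) ∧
      ∀ x ∈ zpowers a, x * x = 1 → x * t = t * x := by
  obtain ⟨n, hn⟩ := IsPGroup.iff_card.1 hG
  obtain ⟨m, rfl⟩ := Nat.exists_eq_add_of_le' (show 3 ≤ n from by_contra fun k => h ((H04.isMulCommutative_of_card_le_sq hG
    (hn ▸ Nat.pow_le_pow_right two_pos (by omega))).is_comm.comm _ _))
  obtain ⟨a, b, d⟩ := H04.dsq_of_maxClass hn (H04.maxClass_of_card_centralizer_le (n := m + 1) hn h4)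
  refine ⟨a, d.index, fun ⟨i, hi⟩ => d.pow_ne_one (k := 1) (by omega) (by
    rw [pow_one, pow_two]; exact h2 a (hi ▸ ((Commute.refl a).zpow_right i).eq)), ⟨2 ^ m, ?_⟩, ?_⟩
  · rw [← pow_two, ← pow_mul, ← pow_succ']
    exact ⟨d.pow_ne_one le_rfl, (mem_center_iff.1 (d.center_eq.ge (mem_zpowers _)) t).symm⟩
  · rintro _ ⟨i, rfl⟩ k
    obtain ⟨j, hj⟩ := (d.zpow_eq (i := i + i) (j := 0)).1 (by simpa [zpow_add] using k)
    refine (mem_center_iff.1 (d.center_eq.ge ⟨j, ?_⟩) t).symm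
    rw [show i = (2 ^ (m + 1) : ℕ) * j by push_cast; rw [pow_succ] at hj; linarith]
    simp only [zpow_mul, zpow_natCast]

structure Cx (A : Subgroup G) (T : Sylow 2 G) (E : Subgroup G) (t r z e : G) : Prop where
  hA : ⁅A, A⁆ = A
  hG : ∀ x, x ∈ A ∨ x * t ∈ A
  tT : t ∈ T
  tA : t ∉ A
  t2 : t * t = 1
  rS : r ∈ A ⊓ T.1
  r2 : r * r = z
  rt : t * r = r * t
  z1 : z ≠ 1
  z2 : z * z = 1
  zc : ∀ g ∈ T, g * z = z * g
  ct : ∀ x ∈ A ⊓ T.1, t * x = x * t → x = 1 ∨ x = z ∨ x = r ∨ x = r * z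
  eS : e ∈ A ⊓ T.1
  e2 : e * e = 1
  e1 : e ≠ 1
  ez : e ≠ z
  ec : ∀ g ∈ T, g * e = e * g ∨ g * e = e * z * g
  mE : ∀ x, x ∈ E ↔ x = 1 ∨ x = z ∨ x = e ∨ x = e * z

structure Str (A : Subgroup G) (T : Sylow 2 G) (E B : Subgroup G) (b t r z e : G) : Prop where
  bB : b ∈ B
  le : B ≤ T
  eB : E ≤ B
  tB : t ∉ B
  idx : ∀ x ∈ T, ∀ y ∈ T, x ∉ B → y ∉ B → x * y ∈ B
  gen : B ≤ zpowers b ⊔ E
  zb : z ∈ zpowers (b * b)
  inv : ∀ x ∈ B, x ∈ A → x * x = 1 → x ∈ E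
  re : r * e = e * r
  rB : r ∈ B

namespace Cx
variable {T : Sylow 2 G} (h : Cx A T E t r z e)
include h
omit [Finite G]

theorem zS : z ∈ A ⊓ T.1 := h.r2 ▸ mul_mem h.rS h.rS
theorem zz (x : G) : z * (z * x) = x := by rw [← mul_assoc, h.z2, one_mul]
theorem ee (x : G) : e * (e * x) = x := by rw [← mul_assoc, h.e2, one_mul]
theorem tt' (x : G) : t * (t * x) = x := by rw [← mul_assoc, h.t2, one_mul]
theorem ze : z * e = e * z := (h.zc e h.eS.2).symm
theorem rz2 : r * z * (r * z) = z := by rw [mul_assoc, ← mul_assoc z, ← h.zc r h.rS.2, mul_assoc, h.z2, mul_one, h.r2]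
theorem ct2 (xS : x ∈ A ⊓ T.1) (xt : t * x = x * t) (x2 : x * x = 1) : x = 1 ∨ x = z := by
  rcases h.ct x xS xt with k | k | k | k
  exacts [.inl k, .inr k, (h.z1 (h.r2.symm.trans (k ▸ x2))).elim, (h.z1 (h.rz2.symm.trans (k ▸ x2))).elim]
theorem te : t * e = e * z * t := (h.ec t h.tT).resolve_left fun k => (h.ct2 h.eS k h.e2).elim h.e1 h.ez
theorem zE : z ∈ E := (h.mE _).2 (by simp)
theorem eE : e ∈ E := (h.mE _).2 (by simp)
theorem ES : E ≤ A ⊓ T.1 := fun y hy => by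
  rcases (h.mE y).1 hy with rfl | rfl | rfl | rfl
  exacts [one_mem _, h.zS, h.eS, mul_mem h.eS h.zS]
theorem E2 (hy : y ∈ E) : y * y = 1 := by
  rcases (h.mE y).1 hy with rfl | rfl | rfl | rfl
  exacts [one_mul _, h.z2, h.e2, by rw [mul_assoc, ← mul_assoc z, h.ze, mul_assoc, h.z2, mul_one, h.e2]]
theorem EK (hy : y ∈ E) (hg : g ∈ T) (k : g * e = e * g) : g * y = y * g := by
  rcases (h.mE y).1 hy with rfl | rfl | rfl | rfl
  exacts [by simp, h.zc g hg, k, Commute.mul_right k (h.zc g hg)]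
theorem Ec (hy : y ∈ E) (hg : g ∈ T) : g * y = y * g ∨ g * y = y * z * g := by
  refine (h.ec g hg).elim (fun k => .inl (h.EK hy hg k)) fun k => ?_
  rcases (h.mE y).1 hy with rfl | rfl | rfl | rfl
  exacts [by simp, .inl (h.zc g hg), .inr k, .inr (by rw [← mul_assoc, k, mul_assoc _ g, h.zc g hg, ← mul_assoc])]
theorem nE [Finite G] : T.1 ≤ normalizer (E : Set G) := fun g hg => H03.mem_normalizer_of_conj_le fun y hy => by
  rcases h.Ec hy hg with k | k <;> rw [k, mul_inv_cancel_right]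
  exacts [hy, mul_mem hy h.zE]
theorem mulA [A.Normal] (hx : x ∉ A) (hy : y ∉ A) : x * y ∈ A := by
  simpa [mul_assoc, h.tt'] using mul_mem ((h.hG x).resolve_left hx) (‹A.Normal›.conj_mem _ ((h.hG y).resolve_left hy) t)
theorem sqA [A.Normal] (x : G) : x * x ∈ A := by
  by_cases k : x ∈ A; exacts [mul_mem k k, h.mulA k k]
theorem dec [Finite G] (hb : b ∈ T) (hx : x ∈ zpowers b ⊔ E) : ∃ i : ℕ, ∃ y ∈ E, b ^ i * y = x := by
  rw [← SetLike.mem_coe, coe_mul_of_left_le_normalizer_right _ _ (zpowers_le.2 (h.nE hb))] at hx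
  obtain ⟨_, k, y, hy, rfl⟩ := hx
  obtain ⟨i, rfl⟩ := mem_powers_iff_mem_zpowers.2 k
  exact ⟨i, y, hy, rfl⟩

theorem small [Finite G] [A.Normal] (k : ∀ x ∈ A ⊓ T.1, x ∈ E ∨ r⁻¹ * x ∈ E) : False := by
  have rE : ∀ x, r⁻¹ * x ∈ E → x * r = r * x → x * x = z := fun x hx c => by
    have : r * (r⁻¹ * x) = r⁻¹ * x * r := by simp [mul_assoc, c]
    calc x * x = r * (r⁻¹ * x * r) * (r⁻¹ * x) := by simp [mul_assoc]
      _ = z := by rw [← this, mul_assoc, mul_assoc, h.E2 hx, mul_one, h.r2]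
  rcases h.ec r h.rS.2 with re | re
  · have := mta h.hA T h.eS (b := r) (fun g hg => by
      have : Commute g e := (k g hg).elim (fun k => (h.EK k h.eS.2 rfl).symm) fun k => by
        simpa using Commute.mul_left re (h.EK k h.eS.2 rfl).symm
      simp [this.eq]) h.rS fun x hx => by
        have : E ≤ zpowers e ⊔ zpowers r := fun y hy => by
          have m : z ∈ zpowers e ⊔ zpowers r := mem_sup_right (h.r2 ▸ mul_mem (mem_zpowers r) (mem_zpowers r))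
          rcases (h.mE y).1 hy with rfl | rfl | rfl | rfl
          exacts [one_mem _, m, mem_sup_left (mem_zpowers _), mul_mem (mem_sup_left (mem_zpowers _)) m]
        exact (k x hx).elim (@this x) fun k => by simpa using mul_mem (mem_sup_right (mem_zpowers r)) (this k)
    exact (uq inferInstance (h.r2 ▸ this) (mem_zpowers e) h.z2 h.e2 h.e1).elim h.z1 h.ez.symm
  · have Er : ∀ y ∈ E, y * r = r * y ∨ y * r = r * z * y := fun y hy => (h.Ec hy h.rS.2).imp .symm fun k => by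
      rw [mul_assoc, ← h.zc y (h.ES hy).2, ← mul_assoc, k, mul_assoc, h.zc r h.rS.2, mul_assoc, h.zz]
    have Sr : ∀ y ∈ A ⊓ T.1, y * r = r * y ∨ y * r = r * z * y := fun y hy => (k y hy).elim (Er y) fun k => (Er _ k).imp
      (fun k => by simpa using (Commute.mul_left (.refl r) k).eq) fun k => by
        rw [h.zc r h.rS.2, mul_assoc z, mul_inv_cancel_left] at k; rw [mul_assoc r, ← k]; simp [mul_assoc]
    refine nof h.hA T h.r2 h.z2 h.zS.1 h.zc (fun g hg => (h.hG g).elim (fun k => Sr g ⟨k, hg⟩) fun k => ?_) (fun x hx c x2 => ?_)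
      h.eS h.e2 h.e1 h.ez (f := r * t) (by rw [mul_assoc, ← mul_assoc t, h.rt, mul_assoc, h.t2, mul_one, h.r2]) (two h.z2 (h.zc r h.rS.2) re h.te)
    · refine (Sr _ ⟨k, T.1.mul_mem hg h.tT⟩).imp (fun k => ?_) fun k => ?_ <;>
        rwa [mul_assoc, h.rt, ← mul_assoc, ← mul_assoc, mul_left_inj] at k
    · rcases k x hx with k | k
      · rcases (h.mE x).1 k with rfl | rfl | rfl | rfl
        exacts [.inl rfl, .inr rfl, (h.z1 (by simpa [← c, mul_assoc] using re)).elim, (h.z1 (by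
          rw [← mul_assoc, re] at c; simpa using c)).elim]
      · exact (h.z1 ((rE x k c).symm.trans x2)).elim

theorem str [Finite G] [A.Normal] : ∃ B b, Str A T E B b t r z e := by
  let F := E.subgroupOf T.1
  have : F.Normal := normal_subgroupOf_of_le_normalizer h.nE
  let π := QuotientGroup.mk' F
  let τ : T.1 := ⟨t, h.tT⟩
  let ρ : T.1 := ⟨r, h.rS.2⟩
  have pe : ∀ x y : T.1, π x = π y ↔ x.1⁻¹ * y ∈ E := fun x y => QuotientGroup.eq
  have p1 : ∀ x : T.1, π x = 1 ↔ x.1 ∈ E := fun x => QuotientGroup.eq_one_iff x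
  have ti := inv_eq_of_mul_eq_one_left h.t2
  have c0 : ∀ x ∈ A ⊓ T.1, t * x = x * t → x ∈ E ∨ r⁻¹ * x ∈ E := fun x hx k => by
    rcases h.ct x hx k with rfl | rfl | rfl | rfl
    exacts [.inl (one_mem _), .inl h.zE, .inr (by simp), .inr (by simpa using h.zE)]
  have cS : ∀ x : T.1, x.1 ∈ A → π x * π τ = π τ * π x → x.1 ∈ E ∨ r⁻¹ * x ∈ E := fun x hx k => by
    replace k : (x * t)⁻¹ * (t * x) ∈ E := (pe (x * τ) (τ * x)).1 k
    rcases h.ct2 (h.ES k) (by nth_rw 1 [← inv_eq_of_mul_eq_one_left (h.E2 k)]; simp [ti, mul_assoc, h.tt']) (h.E2 k) with k | k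
    · exact c0 x ⟨hx, x.2⟩ (inv_mul_eq_one.1 k).symm
    · have := c0 _ (mul_mem ⟨hx, x.2⟩ h.eS) (by
        rw [← mul_assoc, inv_mul_eq_iff_eq_mul.1 k, mul_assoc, h.ze, ← mul_assoc, mul_assoc _ t, h.te, mul_assoc, mul_assoc, h.zc t h.tT,
          mul_assoc, h.zz, mul_assoc])
      rwa [← mul_assoc, mul_mem_cancel_right h.eE, mul_mem_cancel_right h.eE] at this
  have τ2 : π τ * π τ = 1 := by rw [← map_mul, p1]; exact show t * t ∈ E from h.t2 ▸ one_mem E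
  have ρτ : Commute (π ρ) (π τ) := congrArg π (Subtype.ext h.rt.symm : ρ * τ = τ * ρ)
  have cT : ∀ q, q * π τ = π τ * q → q = 1 ∨ q = π ρ ∨ q = π τ ∨ q = π ρ * π τ := fun q k => by
    obtain ⟨x, rfl⟩ := QuotientGroup.mk'_surjective F q
    rcases h.hG x with m | m
    · exact (cS x m k).imp (p1 x).2 fun m => .inl ((pe ρ x).2 m).symm
    · refine .inr (.inr ((cS (x * τ) m (by rw [map_mul, mul_assoc, ← mul_assoc (π τ), ← k, mul_assoc])).imp (fun m => ?_) fun m => ?_))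
      · rw [← one_mul (π τ), ← (p1 _).2 m, map_mul, mul_assoc, τ2, mul_one]
      · rw [(pe ρ (x * τ)).2 m, map_mul, mul_assoc, τ2, mul_one]
  by_cases k : ∀ q, q * π τ = π τ * q
  · exact (h.small fun x hx => cS ⟨x, hx.2⟩ hx.1 (k _)).elim
  obtain ⟨q, k⟩ := not_forall.1 k
  obtain ⟨a, a1, a2, ⟨i, a3, a4⟩, a5⟩ := qa (T.2.to_quotient F) ((Set.ncard_le_ncard (s := centralizer {π τ}) (t := {1, π ρ, π τ, π ρ * π τ})
    fun x hx => cT x (mem_centralizer_singleton_iff.1 hx)).trans (by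
      iterate 3 refine (Set.ncard_insert_le ..).trans (Nat.succ_le_succ ?_)
      simp)) (fun x hx => by
      have ρ2 : π ρ * π ρ = 1 := by rw [← map_mul, p1]; exact show r * r ∈ E from h.r2 ▸ h.zE
      rcases cT x hx with rfl | rfl | rfl | rfl
      exacts [one_mul _, ρ2, τ2, by rw [mul_assoc, ← mul_assoc (π τ), ← ρτ.eq, mul_assoc, τ2, mul_one, ρ2]]) k
  obtain ⟨b, rfl⟩ := QuotientGroup.mk'_surjective F a
  have mB : ∀ x : T.1, x.1 ∈ ((zpowers (π b)).comap π).map T.1.subtype ↔ π x ∈ zpowers (π b) := fun x =>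
    mem_map_iff_mem T.1.subtype_injective
  rw [← map_mul, ← map_pow] at a3 a4
  have m := (cS _ (pow_mem (h.sqA b) i) a4).resolve_left (mt (p1 _).2 a3)
  have ce : Commute ((b.1 * b) ^ i) e := Commute.pow_left (sqc h.z2 (h.zc b b.2) (h.ec b b.2)) i
  have re : Commute r e := by simpa using ce.mul_left (Commute.inv_left (h.EK m h.eS.2 rfl).symm)
  have rE : ∀ x, r⁻¹ * x ∈ E → x * x = z := fun x hx => by
    rw [← mul_inv_cancel_left r x, mul_assoc r, ← mul_assoc _ r, ← h.EK hx h.rS.2 re, mul_assoc, h.E2 hx, mul_one, h.r2]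
  refine ⟨_, b, (mB b).2 (mem_zpowers _), map_subtype_le _, fun y hy => (mB ⟨y, (h.ES hy).2⟩).2 (by rw [(p1 ⟨y, _⟩).2 hy]; exact one_mem _),
    mt (mB τ).1 a2, fun x hx y hy k l => (mB (⟨x, hx⟩ * ⟨y, hy⟩)).2 (by
      rw [map_mul, mul_mem_iff_of_index_two a1]; exact iff_of_false (mt (mB ⟨x, hx⟩).2 k) (mt (mB ⟨y, hy⟩).2 l)), ?_,
    rE _ m ▸ mul_mem (npow_mem_zpowers _ i) (npow_mem_zpowers _ i), fun x hx xA x2 => ?_, re, (mB ρ).2 ?_⟩
  · rintro _ ⟨x, ⟨j, hj⟩, rfl⟩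
    simpa using mul_mem (mem_sup_left (zpow_mem_zpowers b.1 j)) (mem_sup_right ((pe (b ^ j) x).1 ((map_zpow π b j).trans hj)))
  · have xT := map_subtype_le _ hx
    exact (cS ⟨x, xT⟩ xA (a5 _ ((mB _).1 hx) (by rw [← map_mul, p1]; exact show x * x ∈ E from x2 ▸ one_mem E))).resolve_right fun k => h.z1 ((rE x k).symm.trans x2)
  · rw [(pe ρ _).2 m, map_pow, map_mul]; exact pow_mem (mul_mem (mem_zpowers _) (mem_zpowers _)) _

variable [Finite G] (k : Str A T E B b t r z e)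
include k

theorem sqB (hx : x ∈ B) : x * x ∈ zpowers (b * b) := by
  obtain ⟨i, y, hy, rfl⟩ := h.dec (k.le k.bB) (k.gen hx)
  have m : b ^ i * b ^ i ∈ zpowers (b * b) := (Commute.refl b).mul_pow i ▸ npow_mem_zpowers _ i
  have bT := pow_mem (k.le k.bB) i
  rcases h.Ec hy bT with l | l
  · rwa [mul_assoc, ← mul_assoc y, ← l, mul_assoc, h.E2 hy, mul_one]
  · nth_rw 2 [l]
    rw [mul_assoc, ← mul_assoc y, ← mul_assoc y, h.E2 hy, one_mul, ← h.zc _ bT, ← mul_assoc]; exact mul_mem m k.zb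

theorem half [A.Normal] (bA : b ∉ A) (hx : x ∈ B) (xA : x ∈ A) : x ∈ zpowers (b * b) ∨ x * e ∈ zpowers (b * b) := by
  obtain ⟨i, y, hy, rfl⟩ := h.dec (k.le k.bB) (k.gen hx)
  obtain ⟨j, rfl | rfl⟩ := Nat.even_or_odd' i
  · have m : b ^ (2 * j) ∈ zpowers (b * b) := by rw [pow_mul, pow_two]; exact npow_mem_zpowers _ j
    rw [mul_assoc, mul_mem_cancel_left m, mul_mem_cancel_left m]
    rcases (h.mE y).1 hy with rfl | rfl | rfl | rfl
    exacts [.inl (one_mem _), .inl k.zb, .inr (h.e2 ▸ one_mem _), .inr (by rw [mul_assoc, h.ze, h.ee]; exact k.zb)]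
  · rw [A.mul_mem_cancel_right (h.ES hy).1, pow_succ, pow_mul, pow_two, mul_mem_cancel_left (pow_mem (h.sqA b) j)] at xA
    exact (bA xA).elim

theorem sq [A.Normal] (xS : x ∈ A ⊓ T.1) : x * x ∈ zpowers (b * b) := by
  by_cases xB : x ∈ B
  · exact h.sqB k xB
  have bA : b ∉ A := fun bA => h.tA ((A.mul_mem_cancel_left xS.1).1
    (sup_le (zpowers_le.2 bA) (h.ES.trans inf_le_left) (k.gen (k.idx x xS.2 t h.tT xB k.tB))))
  by_contra hx
  have eW : e ∈ zpowers (b * b) ⊔ zpowers x := (mul_mem_cancel_left (mem_sup_right (mul_mem (mem_zpowers x) (mem_zpowers x)))).1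
    (mem_sup_left ((h.half k bA (k.idx x xS.2 x xS.2 xB xB) (h.sqA x)).resolve_left hx))
  have W : ∀ y ∈ B, y ∈ A → y ∈ zpowers (b * b) ⊔ zpowers x := fun y l m =>
    (h.half k bA l m).elim mem_sup_left fun l => (mul_mem_cancel_right eW).1 (mem_sup_left l)
  refine hx (mta h.hA T ⟨h.sqA b, k.le (mul_mem k.bB k.bB)⟩ (fun g hg => ?_) xS fun y hy => ?_)
  · have : g * b * g⁻¹ ∈ B := by
      by_cases l : g ∈ B
      · exact mul_mem (mul_mem l k.bB) (inv_mem l)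
      · exact k.idx _ (T.1.mul_mem hg.2 (k.le k.bB)) _ (inv_mem hg).2 (by rwa [mul_mem_cancel_right k.bB]) (by rwa [inv_mem_iff])
    simpa [mul_assoc] using h.sqB k this
  · by_cases l : y ∈ B
    · exact W y l hy.1
    · exact (mul_mem_cancel_right (mem_sup_right (mem_zpowers x))).1 (W _ (k.idx y hy.2 x xS.2 l xB) (mul_mem hy xS).1)

theorem fz [A.Normal] (hy : ∀ x ∈ A ⊓ T.1, x * y = y * x) (hg : g * e * g⁻¹ = y) : ∃ u ∈ A, u * g * e * (u * g)⁻¹ = y ∧ u * g * z * (u * g)⁻¹ = z := by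
  obtain ⟨u, u1, u2, u3⟩ := xt T hy ((T.2.to_le (zpowers_le.2 h.rS.2)).map (MulAut.conj g).toMonoidHom) (by
    rintro _ ⟨_, ⟨i, rfl⟩, rfl⟩
    exact ⟨‹A.Normal›.conj_mem _ (A.zpow_mem h.rS.1 i) g, hg ▸ (((show Commute r e from k.re).zpow_left i).map (MulAut.conj g)).eq⟩)
  have m := h.sq k (u3 _ ⟨r, mem_zpowers r, rfl⟩)
  have e1 : u * (MulAut.conj g).toMonoidHom r * u⁻¹ * (u * (MulAut.conj g).toMonoidHom r * u⁻¹) = u * g * z * (u * g)⁻¹ := by simp [← h.r2, mul_assoc]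
  exact ⟨u, u1, by rw [mul_assoc u, mul_inv_rev, ← mul_assoc, mul_assoc u, hg, u2, mul_inv_cancel_right],
    (uq inferInstance (e1 ▸ m) k.zb (by simp [mul_assoc, h.zz]) h.z2 h.z1).resolve_left (mt conj_eq_one_iff.1 h.z1)⟩

theorem nz [A.Normal] : ¬ IsConj e z := fun l => by
  obtain ⟨g, hg⟩ := isConj_iff.1 l
  obtain ⟨u, -, u1, u2⟩ := h.fz k (fun x hx => h.zc x hx.2) hg
  exact h.ez (by simpa using u1.trans u2.symm)

theorem ne [A.Normal] (SK : ∀ x ∈ A ⊓ T.1, x * e = e * x) (gA : g ∈ A) : g * e * g⁻¹ ≠ e * z := fun hg => by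
  obtain ⟨u, uA, u1, u2⟩ := h.fz k (fun x hx => Commute.mul_right (SK x hx) (h.zc x hx.2)) hg
  replace uA := mul_mem uA gA
  generalize u * g = w at *
  let C := A ⊓ centralizer {e} ⊓ centralizer {z}
  have mC : ∀ x, x ∈ C ↔ (x ∈ A ∧ Commute x e) ∧ Commute x z := fun x => by
    simp only [C, mem_inf, mem_centralizer_singleton_iff]; rfl
  have wz : Commute w z := mul_inv_eq_iff_eq_mul.1 u2
  obtain ⟨M, hM⟩ := ext (w := w) C (fun x hx => (mC _).2 ⟨⟨by simpa using ‹A.Normal›.conj_mem _ hx.1.1 w⁻¹, by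
      have := (((mC x).1 hx).1.2.mul_right ((mC x).1 hx).2).map (MulAut.conj w⁻¹)
      simpa [← u1, mul_assoc] using this⟩, (wz.inv_left.mul_left ((mC x).1 hx).2).mul_left wz⟩)
    ((mC _).2 ⟨⟨mul_mem uA uA, two h.z2 wz (mul_inv_eq_iff_eq_mul.1 u1) (mul_inv_eq_iff_eq_mul.1 u1)⟩, wz.mul_left wz⟩)
  have SC : A ⊓ T.1 ≤ C := fun x hx => (mC x).2 ⟨⟨hx.1, SK x hx⟩, h.zc x hx.2⟩
  refine odd T (K := M) (fun x hx => (hM x).2 (.inl (SC hx))) (fun x hx => ((hM x).1 hx).elim (·.1.1) fun l => (mul_mem_cancel_right uA).1 l.1.1)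
    (dvd_trans (Eq.symm ?_).dvd (relIndex_dvd_of_le_left M SC))
  have wC : w ∉ C := fun l => h.z1 (by simpa [((mC w).1 l).1.2.eq] using u1.symm)
  refine relIndex_eq_two_iff.2 ⟨w, (hM w).2 (.inr ((mC _).2 ⟨⟨mul_mem uA uA, two h.z2 wz (mul_inv_eq_iff_eq_mul.1 u1)
    (mul_inv_eq_iff_eq_mul.1 u1)⟩, wz.mul_left wz⟩)), fun x hx => ?_⟩
  by_cases l : x ∈ C
  · exact .inr ⟨l, by rwa [mul_mem_cancel_left l]⟩
  · exact .inl ⟨((hM x).1 hx).resolve_left l, l⟩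

theorem fus [A.Normal] (hN : zpowers (b * b) ≤ N) (eN : e ∉ N) : ∃ g ∈ A, g⁻¹ * e * g ∈ T ∧ g⁻¹ * e * g ∉ B ∧ g⁻¹ * e * g * e ∉ N := by
  obtain ⟨g, g1, g2, g3⟩ := tr2 h.hA T (fun x hx => hN (h.sq k hx)) h.eS h.e2 eN
  refine ⟨g, g1, g2, fun l => ?_, g3⟩
  rcases (h.mE _).1 (k.inv _ l (by simpa using ‹A.Normal›.conj_mem _ h.eS.1 g⁻¹) (by simp [mul_assoc, h.ee])) with l | l | l | l
  · exact h.e1 ((conj_eq_one_iff (a := g⁻¹)).1 (by simpa using l))
  · exact h.nz k (isConj_iff.2 ⟨g⁻¹, by simpa using l⟩)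
  · exact g3 (by rw [l, h.e2]; exact one_mem _)
  · exact g3 (by rw [l, mul_assoc, h.ze, h.ee]; exact hN k.zb)

theorem re [A.Normal] (cB : c ∈ B) (cA : c ∉ A) : Str A T E B c t r z e ∧ ∃ d ∈ zpowers (c * c), d * d = z := by
  obtain ⟨i, y, hy, rfl⟩ := h.dec (k.le k.bB) (k.gen cB)
  have gen : B ≤ zpowers (b ^ i * y) ⊔ E := k.gen.trans (sup_le (zpowers_le.2 (H03.mem_of_pow_mem_of_coprime (n := i)
    ((mul_mem_cancel_right (mem_sup_right hy)).1 (mem_sup_left (mem_zpowers _))) (by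
      obtain ⟨n, hn⟩ := T.2.exists_orderOf_eq_pow ⟨b, k.le k.bB⟩
      rw [← orderOf_coe] at hn
      rw [hn]; refine Nat.Coprime.pow_left _ ((Nat.coprime_two_left).2 (Nat.not_even_iff_odd.1 fun ⟨j, e⟩ => cA ?_))
      rw [e, pow_add]; exact A.mul_mem (h.sqA _) (h.ES hy).1))) le_sup_right)
  generalize b ^ i * y = c at *
  have : ∃ d ∈ zpowers (c * c), d * d = z := by
    obtain ⟨i, y, hy, l⟩ := h.dec (k.le cB) (gen k.rB)
    obtain ⟨j, rfl | rfl⟩ := Nat.even_or_odd' i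
    · refine ⟨c ^ (2 * j), by rw [pow_mul, pow_two]; exact npow_mem_zpowers _ j, ?_⟩
      have := h.EK hy h.rS.2 k.re
      rw [eq_mul_inv_of_mul_eq l, inv_eq_of_mul_eq_one_left (h.E2 hy), mul_assoc, ← mul_assoc y, ← this, mul_assoc, h.E2 hy, mul_one, h.r2]
    · have : _ ∈ A := l ▸ h.rS.1
      rw [A.mul_mem_cancel_right (h.ES hy).1, pow_succ, pow_mul, pow_two, mul_mem_cancel_left (pow_mem (h.sqA c) j)] at this
      exact (cA this).elim
  exact ⟨⟨cB, k.le, k.eB, k.tB, k.idx, gen, this.elim fun d hd => hd.2 ▸ mul_mem hd.1 hd.1, k.inv, k.re, k.rB⟩, this⟩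

theorem xz [A.Normal] (SK : ∀ x ∈ A ⊓ T.1, x * e = e * x) (gA : g ∈ A) (hx : g * x * g⁻¹ = e) (xT : x ∈ T) (xB : x ∉ B) (cA : c ∈ A)
    (hc : c * x * c⁻¹ = x * z) : IsConj (x * (e * z)) z := by
  have xA : x ∈ A := by simpa [← hx, mul_assoc] using ‹A.Normal›.conj_mem _ h.eS.1 g⁻¹
  obtain ⟨u, u1, u2, u3⟩ := xt T SK (((T.2.to_le inf_le_right).to_le h.ES).map (MulAut.conj g).toMonoidHom) (by
    rintro _ ⟨y, hy, rfl⟩
    exact ⟨‹A.Normal›.conj_mem _ (h.ES hy).1 g, hx ▸ ((show Commute x y from h.EK hy xT (SK x ⟨xA, xT⟩)).symm.map (MulAut.conj g)).eq⟩)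
  have vx : u * g * x * (u * g)⁻¹ = e := by rw [mul_assoc u, mul_inv_rev, ← mul_assoc, mul_assoc u, hx, u2, mul_inv_cancel_right]
  have vE : ∀ y ∈ E, u * g * y * (u * g)⁻¹ ∈ A ⊓ T.1 := fun y hy => by simpa [mul_assoc] using u3 _ ⟨y, hy, rfl⟩
  replace u1 := mul_mem u1 gA
  generalize u * g = v at *
  have i : ∀ y ∈ E, v * y * v⁻¹ ∈ B → y = 1 ∨ IsConj y z ∨ y = x ∨ v * y * v⁻¹ = z ∨ v * y * v⁻¹ = e * z := fun y hy l => by
    rcases (h.mE _).1 (k.inv _ l (vE y hy).1 (by simp [mul_assoc, ← mul_assoc y, h.E2 hy])) with l | l | l | l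
    exacts [.inl (conj_eq_one_iff.1 l), .inr (.inl (isConj_iff.2 ⟨v, l⟩)), .inr (.inr (.inl (by simpa using l.trans vx.symm))), by simp [l]]
  have et : IsConj e (e * z) := isConj_iff.2 ⟨t, by rw [h.te, mul_inv_cancel_right]⟩
  have zB : v * z * v⁻¹ ∉ B := fun l => by
    rcases (h.mE _).1 (k.inv _ l (vE z h.zE).1 (by simp [mul_assoc, h.zz])) with l | l | l | l
    · exact h.z1 (conj_eq_one_iff.1 l)
    · refine h.ne k SK (mul_mem (mul_mem u1 cA) (inv_mem gA)) ?_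
      calc _ = v * (c * x * c⁻¹) * v⁻¹ := by simp [← hx, mul_assoc]
        _ = _ := by rw [hc, ← vx]; nth_rw 2 [← l]; simp [mul_assoc]
    · exact h.nz k (isConj_iff.2 ⟨v, l⟩).symm
    · exact h.nz k (et.trans (isConj_iff.2 ⟨v, l⟩).symm)
  have eB : v * e * v⁻¹ ∉ B := fun l => by
    rcases i e h.eE l with l | l | l | l | l
    exacts [h.e1 l, h.nz k l, xB (l ▸ k.eB h.eE), h.nz k (isConj_iff.2 ⟨v, l⟩), h.ne k SK u1 l]
  rcases i _ (mul_mem h.eE h.zE) (by simpa [mul_assoc] using k.idx _ (vE e h.eE).2 _ (vE z h.zE).2 eB zB) with l | l | l | l | l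
  · exact (h.ez (by rw [← h.z2] at l; simpa using l)).elim
  · exact (h.nz k (et.trans l)).elim
  · exact (xB (l ▸ k.eB (mul_mem h.eE h.zE))).elim
  · exact (h.nz k (et.trans (isConj_iff.2 ⟨v, l⟩))).elim
  · exact isConj_iff.2 ⟨v, by rw [← (by rw [vx, l, h.ee] : v * x * v⁻¹ * (v * (e * z) * v⁻¹) = z).symm.trans (by simp [mul_assoc] : _ = v * (x * (e * z)) * v⁻¹)]⟩

theorem fin [A.Normal] : False := by
  have eN : ∀ n, z ∈ zpowers n → e ∉ zpowers n := fun n hz l => (uq inferInstance l hz h.e2 h.z2 h.z1).elim h.e1 h.ez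
  obtain ⟨g, gA, xT, xB, -⟩ := h.fus k le_rfl (eN _ k.zb)
  obtain ⟨x, hx⟩ : ∃ x, x = g⁻¹ * e * g := ⟨_, rfl⟩
  rw [← hx] at xT xB
  have xS : x ∈ A ⊓ T.1 := ⟨by simpa [hx] using ‹A.Normal›.conj_mem _ h.eS.1 g⁻¹, xT⟩
  have x2 : x * x = 1 := by simp [hx, mul_assoc, h.ee]
  have cA : x * t ∉ A := by rw [A.mul_mem_cancel_left xS.1]; exact h.tA
  obtain ⟨k', d, d1, d2⟩ := h.re k (k.idx x xT t h.tT xB k.tB) cA
  have xc : SemiconjBy x (x * t) (x * t)⁻¹ := by rw [SemiconjBy, ← mul_assoc, x2]; simp [inv_eq_of_mul_eq_one_left h.t2]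
  generalize x * t = c at *
  have cT := k'.le k'.bB
  have xn : ∀ n ∈ zpowers (c * c), x * n = n⁻¹ * x := by
    rintro _ ⟨i, rfl⟩; rw [← inv_zpow, mul_inv_rev]; exact ((xc.mul_right xc).zpow_right i).eq
  have ne : ∀ n ∈ zpowers (c * c), Commute n e := by
    rintro _ ⟨i, rfl⟩; exact Commute.zpow_left (sqc h.z2 (h.zc c cT) (h.ec c cT)) i
  have NB : zpowers (c * c) ≤ B := zpowers_le.2 (mul_mem k'.bB k'.bB)
  have wS := mul_mem xS h.eS
  have wB : x * e ∉ B := by rwa [mul_mem_cancel_right (k.eB h.eE)]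
  obtain ⟨M, hM⟩ := ext (w := x * e) (zpowers (c * c)) (fun n hn => by
    have : x * n⁻¹ = n * x := by simpa using xn _ (inv_mem hn)
    rw [mul_assoc, ← mul_assoc n, ← this, mul_assoc, (ne n hn).inv_left.eq, ← mul_assoc x, inv_mul_cancel_left]; exact inv_mem hn) (h.sq k' wS)
  obtain ⟨g', gA', yT, yB, yM⟩ := h.fus k' (N := M) (fun n hn => (hM n).2 (.inl hn)) fun l => ((hM e).1 l).elim (eN _ k'.zb)
    fun l => wB ((mul_mem_cancel_left (k.eB h.eE)).1 (NB l))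
  obtain ⟨y, hy⟩ : ∃ y, y = g'⁻¹ * e * g' := ⟨_, rfl⟩
  rw [← hy] at yT yB yM
  have ey : IsConj e y := isConj_iff.2 ⟨g'⁻¹, by simp [hy]⟩
  have y2 : y * y = 1 := by simp [hy, mul_assoc, h.ee]
  have m := (h.half k' cA (k.idx y yT _ wS.2 yB wB) (A.mul_mem (by simpa [hy] using ‹A.Normal›.conj_mem _ h.eS.1 g'⁻¹) wS.1)).resolve_right
    fun l => yM ((hM _).2 (.inr (by
      rw [mul_assoc, mul_assoc, h.e2, mul_one] at l
      rcases h.ec x xT with m | m <;> rw [m, mul_assoc]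
      · rwa [h.ee]
      · rw [mul_assoc, h.ee, ← h.zc x xT, ← mul_assoc]; exact mul_mem l k'.zb)))
  have yn : y = y * (x * e) * (e * x) := by rw [mul_assoc, mul_assoc, h.ee, x2, mul_one]
  generalize y * (x * e) = n at *
  rcases h.ec x xT with xe | xe
  · have dT := k.le (NB d1)
    have l := h.xz k (fun s hs => by
      have : ∀ s ∈ B, s ∈ A → Commute s e := fun s l m => (h.half k' cA l m).elim (ne s) fun l => by
        simpa using (ne _ l).mul_left (Commute.refl e).inv_left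
      by_cases l : s ∈ B
      · exact this s l hs.1
      · simpa using ((this _ (k.idx s hs.2 x xT l xB) (mul_mem hs xS).1).mul_left (Commute.inv_left xe)).eq) gA (by simp [hx, mul_assoc]) xT xB
        (zpowers_le.2 (h.sqA c) d1) (by rw [mul_assoc, xn _ (inv_mem d1), inv_inv, ← mul_assoc, d2, h.zc x xT])
    have l' : IsConj (x * (e * z)) (x * e) := isConj_iff.2 ⟨d, by
      have := ((ne d d1).mul_right (h.zc d dT)).inv_left.eq
      rw [mul_assoc, mul_assoc, ← this, ← mul_assoc x, xn _ (inv_mem d1), inv_inv, ← mul_assoc, ← mul_assoc d, d2, ← h.zc x xT, mul_assoc, ← mul_assoc z,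
        h.ze, mul_assoc, h.z2, mul_one]⟩
    obtain ⟨i, rfl⟩ := m
    have ci : x * (c ^ i)⁻¹ = c ^ i * x := by simpa using (xc.zpow_right i).inv_right.eq
    have yi : y = c ^ i * (c ^ i * x) * e := by rw [yn, ← xe, ← mul_assoc, ← mul_assoc]; exact congrArg (· * x * e) ((Commute.refl c).mul_zpow i)
    have iT := T.1.inv_mem (T.1.zpow_mem cT i)
    refine h.nz k (ey.trans (IsConj.trans (IsConj.symm ?_) l))
    rcases h.ec _ iT with o | o
    · exact l'.trans (isConj_iff.2 ⟨c ^ i, by rw [yi, ← ci, mul_assoc, mul_assoc, ← o]; simp only [mul_assoc]⟩)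
    · exact isConj_iff.2 ⟨c ^ i, by rw [yi, ← ci, mul_assoc, mul_assoc, ← o]; simp only [mul_assoc]⟩
  · refine h.z1 (Eq.trans ?_ y2)
    rw [yn, mul_assoc, mul_assoc, ← mul_assoc x, xn n m, ← mul_assoc e, ← mul_assoc e, ← (ne n m).inv_left.eq, mul_assoc, mul_assoc, mul_inv_cancel_left,
      ← mul_assoc x, xe, mul_assoc, x2, mul_one, h.ee]

end Cx

theorem main [A.Normal] (hA : ⁅A, A⁆ = A) (hG : ∀ x, x ∈ A ∨ x * t ∈ A) (t2 : t * t = 1)
    (hQ : ∀ Q : Subgroup G, IsPGroup 2 Q → Q ≤ A ⊓ centralizer {t} → IsCyclic Q ∧ Nat.card Q ≤ 4) (rA : r ∈ A) (rt : t * r = r * t)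
    (r4 : orderOf r = 4) : PRankLE 2 1 A := by
  classical
  by_contra k
  have pz : ∀ x : G, x ^ 2 ^ 2 = 1 → IsPGroup 2 (zpowers x) := fun x hx =>
    IsPGroup.of_card_dvd_pow (n := 2) (by rw [Nat.card_zpowers]; exact orderOf_dvd_of_pow_eq_one hx)
  have r1 : r ^ 2 ^ 2 = 1 := show r ^ 4 = 1 from r4 ▸ pow_orderOf_eq_one r
  obtain ⟨T, hT⟩ := ((pz r r1).to_sup_of_normal_right' (pz t (by simp [pow_succ, mul_assoc, ← mul_assoc t, t2])) (zpowers_le.2
    (centralizer_le_normalizer _ (by rintro _ ⟨i, rfl⟩; exact (Commute.zpow_left rt i).eq)))).exists_le_sylow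
  have rS : r ∈ A ⊓ T.1 := ⟨rA, hT (mem_sup_left (mem_zpowers r))⟩
  have tT : t ∈ T := hT (mem_sup_right (mem_zpowers t))
  obtain ⟨k0, k⟩ := two_inv T k
  obtain ⟨z, zS, z1, z2, zc⟩ := cen T.2 inf_le_right ((le_inf le_normalizer_of_normal le_normalizer).trans inf_normalizer_le_normalizer_inf) k0
  have H : ∀ g : G, g * t * g⁻¹ ∈ T → ∀ x ∈ A ⊓ T.1, x * x = 1 → x * (g * t * g⁻¹) = g * t * g⁻¹ * x → x = 1 ∨ x = z := fun g hg x hx x2 c => by
    have := (hQ (((A ⊓ T.1) ⊓ centralizer {g * t * g⁻¹}).map (MulAut.conj g⁻¹).toMonoidHom) ((T.2.to_le (inf_le_left.trans inf_le_right)).map _) (by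
      rintro _ ⟨y, hy, rfl⟩
      exact ⟨‹A.Normal›.conj_mem _ hy.1.1 _, mem_centralizer_singleton_iff.2 (by
        simpa [mul_assoc] using ((show Commute y _ from mem_centralizer_singleton_iff.1 hy.2).map (MulAut.conj g⁻¹)).eq)⟩)).1
    exact uq (K := (A ⊓ T.1) ⊓ centralizer {g * t * g⁻¹}) ((equivMapOfInjective _ _ (MulAut.conj g⁻¹).injective).isCyclic.2 this) ⟨hx, mem_centralizer_singleton_iff.2 c⟩ ⟨zS, mem_centralizer_singleton_iff.2 (zc _ hg).symm⟩ x2 z2 z1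
  have r2 : r * r = z := (H 1 (by simpa) _ (mul_mem rS rS) (by simpa [pow_succ, mul_assoc] using r1) (by
    simpa using (Commute.mul_right rt rt).symm.eq)).resolve_left fun e => by
      have := orderOf_dvd_of_pow_eq_one ((pow_two r).trans e); rw [r4] at this; omega
  have ct : ∀ x ∈ A ⊓ T.1, t * x = x * t → x = 1 ∨ x = z ∨ x = r ∨ x = r * z := fun x hx c => by
    have := eq_of_le_of_card_ge (H := zpowers r) (K := (A ⊓ T.1) ⊓ centralizer {t}) (zpowers_le.2 ⟨rS, mem_centralizer_singleton_iff.2 rt.symm⟩) (by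
      rw [Nat.card_zpowers, r4]; exact (hQ _ (T.2.to_le (inf_le_left.trans inf_le_right)) (inf_le_inf_right _ inf_le_left)).2)
    have := mem_zpowers_iff_mem_range_orderOf.1 (this.ge ⟨hx, mem_centralizer_singleton_iff.2 c.symm⟩)
    obtain ⟨i, hi, rfl⟩ := Finset.mem_image.1 this
    rw [r4, Finset.mem_range] at hi
    interval_cases i <;> simp [pow_succ, mul_assoc, r2, zc r rS.2]
  obtain ⟨s, sS, s2, s1, sz⟩ := k z
  by_cases hE : NoE (A ⊓ T.1) T z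
  · exact noE hA T tT t2 rS r2 rt z1 z2 zc ct H hE sS s2 s1 sz
  simp only [NoE, not_forall, not_or] at hE
  obtain ⟨e, eS, e2, ec, e1, ez⟩ := hE
  have ze : z * e = e * z := (zc e eS.2).symm
  have zz : ∀ x, z * (z * x) = x := fun x => by rw [← mul_assoc, z2, one_mul]
  have ee : ∀ x, e * (e * x) = x := fun x => by rw [← mul_assoc, e2, one_mul]
  have ze' : ∀ x, z * (e * x) = e * (z * x) := fun x => by rw [← mul_assoc, ze, mul_assoc]
  have h : Cx A T ⟨⟨⟨{x | x = 1 ∨ x = z ∨ x = e ∨ x = e * z}, by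
      rintro _ _ (a | a | a | a) (b | b | b | b) <;> simp [a, b, mul_assoc, ze, z2, e2, zz, ee, ze']⟩, .inl rfl⟩, by
      rintro _ (a | a | a | a) <;> simp [a, inv_eq_of_mul_eq_one_left z2, inv_eq_of_mul_eq_one_left e2, ze]⟩ t r z e :=
    ⟨hA, hG, tT, fun tA => ?_, t2, rS, r2, rt, z1, z2, zc, ct, eS, e2, e1, ez, ec, fun _ => .rfl⟩
  · obtain ⟨B, b, k⟩ := h.str
    exact h.fin k
  · refine (H 1 (by simpa) s sS s2 ?_).elim s1 sz
    rcases H 1 (by simpa) t ⟨tA, tT⟩ t2 (by simp) with e | e <;> simp [e, zc s sS.2]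

end H12.Rk3
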