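import Cfsg.Agent.H12.Lev
import Cfsg.Agent.H12.LieBT
import Cfsg.Agent.H11.Cent

/-! Canonical Borel–Tits parabolics (`bt`), the gate lemma for fixed cosets of parabolics (`gate`) and centralisers of
large subgroups of unipotent radicals (`cent_le_UJ`). -/

namespace H12.Lev
open Cfsg Cfsg.Lie Equiv H11 H11.StSys H12.Lie

variable {D : ChevalleyDatum} [Good D] [Cert D] {K : Type*} [Field K] {G : Type*} [Group G] {S : StSys D K G}

omit [Cert D] in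
theorem dom_unique {f f' : Root D → ℝ} (h : Lin f) (hd : ∀ i, 0 ≤ f (sroot i)) (h' : Lin f') (hd' : ∀ i, 0 ≤ f' (sroot i))
    {w : Weyl D} (hw : ∀ r, f' ((w⁻¹).1 r) = f r) : f' = f := by
  refine (weylPreCox D).induction (C := fun w => (∀ r, f' ((w⁻¹).1 r) = f r) → f' = f)
    (fun e => funext e) (fun i w hP ih e => ?_) w hw
  have e' : ∀ r, f' ((w⁻¹).1 (refl (sroot i) r)) = f r := fun r => by
    rw [← e r, mul_inv_rev, (weylPreCox D).inv_eq]; rfl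
  have h1 := e' (sroot i)
  rw [refl_self, RootAut.rev (Weyl.aut _), h'.rev] at h1
  have h2 : f (sroot i) = 0 := le_antisymm (by linarith [(h'.pos hd' hP).1]) (hd i)
  exact ih fun r => by rw [← refl_refl (sroot i) r, e', refl_refl, h.refl, h2]; simp

theorem bt (hgen : S.grp = ⊤) (hθ : Function.Injective S.θ) {X : Subgroup G} {g₀ : G}
    (hX : ∀ x ∈ X, g₀⁻¹ * x * g₀ ∈ S.U) (hne : X ≠ ⊥) : ∃ (g : G) (f : EuclideanSpace ℝ (Root D)), Lin f ∧
      (∀ i, 0 ≤ f (sroot i)) ∧ {i | f (sroot i) = 0} ≠ Set.univ ∧ Adm S X g f ∧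
      (∀ x ∈ X, g⁻¹ * x * g ∈ S.UJ {i | f (sroot i) = 0}) ∧ ∀ g' (f' : EuclideanSpace ℝ (Root D)),
        Lin f' → (∀ i, 0 ≤ f' (sroot i)) → ‖f'‖ = ‖f‖ → Adm S X g' f' →
          f' = f ∧ g⁻¹ * g' ∈ S.PJ {i | f (sroot i) = 0} := by
  have hT : ∀ g, g ∈ S.grp := fun g => hgen ▸ Subgroup.mem_top g
  obtain ⟨g₁, -, f₁, l₁, a₁, m₁⟩ := exists_min_adm (X := (X : Set G)) (hT g₀) hX
  obtain ⟨w₁, hd⟩ := exists_dominant l₁
  obtain ⟨n₁, rfl⟩ := π_surjective (S := S) w₁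
  let f : EuclideanSpace ℝ (Root D) := WithLp.toLp 2 (f₁ ∘ (S.π n₁).1)
  have hf : Lin f := l₁.comp (Weyl.aut _)
  have ha : Adm S X (g₁ * n₁) f := a₁.mul_N n₁
  have hm : ∀ g', ∀ f' : EuclideanSpace ℝ (Root D), Lin f' → Adm S X g' f' → ‖f‖ ≤ ‖f'‖ := by
    rw [norm_comp]; exact fun g' => m₁ g' (hT _)
  change ∀ i, 0 ≤ f (sroot i) at hd
  generalize g₁ * n₁ = g at ha
  have key : ∀ g' (f' : EuclideanSpace ℝ (Root D)), Lin f' → (∀ i, 0 ≤ f' (sroot i)) → ‖f'‖ = ‖f‖ → Adm S X g' f' →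
      f' = f ∧ g⁻¹ * g' ∈ S.PJ {i | f (sroot i) = 0} := by
    intro y f₂ l₂ hd₂ n₂ a2
    obtain ⟨b, hb, m, hm', b', hb', e⟩ := exists_bnb (hT (g⁻¹ * y))
    have a3 := (a2.mul_B l₂ hd₂ (inv_mem hb')).mul_N (⟨m, hm'⟩ : S.N)⁻¹
    rw [show y * b'⁻¹ * ((⟨m, hm'⟩ : S.N)⁻¹ : S.N) = g * b by
      rw [show y = g * (g⁻¹ * y) by group, e]; simp [mul_assoc]] at a3
    have a4 := ha.mul_B hf hd hb
    let f' : EuclideanSpace ℝ (Root D) := WithLp.toLp 2 (f₂ ∘ (S.π (⟨m, hm'⟩ : S.N)⁻¹).1)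
    have n1 : ‖f'‖ = ‖f‖ := (norm_comp _ _).trans n₂
    have hf' : Lin f' := l₂.comp (Weyl.aut _)
    have a5 := hm (g * b) ((1 / 2 : ℝ) • (f + f')) (by
      obtain ⟨a, ha⟩ := hf
      obtain ⟨c, hc⟩ := hf'
      refine ⟨(1 / 2 : ℝ) • (a + c), fun r => ?_⟩
      simp only [PiLp.smul_apply, PiLp.add_apply, ha, hc, smul_eq_mul, Pi.smul_apply, Pi.add_apply,
        ← Finset.sum_add_distrib, Finset.mul_sum]
      exact Finset.sum_congr rfl fun i _ => by ring) (fun x hx c d e => by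
      have h1 := a3 x hx c d e
      have h2 := a4 x hx c d e
      have h3 : ∀ c, dg ((1 / 2 : ℝ) • (f + f') : EuclideanSpace ℝ (Root D)) c =
          (dg f c + dg (f₂ ∘ (S.π (⟨m, hm'⟩ : S.N)⁻¹).1) c) / 2 := by
        rintro (c | c)
        · simp [dg]
        · simp [dg, f']; ring
      rw [h3, h3]; linarith)
    have a6 : f = f' := by
      refine eq_of_norm_eq_of_norm_add_eq n1.symm (le_antisymm (norm_add_le _ _) ?_)
      rw [norm_smul, Real.norm_of_nonneg (by norm_num)] at a5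
      linarith
    have a8 : ∀ r, f₂ (((S.π ⟨m, hm'⟩)⁻¹).1 r) = f r := fun r => by
      conv_rhs => rw [a6]
      simp [f']
    obtain rfl : f₂ = f := PiLp.ext (congrFun (dom_unique hf hd l₂ hd₂ a8))
    rw [e]
    exact ⟨rfl, mul_mem (mul_mem (B_le_PJ _ hb) (π_mem_par_iff.1 (mem_par_of_stab hf hd a8))) (B_le_PJ _ hb')⟩
  have hU : ∀ x ∈ X, g⁻¹ * x * g ∈ S.UJ {i | f (sroot i) = 0} := fun x hx =>
    mem_UJ_of_fil (fun g _ e => hθ (e.trans (map_one _).symm)) hf hd (by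
      have := (key (x * g) f hf hd rfl fun y hy => by
        have := ha _ (mul_mem (mul_mem (inv_mem hx) hy) hx)
        rwa [show g⁻¹ * (x⁻¹ * y * x) * g = (x * g)⁻¹ * y * (x * g) by group] at this).2
      rwa [← mul_assoc] at this) (ha x hx)
  refine ⟨g, f, hf, hd, fun e => hne (eq_bot_iff.2 fun x hx => ?_), ha, hU, key⟩
  have := hU x hx
  rw [e, UJ, show {r : Root D | IsPos r ∧ ¬ InJ Set.univ r} = ∅ by ext r; simp [InJ], US_empty, Subgroup.mem_bot] at this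
  rw [Subgroup.mem_bot]
  calc x = g * (g⁻¹ * x * g) * g⁻¹ := by group
    _ = 1 := by rw [this]; simp

theorem exists_mul_PJ {J : Set (Node D)} {g : G} (hg : g ∈ S.PJ J) : ∃ u ∈ S.UJ J, ∃ l ∈ S.LJ J, g = u * l :=
  exists_mul_of_mem_sup ((LJ_le_PJ J).trans (PJ_le_normalizer J)) (UJ_sup_LJ (S := S) J ▸ hg)

theorem eq_one_of_PJ (hθ : Function.Injective S.θ) {J : Set (Node D)} {g : G} (hg : g ∈ S.PJ J)
    (h : g ∈ S.US {r | ¬ IsPos r ∧ ¬ InJ J r}) : g = 1 := by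
  obtain ⟨u, hu, l, hl, rfl⟩ := exists_mul_PJ hg
  have h1 : Tri (psiJ J) 0 (S.θ (u * l)).val := by
    rw [map_mul, Units.val_mul]
    exact (tri_of_mem_US le_rfl (fun r hr => fv_psiJ_nonneg J hr.1) hu).mul le_rfl
      (tri_of_mem_LJ (fun r hr => (fv_psiJ_eq_zero_iff.2 hr).ge) hl)
  have h2 := tri_of_mem_US (ψ := -psiJ J) (c := 1) zero_le_one (fun r hr => by
    have := fv_psiJ_pos_iff.2 ⟨isPos_rev_iff.2 hr.1, fun e => hr.2 (inJ_rev.1 e)⟩
    rw [fv_rev] at this; rw [fv_neg]; omega) h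
  refine hθ (Units.ext (sub_eq_zero.1 (Matrix.ext fun a b => by_contra fun e => ?_)))
  rw [map_one] at e
  have := h1 a b e
  have := h2 a b e
  rw [deg_neg, deg_neg] at this
  omega

/-- the data of a set of standard automorphisms -/
structure Std (S : StSys D K G) (ι : Type*) where
  σ : ι → MulAut G
  ρ : ι → Perm (Node D)
  c : ι → Node D → Kˣ
  f : ι → Node D → K ≃+* K
  act : ∀ a, S.SimpAct (σ a) (ρ a) (c a) (f a)

theorem map_PJ' {α : MulAut G} {ρ c f} (h : S.SimpAct α ρ c f) {J : Set (Node D)} (hJ : ∀ j ∈ J, ρ j ∈ J) {g : G}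
    (hg : g ∈ S.PJ J) : α g ∈ S.PJ J :=
  PJ_le (M := (S.PJ J).comap α.toMonoidHom) (fun _ hb => B_le_PJ J (h.mem_B hb)) (fun j hj => by
    change α _ ∈ S.PJ J
    rw [h.n, n_eq_h_mul]
    exact mul_mem (B_le_PJ J (H_le_B (h_mem_H _ (by simp)))) (n_mem_PJ (hJ j hj))) hg

theorem gate (hgen : S.grp = ⊤) (hθ : Function.Injective S.θ) {ι : Type*} (Γ : Std S ι) {M : Subgroup G}
    (hM : ∀ g ∈ M, ∀ a, Γ.σ a g = g) (hU : ∀ u ∈ S.U, (∀ a, Γ.σ a u = u) → u ∈ M)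
    (hN : ∀ w, (∀ a, w ∈ (Γ.act a).Wf) → ∃ m : S.N, m.1 ∈ M ∧ S.π m = w) {J : Set (Node D)}
    (hJ : ∀ a, ∀ j ∈ J, Γ.ρ a j ∈ J) {g : G} (hg : ∀ a, g⁻¹ * Γ.σ a g ∈ S.PJ J) : ∃ m ∈ M, m⁻¹ * g ∈ S.PJ J := by
  obtain ⟨u, hu, m, v, hv, rfl⟩ := exists_unu (S := S) (g := g) (hgen ▸ Subgroup.mem_top g)
  obtain ⟨y, hy, hw⟩ := exists_min J (S.π m)
  obtain ⟨k, rfl⟩ := π_surjective (S := S) y
  rw [← map_mul] at hw
  obtain ⟨a, ha, c, hc, e⟩ := exists_mul_Inv ((S.π (m * k))⁻¹).1 (inv_mem hu)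
  have h1 : (c⁻¹ * (m * k : S.N))⁻¹ * (u * m * v) ∈ S.PJ J := by
    have := inv_mem (B_le_PJ J (U_le_B ((acts_π (m * k)⁻¹).conj_mem (T' := {r | IsPos r})
      (fun r hr => by rw [map_inv]; exact hr.2) ha)))
    convert mul_mem (mul_mem this (inv_mem (π_mem_par_iff.1 hy))) (B_le_PJ J (U_le_B (invS_le_U _ hv))) using 1
    rw [← inv_inv u, e]; simp [mul_assoc]
  generalize u * m * v = g at h1 hg
  generalize m * k = n at hw hc h1
  have h2 : ∀ a, (c⁻¹ * n)⁻¹ * Γ.σ a (c⁻¹ * n) ∈ S.PJ J := fun a => by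
    have := mul_mem (mul_mem h1 (hg a)) (inv_mem (map_PJ' (Γ.act a) (hJ a) h1))
    convert this using 1; simp [mul_assoc]
  have hc' : c ∈ S.U := US_mono (fun _ h => h.1) hc
  have h3 : ∀ a, S.π n ∈ (Γ.act a).Wf := fun a => by
    let n' : S.N := ⟨Γ.σ a n, (Γ.act a).mem_N n.2⟩
    have h4 : S.π n'⁻¹ * (S.π n⁻¹)⁻¹ ∈ par sW J := π_mul_inv_mem_par (inv_mem (h2 a)) (one_mem _)
      (U_le_B (mul_mem ((Γ.act a).mem_U hc') (inv_mem hc'))) (by simp [n', mul_assoc])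
    rw [map_inv, map_inv, inv_inv] at h4
    have h5 : ∀ j ∈ J, IsPos ((S.π n').1 (sroot j)) := fun j hj => by
      obtain ⟨i, hi, rfl⟩ := (Set.toFinite J).surjOn_iff_bijOn_of_mapsTo (hJ a) |>.2
        ((Set.toFinite J).injOn_iff_bijOn_of_mapsTo (hJ a) |>.1 (Γ.ρ a).injective.injOn) hj
      rw [← (Γ.act a).R_sroot, (Γ.act a).π_apply, (Γ.act a).isPos_R]; exact hw i hi
    have h6 : (S.π n')⁻¹ * S.π n = 1 := eq_one_of_pos fun i => by
      by_cases hi : i ∈ J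
      · rw [← isPos_iff_of_pos h5 ((par_inJ h4 _).2 (inJ_sroot.2 hi))]
        simpa using hw i hi
      · exact (par_isPos h4 (mt inJ_sroot.1 hi)).2 (isPos_sroot i)
    intro r
    rw [← (Γ.act a).π_apply, ← inv_mul_eq_one.1 h6]
  obtain ⟨n₀, h4, h5⟩ := hN _ h3
  have h6 : n₀.1⁻¹ * n ∈ S.PJ J := B_le_PJ J (H_le_B ((π_eq_one_iff (g := n₀⁻¹ * n)).1 (by simp [h5])))
  refine ⟨c⁻¹ * n₀, mul_mem (inv_mem (hU c hc' fun a => ?_)) h4, by convert mul_mem h6 h1 using 1; group⟩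
  have h7 : n₀.1⁻¹ * (c * (Γ.σ a c)⁻¹) * n₀.1⁻¹⁻¹ = 1 := by
    refine eq_one_of_PJ hθ (J := J) ?_ ((acts_π n₀⁻¹).conj_mem (fun r hr => ?_)
      (mul_mem hc (inv_mem ((Γ.act a).mem_US ((Γ.act a).R_mem_invS (inv_mem (h3 a))) hc))))
    · have := mul_mem (mul_mem h6 (h2 a)) (inv_mem (map_PJ' (Γ.act a) (hJ a) h6))
      convert this using 1; simp [mul_assoc, hM _ h4]
    · rw [map_inv, h5]
      refine ⟨hr.2, fun e => hr.2 ((isPos_iff_of_pos hw e).1 (by simpa using hr.1))⟩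
  have : c * (Γ.σ a c)⁻¹ = 1 := by simpa [mul_assoc] using congrArg (fun x => n₀.1 * x * n₀.1⁻¹) h7
  exact (mul_inv_eq_one.1 this).symm

theorem span {J : Set (Node D)} (hJ : J ≠ Set.univ) {i : Node D} (hi : i ∈ J) :
    ∃ β, (IsPos β ∧ ¬ InJ J β) ∧ Nc (sroot i) β ≠ 0 ∧ IsPos (radd (sroot i) β) ∧ ¬ InJ J (radd (sroot i) β) := by
  have h0 : ∀ j ∈ J, ∀ β, IsPos β ∧ ¬ InJ J β → IsPos (refl (sroot j) β) ∧ ¬ InJ J (refl (sroot j) β) := fun j hj β h =>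
    ⟨(par_isPos (mem_par_self hj) h.2).2 h.1, fun e => h.2 ((par_inJ (mem_par_self hj) β).1 e)⟩
  have h1 : ∃ β, (IsPos β ∧ ¬ InJ J β) ∧ pair (sroot i) β ≠ 0 := by
    by_contra! e
    obtain ⟨k, hk⟩ := (Set.ne_univ_iff_exists_notMem J).1 hJ
    obtain ⟨a, ha, b, hb, h⟩ := Cert.conn {j | j ∈ J ∧ ∀ β, IsPos β ∧ ¬ InJ J β → pair (sroot j) β = 0} ⟨i, hi, e⟩
      ⟨k, fun h => hk h.1⟩
    rw [← pair_sroot, Ne, pair_eq_zero_comm] at h
    by_cases hbJ : b ∈ J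
    · refine hb ⟨hbJ, fun β hβ => ?_⟩
      have := ha.2 _ (h0 b hbJ β hβ)
      rw [pair_refl_right, ha.2 β hβ] at this
      simpa [h] using this
    · exact h (ha.2 _ ⟨isPos_sroot b, mt inJ_sroot.1 hbJ⟩)
  obtain ⟨β, h2, h3⟩ : ∃ β, (IsPos β ∧ ¬ InJ J β) ∧ pair (sroot i) β < 0 := by
    obtain ⟨β, h2, h3⟩ := h1
    rcases h3.lt_or_gt with h | h
    exacts [⟨β, h2, h⟩, ⟨_, h0 i hi β h2, by simpa using h⟩]
  have h4 := Nc_ne_of_pair_neg (fun e => not_isPos_rev (isPos_sroot i) (e ▸ h2.1)) h3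
  refine ⟨β, h2, h4, fv_psiJ_pos_iff.1 ?_⟩
  rw [fv_lin (a := 1) (b := 1) _ (by simpa using wt_radd h4), fv_psiJ_eq_zero_iff.2 (inJ_sroot.2 hi)]
  simpa using fv_psiJ_pos_iff.2 h2

/-- a symmetric height -/
noncomputable def ht (r : Root D) : ℤ := fv (psiJ ∅) r

omit [Cert D] in
theorem ht_pos {r : Root D} : 0 < ht r ↔ IsPos r := fv_psiJ_pos_iff.trans
  (and_iff_left fun h => cor_ne_zero r (funext fun i => h i (by simp)))

/-- roots of the radical of height at least that of `β` -/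
def Up (J : Set (Node D)) (β : Root D) : Set (Root D) := {r | (IsPos r ∧ ¬ InJ J r) ∧ ht β ≤ ht r}

omit [Cert D] in
theorem cl_Up {J : Set (Node D)} {β r s u : Root D} (hr : IsPos r) (hs : s ∈ Up J β) {i j : ℤ} (hi : 1 ≤ i) (hj : 1 ≤ j)
    (e : wt u = i • wt r + j • wt s) : u ∈ Up J β ∧ u ≠ β := by
  have h1 : ht u = i * ht r + j * ht s := fv_lin _ e
  have h2 := ht_pos.2 hr
  have h3 := ht_pos.2 hs.1.1
  have h4 := hs.2
  have h5 : ht β < ht u := by nlinarith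
  refine ⟨⟨fv_psiJ_pos_iff.1 ?_, h5.le⟩, fun e => h5.ne (e ▸ rfl)⟩
  have := fv_psiJ_nonneg J hr
  have := fv_psiJ_pos_iff.2 hs.1
  rw [fv_lin _ e]; nlinarith

theorem norm_B {T : Set (Root D)} (h0 : ∀ r ∈ T, IsPos r) (h : ∀ r, IsPos r → Cl r T) {b y : G} (hb : b ∈ S.B)
    (hy : y ∈ S.US T) : b * y * b⁻¹ ∈ S.US T :=
  (Subgroup.mem_normalizer_iff.1 (sup_le (US_le_normalizer (T' := {r | IsPos r})
    fun r hr => ⟨fun e => not_isPos_rev hr (h0 _ e), h r hr⟩) (H_le_normalizer T) hb) y).1 hy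

theorem cent_le_UJ (hθ : Function.Injective S.θ) {J : Set (Node D)} (hJ : J ≠ Set.univ) {R : Subgroup G}
    (h : ∀ β, IsPos β → ¬ InJ J β → ∃ t ≠ 0, ∃ v ∈ S.US (Up J β \ {β}), S.x β t * v ∈ R) {n : S.N}
    (hn : S.π n = wJ J) (hR : ∀ x ∈ R, n.1⁻¹ * x * n ∈ R) {c : G} (hc : c ∈ S.PJ J) (e : ∀ x ∈ R, c * x * c⁻¹ = x) :
    c ∈ S.UJ J := by
  have c1 : ∀ β r, IsPos r → Cl r (Up J β) := fun β r hr s hs u i j hi hj e => (cl_Up hr hs hi hj e).1
  have c2 : ∀ β r, IsPos r → Cl r (Up J β \ {β}) := fun β r hr s hs u i j hi hj e => cl_Up hr hs.1 hi hj e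
  have c3 : ∀ β t, S.x β t ∈ S.US (Up J β \ {β}) → t = 0 := fun β t h => by_contra fun e =>
    (mem_of_x_mem_US (fun r hr => c2 β r hr.1.1.1) (fun r hr => pos_U r hr.1.1.1) e h).2 rfl
  have key : ∀ c ∈ S.PJ J, (∀ x ∈ R, c * x * c⁻¹ = x) → c ∈ S.U := fun c hc e => by
    obtain ⟨b, hb, m, u, hu, rfl⟩ := exists_bnu (PJ_le_grp J hc)
    have hu' : u ∈ S.B := U_le_B (US_mono (fun _ h => h.1) hu)
    have hm : S.π m ∈ par sW J := π_mem_par_iff.2 (by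
      simpa [mul_assoc] using mul_mem (mul_mem (inv_mem (B_le_PJ J hb)) hc) (inv_mem (B_le_PJ J hu')))
    have hq : ∀ r, (IsPos ((S.π m).1 r) ∧ ¬ InJ J ((S.π m).1 r)) ↔ IsPos r ∧ ¬ InJ J r := fun r => by
      rw [par_inJ hm]; exact and_congr_left fun h => par_isPos hm h
    have h1 : ∀ β, IsPos β ∧ ¬ InJ J β → ht β ≤ ht ((S.π m).1 β) := fun β hβ => by
      obtain ⟨t, ht, v, hv, hx⟩ := h β hβ.1 hβ.2
      have hs : S.x β t * v ∈ S.US (Up J β) := mul_mem (x_mem_US (T := Up J β) ⟨hβ, le_rfl⟩ t) (US_mono Set.diff_subset hv)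
      have h2 := (acts_π m⁻¹).conj_mem (T' := (S.π m).1 ⁻¹' Up J β) (fun r hr => by simpa using hr)
        (norm_B (fun r hr => hr.1.1) (c1 β) (inv_mem hb) hs)
      rw [← e _ hx, show (m⁻¹ : S.N) * (b⁻¹ * (b * m * u * (S.x β t * v) * (b * m * u)⁻¹) * b⁻¹⁻¹) * ((m⁻¹ : S.N) : G)⁻¹ =
        u * (S.x β t * v) * u⁻¹ by simp [mul_assoc]] at h2
      have hc : Closed (Up J β) := fun r hr => c1 β r hr.1.1
      have h3 := (US_inf (S := S) closed_isPos pos_U hc (Closed.preimage hc (Weyl.aut (S.π m))) (fun r hr => hr.1.1)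
        fun r hr => ((hq r).1 hr.1).1).le ⟨norm_B (fun r hr => hr.1.1) (c1 β) hu' hs, h2⟩
      by_contra h4
      have h5 := norm_B (fun r hr => hr.1.1.1) (c2 β) (inv_mem hu') (US_mono (T' := Up J β \ {β})
        (fun r hr => ⟨hr.1, fun e => h4 (by obtain rfl : r = β := e; exact hr.2.2)⟩) h3)
      exact ht (c3 β t (by simpa [mul_assoc] using mul_mem h5 (inv_mem hv)))
    classical
    have h2 := (Finset.sum_eq_sum_iff_of_le (s := Finset.univ.filter fun β => IsPos β ∧ ¬ InJ J β)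
      fun β hβ => h1 β (Finset.mem_filter.1 hβ).2).1 (Finset.sum_equiv (S.π m).1⁻¹ (fun r => by
        simpa using hq ((S.π m).1⁻¹ r)) (by simp))
    simp only [Finset.mem_filter, Finset.mem_univ, true_and] at h2
    have h3 : S.π m = 1 := eq_one_of_pos fun i => ht_pos.1 (by
      suffices ht (sroot i) = ht ((S.π m).1 (sroot i)) from this ▸ ht_pos.2 (isPos_sroot i)
      by_cases hi : i ∈ J
      · obtain ⟨β, a1, a2, a3⟩ := span hJ hi
        have a4 : wt (radd (sroot i) β) = (1 : ℤ) • wt (sroot i) + (1 : ℤ) • wt β := by simpa using wt_radd a2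
        have a5 := h2 _ a1
        have a6 := h2 _ a3
        unfold ht at *
        rw [fv_lin _ a4, fv_lin _ (RootAut.lin (Weyl.aut _) a4)] at a6
        omega
      · exact h2 _ ⟨isPos_sroot i, mt inJ_sroot.1 hi⟩)
    obtain ⟨u', hu', y, hy, e'⟩ := exists_mul_of_mem_B (mul_mem (mul_mem hb (H_le_B (π_eq_one_iff.1 h3))) hu')
    rw [e'] at e ⊢
    obtain ⟨χ, a1, a2, a3⟩ := exists_char hy
    have h4 : ∀ β, IsPos β ∧ ¬ InJ J β → χ β = 1 := fun β hβ => by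
      obtain ⟨t, ht, v, hv, hx⟩ := h β hβ.1 hβ.2
      have a4 := norm_B (fun r hr => hr.1.1.1) (c2 β) (mul_mem (U_le_B hu') (H_le_B hy)) hv
      have a5 : (S.x β (χ β * t))⁻¹ * u' * S.x β (χ β * t) * u'⁻¹ ∈ S.US (Up J β \ {β}) := by
        refine US_induction (C := fun u => (S.x β (χ β * t))⁻¹ * u * S.x β (χ β * t) * u⁻¹ ∈ S.US (Up J β \ {β}))
          (by simp) (fun r hr a => ?_) (fun g hg k _ b1 b2 => ?_) hu'
        · by_cases e : r = β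
          · subst e; simp [x_inv, S.add]
          rw [mul_assoc _ (S.x r a), S.comm β r e (fun e' => not_isPos_rev hβ.1 (e' ▸ hr))]
          have := norm_B (fun r hr => hr.1.1.1) (c2 β) (U_le_B (x_mem_U hr a)) (commWord_mem (S := S) (r := β) (s := r)
            (T := Up J β \ {β}) (fun u i j hi hj e => cl_Up hr ⟨hβ, le_rfl⟩ hj hi (by rw [e, add_comm])) (χ β * t) a)
          convert this using 1; group
        · convert mul_mem b1 (norm_B (fun r hr => hr.1.1.1) (c2 β) (U_le_B hg) b2) using 1; group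
      have a6 := c3 β (-(χ β * t) + t) (by
        rw [← S.add, ← x_inv]
        convert mul_mem (mul_mem a5 a4) (inv_mem hv) using 1
        rw [← a3]
        calc _ = (y * S.x β t * y⁻¹)⁻¹ * (S.x β t * v) * v⁻¹ := by group
          _ = _ := by rw [← e _ hx]; group)
      exact Units.ext (mul_right_cancel₀ ht (by rw [Units.val_one]; linear_combination -a6))
    have h5 : y = 1 := by
      refine hθ (Units.ext ?_)
      rw [a2, map_one, Units.val_one, ← tor_one, a1.ext isChar_one fun i => ?_]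
      by_cases hi : i ∈ J
      · obtain ⟨β, b1, b2, b3⟩ := span hJ hi
        have := a1.2 _ _ b2
        rwa [h4 _ b1, h4 _ b3, mul_one, eq_comm] at this
      · exact h4 _ ⟨isPos_sroot i, mt inJ_sroot.1 hi⟩
    rwa [h5, mul_one]
  have hn' : n.1 ∈ S.PJ J := π_mem_par_iff.1 (hn ▸ wJ_mem J)
  have h1 := key _ (mul_mem (mul_mem hn' hc) (inv_mem hn')) fun x hx => by
    calc _ = n * (c * (n.1⁻¹ * x * n) * c⁻¹) * n.1⁻¹ := by group
      _ = x := by rw [e _ (hR x hx)]; group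
  obtain ⟨a, ha, b, hb, rfl⟩ := exists_mul_Inv (S.π n).1 (key c hc e)
  have h2 : n * b * n.1⁻¹ ∈ S.B ⊓ S.V := Subgroup.mem_inf.2 ⟨by
    convert U_le_B (mul_mem (inv_mem ((acts_π n).conj_mem (T' := {r | IsPos r}) (fun r hr => hr.2) ha)) h1) using 1; group,
    (acts_π n).conj_mem (fun r hr => hr.2) hb⟩
  rw [B_inf_V, Subgroup.mem_bot, mul_inv_eq_one, mul_eq_left] at h2
  rw [h2, mul_one]
  exact US_mono (T' := {r | IsPos r ∧ ¬ InJ J r}) (fun r hr => ⟨hr.1, fun e => (isPos_wJ e).1 (hn ▸ hr.2) hr.1⟩) ha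

end H12.Lev
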