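import Cfsg.Agent.H12.SubA
import Cfsg.Agent.H17.Dickson2

/-! A finite subgroup `H` of a Chevalley group has no proper large subgroup controlling unipotent fusion (`core`). -/

namespace H12.Lev
open Cfsg Cfsg.Lie Equiv H11 H11.StSys H12.Lie
open scoped MatrixGroups

variable {D : ChevalleyDatum} [Good D] {K : Type*} [Field K] {G : Type*} [Group G] {S : StSys D K G}
  (p : ℕ) [Fact p.Prime] [CharP K p]

theorem pgroup_U : IsPGroup p S.U := by
  have key : ∀ n ≤ D.nroots, ∀ u ∈ S.US (Ge D n), ∃ k, u ^ p ^ k = 1 := fun n hn => by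
    induction hn using Nat.decreasingInduction with
    | self => intro u h; rw [Ge_top, Subgroup.mem_bot] at h; exact ⟨0, by simp [h]⟩
    | of_succ n _ ih =>
      intro u hu
      rcases step hu with h | ⟨m, rfl, hm, a, w, hw, rfl⟩
      · exact ih u h
      have h1 : ∀ k : ℕ, (S.x m (k * a))⁻¹ * (S.x m a * w) ^ k ∈ S.US (Ge D (m + 1)) := fun k => by
        induction k with
        | zero => simp
        | succ k ih' =>
          convert mul_mem (conj_Ge' (x_mem_U hm a) ih') hw using 1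
          rw [Nat.cast_succ, add_mul, one_mul, ← S.add, pow_succ]; simp only [mul_inv_rev, mul_assoc]
      obtain ⟨k, hk⟩ := ih _ (h1 p)
      exact ⟨k + 1, by simpa [pow_succ', pow_mul] using hk⟩
  exact fun u => (key 0 (Nat.zero_le _) u (by rw [Ge_zero]; exact u.2)).imp fun k h => Subtype.ext h

omit [Fact p.Prime] in
theorem pgroup_zpowers {x : G} (h : x ^ p = 1) : IsPGroup p (Subgroup.zpowers x) := fun ⟨_, k, rfl⟩ => ⟨1, Subtype.ext (by
  change (x ^ k) ^ p ^ 1 = 1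
  rw [pow_one, ← zpow_natCast, ← zpow_mul, mul_comm k, zpow_mul, zpow_natCast, h, one_zpow])⟩

theorem neg_one_mem (hp : p ≠ 2) {L : Subgroup SL(2, K)} [Finite L] {a b : K} (ha : a ≠ 0) (hb : b ≠ 0)
    (hu : upSL a ∈ L) (hl : loSL b ∈ L) : -1 ∈ L := by
  have h2 := H17.two_ne_zero_of_charP' K p hp
  obtain ⟨ψ, h3, h4⟩ := H17.exists_sl2_of_sylow p hp L (by
    by_contra! h
    have := Finite.card_le_one_iff_subsingleton.1 h
    have P : Sylow p L := default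
    have key : ∀ x : L, (x : SL(2, K)) ^ p = 1 → x ∈ P := fun x hx => by
      obtain ⟨Q, hQ⟩ := (pgroup_zpowers p (x := x) (Subtype.ext hx)).exists_le_sylow
      exact Subsingleton.elim Q P ▸ hQ (Subgroup.mem_zpowers x)
    exact H17.not_isPGroup_up_lo p (L := P.1.map L.subtype) ha hb
      ⟨⟨_, hu⟩, key _ (H17.pow_char_of_tr p (by simp [H17.tr, upSL]; norm_num)), rfl⟩
      ⟨⟨_, hl⟩, key _ (H17.pow_char_of_tr p (by simp [H17.tr, loSL]; norm_num)), rfl⟩ (P.2.map _))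
  have h5 : ψ (-1) * ψ (-1) = 1 := by rw [← map_mul]; simp
  have h6 : ψ (-1) ≠ 1 := fun e => H17.two_ne_zero_of_charP' (ZMod p) p hp (by
    have := congrArg (fun x : SL(2, ZMod p) => x 0 0) (h3 (e.trans (map_one ψ).symm))
    simp at this; linear_combination -this)
  have h7 := h4 ⟨-1, rfl⟩
  generalize ψ (-1) = w at h5 h6 h7
  obtain ⟨a, b, c, d, h, rfl⟩ : ∃ a b c d h, w = H09.sl2 a b c d h :=
    ⟨w 0 0, w 0 1, w 1 0, w 1 1, by rw [← Matrix.det_fin_two]; exact w.2, by ext i j; fin_cases i <;> fin_cases j <;> rfl⟩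
  have e := fun i j => congrArg (fun x : SL(2, K) => x i j) h5
  have e1 := e 0 0; have e2 := e 0 1; have e3 := e 1 0; have e4 := e 1 1
  simp [Matrix.mul_apply, Fin.sum_univ_two] at e1 e2 e3 e4
  have h8 : a + d ≠ 0 := fun e => h2 (by linear_combination -e1 - h + a * e)
  obtain rfl : b = 0 := (mul_eq_zero.1 (show b * (a + d) = 0 by linear_combination e2)).resolve_right h8
  obtain rfl : c = 0 := (mul_eq_zero.1 (show c * (a + d) = 0 by linear_combination e3)).resolve_right h8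
  obtain rfl : d = a := by linear_combination a * h - d * e1 + (a - d) * e1 - (a - d) * e1 - a * h + a * h - a * h + d * e1 + a * h - d * e1
  rcases mul_self_eq_one_iff.1 (show d * d = 1 by linear_combination h) with rfl | rfl
  · exact absurd (by ext i j; fin_cases i <;> fin_cases j <;> simp) h6
  · convert h7 using 1; ext i j; fin_cases i <;> fin_cases j <;> simp

variable [Cert D]

theorem mem_U_of_pow (hθ : Function.Injective S.θ) {y : G} (hy : y ∈ S.B) {k : ℕ} (e : y ^ p ^ k = 1) : y ∈ S.U := by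
  obtain ⟨u, hu, h, hh, rfl⟩ := exists_mul_of_mem_B hy
  have h1 : ∀ n : ℕ, (u * h) ^ n * (h ^ n)⁻¹ ∈ S.U := fun n => by
    induction n with
    | zero => simp
    | succ n ih =>
      convert mul_mem hu ((Subgroup.mem_normalizer_iff.1 (H_le_normalizer _ hh) _).1 ih) using 1
      rw [pow_succ', pow_succ']; group
  have h2 : h ^ p ^ k = 1 := U_inf_H.le (Subgroup.mem_inf.2 ⟨by simpa [e] using h1 (p ^ k), pow_mem hh _⟩)
  obtain ⟨χ, a1, a2, a3⟩ := exists_char hh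
  have h3 : ∀ r (n : ℕ), h ^ n * S.x r 1 * (h ^ n)⁻¹ = S.x r (χ r ^ n) := fun r n => by
    induction n with
    | zero => simp
    | succ n ih => rw [pow_succ', pow_succ', ← a3, ← ih]; group
  have h4 : h = 1 := hθ ((θ_eq_one_of_commute hh fun r => by
    have := h3 r (p ^ k)
    rw [h2, one_mul, inv_one, mul_one] at this
    have h5 : (χ r : K) = 1 := by
      have := x_inj (congrArg S.θ this)
      rwa [eq_comm, ← sub_eq_zero, ← one_pow (p ^ k), ← sub_pow_char_pow, pow_eq_zero_iff (by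
        have := (Fact.out : p.Prime).pos; positivity), sub_eq_zero] at this
    rw [← mul_inv_eq_iff_eq_mul, a3, h5, one_mul]).trans (map_one _).symm)
  rwa [h4, mul_one]

omit p in
theorem mem_B' (hgen : S.grp = ⊤) {g : G} (h : ∀ i, ∃ u ∈ S.U, u ∉ S.UJ {i} ∧ g * u * g⁻¹ ∈ S.B) : g ∈ S.B := by
  obtain ⟨b, hb, m, v, hv, rfl⟩ := exists_bnu (S := S) (g := g) (hgen ▸ Subgroup.mem_top g)
  have hv' : v ∈ S.U := US_mono (fun _ a => a.1) hv
  have hw : S.π m = 1 := eq_one_of_pos fun i => by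
    by_contra hn
    obtain ⟨u, hu, h1, h2⟩ := h i
    obtain ⟨a, ha, c, hc, e⟩ := exists_mul_Inv (S.π m).1 (mul_mem (mul_mem hv' hu) (inv_mem hv'))
    have h3 : m * c * m.1⁻¹ ∈ S.B ⊓ S.V := Subgroup.mem_inf.2 ⟨by
      convert mul_mem (inv_mem (U_le_B ((acts_π m).conj_mem (T' := {r | IsPos r}) (fun r hr => hr.2) ha)))
        (mul_mem (mul_mem (inv_mem hb) h2) hb) using 1
      rw [← inv_mul_eq_iff_eq_mul] at e; rw [← e]; group, (acts_π m).conj_mem (fun r hr => hr.2) hc⟩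
    rw [B_inf_V, Subgroup.mem_bot, mul_inv_eq_one, mul_eq_left] at h3
    rw [h3, mul_one] at e
    refine h1 ((Subgroup.mem_normalizer_iff.1 (PJ_le_normalizer _ (B_le_PJ _ (U_le_B hv'))) u).2 ?_)
    rw [e, UJ_single]
    exact US_mono (T' := {r | IsPos r ∧ r ≠ sroot i}) (fun r hr => ⟨hr.1, fun e => hn (e ▸ hr.2)⟩) ha
  exact mul_mem (mul_mem hb (H_le_B (π_eq_one_iff.1 hw))) (U_le_B hv')

variable (S) in
/-- conjugate into `U` -/
def Uni (X : Subgroup G) : Prop := ∃ g, ∀ x ∈ X, g⁻¹ * x * g ∈ S.U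

omit [Good D] [Cert D] p in
theorem uni_zpowers {x g : G} (h : g⁻¹ * x * g ∈ S.U) : Uni S (Subgroup.zpowers x) := ⟨g, by
  rintro _ ⟨k, rfl⟩
  have := zpow_mem (by simpa using h : g⁻¹ * x * g⁻¹⁻¹ ∈ S.U) k
  rw [conj_zpow] at this
  simpa using this⟩

omit [Good D] [Cert D] in
theorem le_of_norm {P A : Subgroup G} [Finite P] (hP : IsPGroup p P)
    (h : ∀ y ∈ P, (∀ x ∈ P, x ∈ A → y * x * y⁻¹ ∈ A) → y ∈ A) : P ≤ A := by
  have := hP.isNilpotent
  by_contra e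
  obtain ⟨y, h1, h2⟩ := SetLike.exists_of_lt (normalizerCondition_of_isNilpotent (A.subgroupOf P)
    (lt_top_iff_ne_top.2 fun e' => e (Subgroup.subgroupOf_eq_top.1 e')))
  exact h2 (h y y.2 fun x hx hA => (Subgroup.mem_normalizer_iff.1 h1 ⟨x, hx⟩).1 hA)

theorem syl (hgen : S.grp = ⊤) (hθ : Function.Injective S.θ) {H : Subgroup G} [Finite H]
    (big : ∀ i, ∃ u ∈ H, u ∈ S.U ∧ u ∉ S.UJ {i}) {z : G} (hz : z ∈ H) (e : z ^ p = 1) : Uni S (Subgroup.zpowers z) := by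
  obtain ⟨Q, hQ⟩ := ((pgroup_U (S := S) p).comap_subtype (K := H)).exists_le_sylow
  obtain ⟨Q', hQ'⟩ := (pgroup_zpowers p (x := (⟨z, hz⟩ : H)) (Subtype.ext e)).exists_le_sylow
  obtain ⟨g, rfl⟩ := MulAction.exists_smul_eq H Q Q'
  have h1 : Q.1 ≤ S.U.comap H.subtype := le_of_norm p Q.2 fun y hy h => by
    obtain ⟨k, hk⟩ := Q.2 ⟨y, hy⟩
    refine mem_U_of_pow p hθ (mem_B' hgen fun i => ?_) (k := k) (by simpa using congrArg (fun x => x.1.1) hk)
    obtain ⟨u, a, b, c⟩ := big i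
    exact ⟨u, b, c, U_le_B (h ⟨u, a⟩ (hQ b) b)⟩
  obtain ⟨y, hy, e⟩ := hQ' (Subgroup.mem_zpowers _)
  refine uni_zpowers (g := g) ?_
  have := congrArg Subtype.val e
  change g * y * g⁻¹ = z at this
  simpa [← this, mul_assoc] using (show y.1 ∈ S.U from h1 hy)

omit p in
theorem cent_U {y u : G} {χ : Root D → K} (h : ∀ r t, y * S.x r t * y⁻¹ = S.x r (χ r * t)) (hu : u ∈ S.U)
    (e : y * u * y⁻¹ = u) : u ∈ S.US {r | IsPos r ∧ χ r = 1} := by
  obtain ⟨t, rfl⟩ := exists_prodL closed_isPos pos_U reg_phiV (fun _ => mem_posL) nodup_posL hu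
  have h1 : ∀ L, y * S.prodL L t * y⁻¹ = S.prodL L fun r => χ r * t r := fun L => by
    induction L with
    | nil => simp
    | cons r L ih => rw [prodL_cons, prodL_cons, ← ih, ← h]; group
  have h2 := prodL_inj' closed_isPos pos_U reg_phiV (fun _ => mem_posL.1) nodup_posL ((h1 _).symm.trans e)
  refine Subgroup.list_prod_mem _ fun x hx => ?_
  obtain ⟨r, hr, rfl⟩ := List.mem_map.1 hx
  by_cases h0 : t r = 0
  · simp [h0]
  · exact x_mem_US (T := {r | IsPos r ∧ χ r = 1}) ⟨mem_posL.1 hr, mul_right_cancel₀ h0 (by simpa using h2 r hr)⟩ _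

omit p in
theorem exists_sl2 (hS : S.HMul) {r s : Root D} (h : pair r s = 1) : ∃ φ : SL(2, K) →* G, Function.Injective φ ∧
    (∀ t, φ (upSL t) = S.x r t) ∧ (∀ t, φ (loSL t) = S.x r.rev t) ∧ φ (-1) = S.h r (-1) := by
  obtain ⟨w, i, rfl⟩ := exists_weyl_sroot r
  obtain ⟨φ, h1, h2⟩ := (S.sl2Rel (w.1 (sroot i))).exists_hom (hS _)
  have h3 : ∀ c, φ (wEl upSL loSL c) = S.n (w.1 (sroot i)) c := fun c => by simp [wEl, StSys.n, h1, h2]
  have h4 : ∀ c, φ (hEl upSL loSL c) = S.h (w.1 (sroot i)) c := fun c => by simp [hEl, StSys.h, h3]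
  refine ⟨φ, (injective_iff_map_eq_one φ).2 fun g hg => ?_, h1, h2, by
    rw [← h4]; congr 1; refine Subtype.ext ?_; rw [coe_hEl _ (by simp)]; ext i j; fin_cases i <;> fin_cases j <;> simp⟩
  obtain ⟨m, rfl⟩ := π_surjective (S := S) w
  have hU : ∀ t, m.1⁻¹ * S.x ((S.π m).1 (sroot i)) t * m ∈ S.U := fun t =>
    inv_conj_x_mem_U (acts_π m) (by simpa using isPos_sroot i) t
  by_cases e : g.1 1 0 = 0
  · obtain ⟨a, b⟩ := (sl2_bruhat g).1 e
    rw [b, map_mul, h1, h4, mul_eq_one_iff_inv_eq] at hg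
    have h5 : m.1⁻¹ * S.h ((S.π m).1 (sroot i)) (g.1 0 0) * m.1⁻¹⁻¹ = 1 := U_inf_H.le (Subgroup.mem_inf.2
      ⟨by simpa [← hg, x_inv] using hU _, conj_mem_H (inv_mem m.2) (h_mem_H _ a)⟩)
    replace h5 : S.h ((S.π m).1 (sroot i)) (g.1 0 0) = 1 := by simpa [mul_assoc] using congrArg (m.1 * · * m.1⁻¹) h5
    have h6 := h_conj (S := S) ((S.π m).1 (sroot i)) s a 1
    rw [h5, h, zpow_one, one_mul, inv_one, mul_one, mul_one] at h6
    rw [h5, inv_eq_one] at hg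
    have h7 := x_eq_one (S := S) ((congrArg S.θ hg).trans (map_one _))
    rw [h7, ← x_inj (congrArg S.θ h6), sl2Rel.x_zero, sl2Rel.h_one, mul_one] at b
    exact b
  · rw [(sl2_bruhat g).2 e, map_mul, map_mul, h1, h1, h3] at hg
    have h0 : -(g.1 1 0)⁻¹ ≠ 0 := by simpa using e
    have h5 : m.1⁻¹ * S.n ((S.π m).1 (sroot i)) (-(g.1 1 0)⁻¹) * m = 1 := U_inf_N.le (Subgroup.mem_inf.2
      ⟨by convert mul_mem (inv_mem (hU (g.1 0 0 / g.1 1 0))) (inv_mem (hU (g.1 1 1 / g.1 1 0))) using 1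
          generalize S.x _ (g.1 0 0 / g.1 1 0) = a at hg
          generalize S.x _ (g.1 1 1 / g.1 1 0) = b at hg
          rw [mul_eq_one_iff_eq_inv, ← eq_inv_mul_iff_mul_eq] at hg
          rw [hg]; group,
        mul_mem (mul_mem (inv_mem m.2) (n_mem_N _ h0)) m.2⟩)
    replace h5 : S.n ((S.π m).1 (sroot i)) (-(g.1 1 0)⁻¹) = 1 := by simpa [mul_assoc] using congrArg (m.1 * · * m.1⁻¹) h5
    have := (acts_n (S := S) _ h0).unique (h5 ▸ acts_one)
    exact absurd (by simpa using congrArg (· ((S.π m).1 (sroot i))) this) (rev_ne _)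

section top
variable {α : Root D} (hα : ∀ s, s ≤ α)
include hα
omit p [Cert D]

theorem isPos_top : IsPos α := (isPos_or α).elim id fun h => isPos_of_le h (hα _)

theorem not_wt_top {u r : Root D} (hr : IsPos r) {k : ℤ} (hk : 1 ≤ k) (e : wt u = k • wt α + (1 : ℤ) • wt r) : False :=
  (hα u).not_gt (lt_of_lin (isPos_top hα) hr hk le_rfl e).1

theorem pair_top_nonneg {r : Root D} (hr : IsPos r) : 0 ≤ pair α r := by
  by_contra! e
  have := Nc_ne_of_pair_neg (fun e => not_isPos_rev (isPos_top hα) (e ▸ hr)) e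
  exact not_wt_top hα hr le_rfl (by simpa using wt_radd this)

theorem pair_top_le {r : Root D} (h : r ≠ α) : pair α r ≤ 1 := by
  by_contra! e
  have h1 := phi_lin (u := (refl α r).rev) (i := pair α r) (j := -1) (r := α) (s := r) (by simp [wt_refl, sub_eq_add_neg, add_comm])
  have h2 := phi_le_iff.2 (hα (refl α r).rev)
  have h3 := phi_lt_iff.2 ((hα r).lt_of_ne h)
  have h4 := isPos_iff_phi.1 (isPos_top hα)
  nlinarith

theorem commute_top {r : Root D} (hr : IsPos r) (h : pair α r = 0) (t u : K) : Commute (S.x α.rev t) (S.x r u) := by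
  refine x_comm (by_contra fun e => not_wt_top hα hr le_rfl (u := refl α (radd α.rev r)) ?_) (fun e => by simp [e] at h) t u
  have h1 := wt_radd e
  rw [wt_refl, show pair α (radd α.rev r) = pair α α.rev + pair α r by rw [pair, h1, dotProduct_add]; rfl, h1, h]
  simp only [wt_rev, pair_rev_right, pair_self]; module

end top

omit p in
theorem not_isConj (hgen : S.grp = ⊤) {α : Root D} (hα : ∀ s, s ≤ α) {s : G} (hs : s ∈ S.U)
    (h : (∃ i j, i ≠ j ∧ s ∉ S.UJ {i} ∧ s ∉ S.UJ {j}) ∨ ∃ i r, s ∉ S.UJ {i} ∧ r ≠ sroot i ∧ 2 ≤ pair (sroot i) r) :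
    ¬ IsConj (S.x α 1) s := fun e => by
  obtain ⟨g, rfl⟩ := isConj_iff.1 e
  obtain ⟨u, hu, m, v, hv, rfl⟩ := exists_unu (S := S) (g := g) (hgen ▸ Subgroup.mem_top g)
  obtain ⟨χ, -, h1⟩ := acts_π m
  rw [show u * m * v * S.x α 1 * (u * m * v)⁻¹ = u * (m * (v * S.x α 1 * v⁻¹) * m.1⁻¹) * u⁻¹ by group,
    cenU_top hα 1 v (invS_le_U _ hv), mul_inv_cancel_right, h1] at hs h
  have h2 : IsPos ((S.π m).1 α) := mem_of_x_mem_US closed_isPos pos_U (S := S) (t := (χ α : K) * 1) (by simp)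
    (by change _ ∈ S.U; simpa [mul_assoc] using mul_mem (mul_mem (inv_mem hu) hs) hu)
  have h3 : ∀ i, u * S.x ((S.π m).1 α) (χ α * 1) * u⁻¹ ∉ S.UJ {i} → (S.π m).1 α = sroot i := fun i hi => by
    by_contra e
    refine hi ((Subgroup.mem_normalizer_iff.1 (PJ_le_normalizer _ (B_le_PJ _ (U_le_B hu))) _).1 ?_)
    rw [UJ_single]; exact x_mem_US (T := {r | IsPos r ∧ r ≠ sroot i}) ⟨h2, e⟩ _
  rcases h with ⟨i, j, a, b, c⟩ | ⟨i, r, a, b, c⟩
  · exact a (sroot_injective ((h3 i b).symm.trans (h3 j c)))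
  · obtain ⟨r, rfl⟩ := (S.π m).1.surjective r
    rw [← h3 i a] at b c
    have := pair_top_le hα (r := r) fun e => b (e ▸ rfl)
    rw [RootAut.pair_eq (Weyl.aut _)] at c; omega

theorem core (hgen : S.grp = ⊤) (hθ : Function.Injective S.θ) (hS : S.HMul) {H M : Subgroup G} [Finite H] (hM : M ≤ H)
    (ct : ∀ X ≤ M, X ≠ ⊥ → Uni S X → ∀ g ∈ H, (∀ x ∈ X, g * x * g⁻¹ ∈ M) → g ∈ M)
    (big : ∀ i, ∃ u ∈ H, u ∈ S.U ∧ u ∉ S.UJ {i}) {α : Root D} (hα : ∀ s, s ≤ α) (h1 : ∃ s, pair α s = 1)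
    (ha : S.x α 1 ∈ M) (ha' : S.x α.rev 1 ∈ M) (h2 : ∃ s ∈ M, s ≠ 1 ∧ s ∈ S.US {r | IsPos r ∧ pair α r = 0})
    (h3 : p = 2 → ∃ s ∈ M, s ∈ S.U ∧ s * s = 1 ∧ ¬ IsConj (S.x α 1) s ∧ s ≠ 1) : H ≤ M := by
  have a0 : S.x α 1 ≠ 1 := fun e => one_ne_zero (x_eq_one (S := S) ((congrArg S.θ e).trans (map_one _)))
  have hp := isPos_top hα
  have c1 : ∀ x ∈ M, x ≠ 1 → Uni S (Subgroup.zpowers x) → ∀ g ∈ H, g * x * g⁻¹ ∈ M → g ∈ M := fun x hx h0 hu g hg e =>
    ct _ ((Subgroup.zpowers_le).2 hx) (by simpa using h0) hu g hg (by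
      rintro _ ⟨k, rfl⟩; simpa [conj_zpow] using zpow_mem e k)
  have c2 : ∀ x ∈ M, x ≠ 1 → x ∈ S.U → ∀ g ∈ H, g * x * g⁻¹ ∈ M → g ∈ M := fun x hx h0 hu =>
    c1 x hx h0 (uni_zpowers (g := 1) (by simpa using hu))
  intro g hg
  refine c2 _ ha a0 (x_mem_U hp 1) g hg ?_
  have hb := mul_mem (mul_mem hg (hM ha)) (inv_mem hg)
  by_cases hp2 : p = 2
  · obtain ⟨s, s1, s2, s3, s4, s5⟩ := h3 hp2
    subst hp2
    have b1 : IsConj (S.x α 1) (g * S.x α 1 * g⁻¹) := isConj_iff.2 ⟨g, rfl⟩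
    have b2 : g * S.x α 1 * g⁻¹ * (g * S.x α 1 * g⁻¹) = 1 := by
      rw [conj_mul, S.add, CharTwo.add_self_eq_zero]; simp
    generalize g * S.x α 1 * g⁻¹ = b at hb b1 b2
    have d1 : s * (s * b) * s⁻¹ = (s * b)⁻¹ := by
      rw [← mul_assoc, s3, one_mul, mul_inv_rev, inv_eq_of_mul_eq_one_right b2]
    have d2 : b * (s * b) * b⁻¹ = (s * b)⁻¹ := by
      rw [mul_inv_rev, inv_eq_of_mul_eq_one_right s3, inv_eq_of_mul_eq_one_right b2, mul_assoc, mul_assoc, b2, mul_one]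
    have d3 := mul_mem (hM s1) hb
    have d4 : 0 < orderOf (s * b) := by rw [← Subgroup.orderOf_mk (s * b) d3]; exact orderOf_pos _
    have d5 := pow_orderOf_eq_one (s * b)
    rcases Nat.even_or_odd' (orderOf (s * b)) with ⟨k, e | e⟩
    · have z1 : (s * b) ^ k * (s * b) ^ k = 1 := by rw [← pow_add, ← two_mul, ← e, d5]
      have z2 : (s * b) ^ k ≠ 1 := pow_ne_one_of_lt_orderOf (by omega) (by omega)
      have z3 : ∀ y, y * (s * b) * y⁻¹ = (s * b)⁻¹ → y * (s * b) ^ k * y⁻¹ = (s * b) ^ k := fun y h => by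
        rw [← conj_pow, h, inv_pow, inv_eq_of_mul_eq_one_right z1]
      have z4 := c2 s s1 s5 s2 _ (pow_mem d3 k) (by
        rw [← mul_inv_eq_iff_eq_mul.1 (z3 s d1), mul_inv_cancel_right]; exact s1)
      exact c1 _ z4 z2 (syl 2 hgen hθ big (pow_mem d3 k) (by rw [sq, z1])) b hb (by rwa [z3 b d2])
    · refine absurd (b1.trans (isConj_iff.2 ⟨(s * b) ^ (k + 1), ?_⟩)) s4
      have z1 : b * ((s * b) ^ (k + 1))⁻¹ = (s * b) ^ (k + 1) * b := by
        rw [← mul_inv_eq_iff_eq_mul, ← inv_pow, ← conj_pow, conj_inv.symm.trans (congrArg _ d2), inv_inv]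
      rw [mul_assoc, z1, ← mul_assoc, ← pow_add, show k + 1 + (k + 1) = 2 * k + 1 + 1 by ring, pow_succ, ← e, d5, one_mul,
        mul_assoc, b2, mul_one]
  obtain ⟨u, hu, m, v, hv, rfl⟩ := exists_unu (S := S) (g := g) (hgen ▸ Subgroup.mem_top g)
  obtain ⟨χ, -, e1⟩ := acts_π m
  rw [show u * m * v * S.x α 1 * (u * m * v)⁻¹ = u * (m * (v * S.x α 1 * v⁻¹) * m.1⁻¹) * u⁻¹ by group,
    cenU_top hα 1 v (invS_le_U _ hv), mul_inv_cancel_right, e1] at hb ⊢
  have ht : (χ α : K) * 1 ≠ 0 := by simp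
  generalize (χ α : K) * 1 = t at hb ht
  generalize (S.π m).1 α = γ at hb
  have hc : ∀ u ∈ S.U, ∀ t, u⁻¹ * S.x α t * u = S.x α t := fun u hu t => by
    rw [mul_assoc, ← cenU_top hα t u hu, inv_mul_cancel_left]
  by_cases hγ : γ = α.rev
  swap
  · obtain ⟨ψ, b1, b2⟩ := exists_fv_pos_pos hγ
    obtain ⟨w, hw⟩ := exists_dominant (lin_fv ψ)
    obtain ⟨n, rfl⟩ := π_surjective (S := S) w
    have b3 : ∀ r t, 0 < fv ψ r → n.1⁻¹ * S.x r t * n ∈ S.U := fun r t hr => inv_conj_x_mem_U (acts_π n) (by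
      by_contra e
      have := (((lin_fv ψ).comp (Weyl.aut (S.π n))).pos hw (isPos_rev_iff.2 e)).1
      simp only [Function.comp, RootAut.rev (Weyl.aut _), fv_rev] at this
      simp at this; norm_cast at this; omega) t
    let P := H ⊓ S.U.comap (MulAut.conj (u * n)⁻¹).toMonoidHom
    have : Finite P := Finite.of_injective _ (Subgroup.inclusion_injective inf_le_left)
    have b4 : IsPGroup p P := ((pgroup_U p).comap_of_injective _ (MulEquiv.injective _)).to_inf_right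
    have b5 : S.x α 1 ∈ P := ⟨hM ha, by
      have := b3 α 1 b1
      rw [← hc u hu 1] at this
      simpa [mul_assoc] using this⟩
    refine le_of_norm p b4 (fun y hy h => ct (P ⊓ M) inf_le_right (fun e => a0 (e.le ⟨b5, ha⟩))
      ⟨u * n, fun x hx => by simpa [mul_assoc] using hx.1.2⟩ y hy.1 fun x hx => h x hx.1 hx.2) ⟨hb, by simpa [mul_assoc] using b3 γ t b2⟩
  subst hγ
  obtain ⟨s₁, h1⟩ := h1
  obtain ⟨φ, f1, f2, f3, f4⟩ := exists_sl2 hS h1
  let L := H.comap ((MulAut.conj u).toMonoidHom.comp φ)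
  have : Finite L := Finite.of_injective (fun x : L => (⟨_, x.2⟩ : H)) fun a b e =>
    Subtype.ext (f1 ((MulAut.conj u).injective (congrArg Subtype.val e)))
  have z1 : u * S.h α (-1) * u⁻¹ ∈ H := f4 ▸ neg_one_mem p hp2 (L := L) one_ne_zero ht (by
    change u * φ _ * u⁻¹ ∈ H
    rw [f2, cenU_top hα 1 u hu, mul_inv_cancel_right]; exact hM ha) (by change u * φ _ * u⁻¹ ∈ H; rwa [f3])
  have z2 : S.h α (-1) * S.h α (-1) = 1 := by rw [hS _ _ _ (by simp) (by simp)]; simp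
  have z3 : S.h α (-1) ∈ M := by
    have b1 : ∀ r, S.x r 1 ∈ M → S.x r (-1) ∈ M := fun r h => x_inv S r 1 ▸ inv_mem h
    have b2 : S.n α (-1) ∈ M := mul_mem (mul_mem (b1 _ ha) (by simpa using ha')) (b1 _ ha)
    exact mul_mem b2 b2
  have z4 := fun r t => h_conj (S := S) α r (c := -1) (by simp) t
  have z5 := h_mem_H (S := S) α (c := -1) (by simp)
  generalize S.h α (-1) = z at z1 z2 z3 z4 z5
  have z6 : u * z * u⁻¹ ∈ M := c2 _ ha a0 (x_mem_U hp 1) _ z1 (by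
    rw [show u * z * u⁻¹ * S.x α 1 * (u * z * u⁻¹)⁻¹ = u * (z * (u⁻¹ * S.x α 1 * u) * z⁻¹) * u⁻¹ by group, hc u hu, z4,
      cenU_top hα _ u hu]
    simpa [zpow_two] using ha)
  have zi := inv_eq_of_mul_eq_one_right z2
  have d1 : u * z * u⁻¹ * z ∈ S.U := by
    simpa [mul_assoc, zi] using mul_mem hu ((Subgroup.mem_normalizer_iff.1 (H_le_normalizer _ z5) _).1 (inv_mem hu))
  have d2 := mul_mem z6 z3
  have d3 : z * (u * z * u⁻¹ * z)⁻¹ * z⁻¹ = u * z * u⁻¹ * z := by simp [mul_assoc, zi, ← mul_assoc z z, z2]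
  have d4 : u * z * u⁻¹ = u * z * u⁻¹ * z * z := by rw [mul_assoc _ z z, z2, mul_one]
  generalize u * z * u⁻¹ * z = d at d1 d2 d3 d4
  obtain ⟨k, hk⟩ := pgroup_U p ⟨d, d1⟩
  obtain ⟨j, hj⟩ := ((Fact.out : p.Prime).odd_of_ne_two hp2).pow (n := k)
  have d5 : d ^ (j + 1) * z * (d ^ (j + 1))⁻¹ = u * z * u⁻¹ := by
    have b1 : z * (d ^ (j + 1))⁻¹ = d ^ (j + 1) * z := by rw [← mul_inv_eq_iff_eq_mul, ← inv_pow, ← conj_pow, d3]
    rw [mul_assoc, b1, ← mul_assoc, ← pow_add, show j + 1 + (j + 1) = 2 * j + 1 + 1 by ring, pow_succ, ← hj, d4,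
      show d ^ p ^ k = 1 from congrArg Subtype.val hk, one_mul]
  replace d1 := pow_mem d1 (j + 1)
  replace d2 := pow_mem d2 (j + 1)
  generalize d ^ (j + 1) = e at d1 d2 d5
  have d6 := cent_U z4 (mul_mem (inv_mem d1) hu) (by
    calc _ = e⁻¹ * (e * z * e⁻¹) * u * z⁻¹ := by group
      _ = _ := by rw [d5]; group)
  have hcl : Closed {r : Root D | IsPos r ∧ pair α r = 0} := fun r hr s hs u i j hi hj e =>
    ⟨closed_isPos r hr.1 s hs.1 u i j hi hj e, by rw [show pair α u = _ from fv_lin (cor α) e]; simp [fv, ← pair.eq_1, hr.2, hs.2]⟩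
  obtain ⟨s, s1, s2, s3⟩ := h2
  have d7 : ∀ c ∈ S.US {r | IsPos r ∧ (-1 : K) ^ pair α r = 1}, ∀ s ∈ S.US {r | IsPos r ∧ pair α r = 0},
      c⁻¹ * s * c ∈ S.US {r | IsPos r ∧ pair α r = 0} := fun c h s hs => by
    have := (US_le (M := Subgroup.normalizer (S.US {r | IsPos r ∧ pair α r = 0} : Set G))).2 (fun r hr t => by
      by_cases e : r = α
      · refine Subgroup.centralizer_le_normalizer _ fun y hy => e ▸ cenU_top hα t y (US_mono (fun _ h => h.1) hy)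
      · refine Subgroup.le_normalizer (x_mem_US (T := {r | IsPos r ∧ pair α r = 0}) ⟨hr.1, by_contra fun e' => ?_⟩ t)
        have b1 := hr.2
        rw [show pair α r = 1 by have := pair_top_le hα e; have := pair_top_nonneg hα hr.1; omega] at b1
        exact H17.two_ne_zero_of_charP' K p hp2 (by simp at b1; linear_combination -b1)) h
    simpa using (Subgroup.mem_normalizer_iff.1 (inv_mem this) s).1 hs
  have d8 := (US_le (M := Subgroup.centralizer {S.x α.rev t})).2 (fun r hr a => by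
    rintro _ rfl; exact (commute_top hα hr.1 hr.2 t a).eq) (d7 _ d6 s s3) _ rfl
  have := c2 s s1 s2 (US_mono (fun _ h => h.1) s3) _ (mul_mem (mul_mem (inv_mem (hM d2)) hb) (hM d2)) (by
    convert s1 using 1
    calc _ = e⁻¹ * u * (S.x α.rev t * ((e⁻¹ * u)⁻¹ * s * (e⁻¹ * u))) * (S.x α.rev t)⁻¹ * (e⁻¹ * u)⁻¹ := by group
      _ = _ := by rw [d8]; group)
  simpa [mul_assoc] using mul_mem (mul_mem d2 this) (inv_mem d2)

end H12.Lev
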