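import Cfsg.Agent.H12.SubB

/-! Control of unipotent fusion by the fixed points of standard automorphisms (`par_le`, `control`), leading coefficient
calculus (`Ld`, `ld_comm`). -/

namespace H12.Lev
open Cfsg Cfsg.Lie Equiv H11 H11.StSys H12.Lie

variable {D : ChevalleyDatum} [Good D] {K : Type*} [Field K] {G : Type*} [Group G] {S : StSys D K G}

theorem commTerms_head {r s : Root D} (h : Nc r s ≠ 0) : ∃ l, D.commTerms r s = ((radd r s).1, Nc r s, 1, 1) :: l ∧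
    ∀ c ∈ l, 3 ≤ c.2.2.1 + c.2.2.2 := by
  simp only [ChevalleyDatum.commTerms, chainRoot_eq le_rfl (clen_pos_iff.2 h)]
  rw [List.filterMap_cons_some (by rfl)]
  refine ⟨_, rfl, fun c hc => ?_⟩
  simp only [List.mem_filterMap, List.mem_cons, List.not_mem_nil, or_false] at hc
  obtain ⟨a, h1, h2⟩ := hc
  obtain ⟨k, -, rfl⟩ := Option.map_eq_some_iff.1 h2
  rcases h1 with rfl | rfl | rfl | rfl | rfl | rfl <;> simp

omit [Good D] in
theorem mem_of_maps {β : Type*} [Finite β] (e : Perm β) {A : Set β} (h : ∀ a ∈ A, e a ∈ A) {a : β} (ha : e a ∈ A) : a ∈ A := by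
  obtain ⟨i, hi, e'⟩ := ((Set.toFinite A).injOn_iff_bijOn_of_mapsTo h |>.1 e.injective.injOn).surjOn ha
  exact e.injective e' ▸ hi

variable (S) in
/-- `g` has leading term `x_m(a)` -/
def Ld (m : Root D) (a : K) (g : G) : Prop := (S.x m a)⁻¹ * g ∈ S.US (Ge D (m + 1))

omit [Good D] in
theorem ld_mul {m : Root D} (a : K) {v : G} (hv : v ∈ S.US (Ge D (m + 1))) : Ld S m a (S.x m a * v) := by
  simpa [Ld] using hv

omit [Good D] in
theorem Ld.mul {m : Root D} {a : K} {g v : G} (h : Ld S m a g) (hv : v ∈ S.US (Ge D (m + 1))) : Ld S m a (g * v) := by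
  simpa [Ld, mul_assoc] using mul_mem h hv

theorem Ld.conj {m : Root D} (hm : IsPos m) {a : K} {g u : G} (h : Ld S m a g) (hu : u ∈ S.U) : Ld S m a (u * g * u⁻¹) := by
  have := mul_mem (comm_Ge hm a (inv_mem hu)) (conj_Ge hu h)
  unfold Ld; convert this using 1; group

theorem ld_comm {γ δ : Root D} (hγ : IsPos γ) (hδ : IsPos δ) (h : Nc γ δ ≠ 0) (t a : K) {c v : G} (hc : c ∈ S.U)
    (e : c * S.x δ a = S.x δ a * c) (hv : v ∈ S.US (Ge D (γ + 1))) :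
    Ld S (radd γ δ) (-(Nc γ δ * t * a)) (S.x δ a * (c * S.x γ t * v) * (S.x δ a)⁻¹ * (c * S.x γ t * v)⁻¹) := by
  obtain ⟨l, h1, h2⟩ := commTerms_head h
  have h3 := S.comm γ δ (ne_of_Nc h) (ne_rev_of_Nc h) (-t) (-a)
  have h4 := phi_radd h
  have h5 := isPos_iff_phi.1 hγ
  have h6 := isPos_iff_phi.1 hδ
  have h7 : Ld S (radd γ δ) (-(Nc γ δ * t * a)) (wordG S.x (D.commWord K γ δ (-t) (-a))) := by
    rw [ChevalleyDatum.commWord, h1, List.map_cons, wordG_cons, xNat_val]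
    rw [show ((Nc γ δ : ℤ) : K) * (- -t) ^ 1 * (-a) ^ 1 = -(Nc γ δ * t * a) by ring]
    refine ld_mul _ (wordG_mem rfl fun r hr => ?_)
    simp only [List.map_map, List.mem_map, Function.comp] at hr
    obtain ⟨c, hc, e⟩ := hr
    obtain ⟨u, e', hi, hj, e''⟩ := commTerms_spec (h1 ▸ List.mem_cons_of_mem _ hc)
    obtain rfl : u = r := Fin.ext (e'.symm.trans e)
    have h8 := phi_lin e''
    have h9 : (3 : ℤ) ≤ c.2.2.1 + c.2.2.2 := by exact_mod_cast h2 c hc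
    have : (1 : ℤ) ≤ c.2.2.1 := by exact_mod_cast hi
    have : (1 : ℤ) ≤ c.2.2.2 := by exact_mod_cast hj
    have : phi (radd γ δ) < phi u := by
      rcases (show (2 : ℤ) ≤ c.2.2.1 ∨ (2 : ℤ) ≤ c.2.2.2 by omega) with h | h <;> nlinarith
    exact ⟨isPos_iff_phi.2 (by omega), Nat.succ_le_of_lt (phi_lt_iff.1 this)⟩
  have h8 := (h7.mul (conj_Ge (x_mem_U hγ t) (inv_mem (comm_fine hδ h4 (-a) (inv_mem hv))))).conj
    (isPos_iff_phi.2 (by omega)) hc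
  convert h8 using 1
  rw [← x_inv, ← x_inv, ← inv_mul_eq_iff_eq_mul] at h3
  rw [← h3, ← x_inv]
  calc _ = (S.x δ a * c) * (S.x γ t * v) * (S.x δ a)⁻¹ * (S.x γ t * v)⁻¹ * c⁻¹ := by group
    _ = _ := by rw [← e]; group

variable [Cert D] (hgen : S.grp = ⊤) (hθ : Function.Injective S.θ) {ι : Type*} (Γ : Std S ι) {H M : Subgroup G}
  (hM : ∀ g, g ∈ M ↔ g ∈ H ∧ ∀ a, Γ.σ a g = g) (hB : ∀ b ∈ H, b ∈ S.B → b ∈ M) (hU : ∀ u ∈ S.U, (∀ a, Γ.σ a u = u) → u ∈ M)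
  (hN : ∀ w, (∀ a, w ∈ (Γ.act a).Wf) → ∃ m : S.N, m.1 ∈ M ∧ S.π m = w)
  (big : ∀ J, (∀ a, ∀ j ∈ J, Γ.ρ a j ∈ J) → ∀ β, IsPos β → ¬ InJ J β → ∃ t ≠ 0, ∃ v ∈ S.US (Up J β \ {β}), S.x β t * v ∈ M)
include hgen hθ hM hB hU hN big

theorem par_le {J : Set (Node D)} (hJ : J ≠ Set.univ) (hJ' : ∀ a, ∀ j ∈ J, Γ.ρ a j ∈ J) {y : G} (hy : y ∈ H)
    (hP : y ∈ S.PJ J) : y ∈ M := by
  have c0 : ∀ g ∈ S.PJ J, ∀ u ∈ S.UJ J, g * u * g⁻¹ ∈ S.UJ J := fun g hg u hu =>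
    (Subgroup.mem_normalizer_iff.1 (PJ_le_normalizer J hg) u).1 hu
  obtain ⟨n, h1, h2⟩ := hN (wJ J) fun a => (Γ.act a).wJ_mem_Wf fun j => ⟨mem_of_maps _ (hJ' a), hJ' a j⟩
  have hn : n.1 ∈ S.PJ J := π_mem_par_iff.1 (h2 ▸ wJ_mem J)
  obtain ⟨u, hu, l, hl, rfl⟩ := exists_mul_PJ hP
  have h3 : ∀ a, Γ.σ a l = l := fun a => by
    have h4 := cent_le_UJ hθ hJ (R := S.UJ J ⊓ M) (fun β b1 b2 => by
      obtain ⟨t, ht, v, hv, h⟩ := big J hJ' β b1 b2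
      exact ⟨t, ht, v, hv, mul_mem (x_mem_US (T := {r | IsPos r ∧ ¬ InJ J r}) ⟨b1, b2⟩ t)
        (US_mono (T' := {r | IsPos r ∧ ¬ InJ J r}) (fun r hr => hr.1.1) hv), h⟩) h2
      (fun x hx => Subgroup.mem_inf.2 ⟨by simpa using c0 _ (inv_mem hn) x hx.1, mul_mem (mul_mem (inv_mem h1) hx.2) h1⟩)
      (mul_mem (inv_mem hP) (map_PJ' (Γ.act a) (hJ' a) hP)) fun x hx => by
        have b1 := ((hM _).1 (hB _ (mul_mem (mul_mem hy ((hM x).1 hx.2).1) (inv_mem hy))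
          (U_le_B (UJ_le_U J (c0 _ hP x hx.1))))).2 a
        rw [map_mul, map_mul _ (u * l), map_inv, ((hM x).1 hx.2).2 a] at b1
        calc _ = (u * l)⁻¹ * (Γ.σ a (u * l) * x * (Γ.σ a (u * l))⁻¹) * (u * l) := by group
          _ = x := by rw [b1]; group
    have h5 : Γ.σ a l ∈ S.LJ J := sup_le (c := (S.LJ J).comap (Γ.σ a).toMonoidHom)
      (fun y hy => Subgroup.mem_sup_left ((Γ.act a).mem_H hy))
      (fun y hy => Subgroup.mem_sup_right ((Γ.act a).mem_US (T := {r | InJ J r}) (fun r hr => (Γ.act a).inJ_R (hJ' a) hr) hy)) hl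
    have h6 : Γ.σ a u ∈ S.UJ J := (Γ.act a).mem_US (T := {r | IsPos r ∧ ¬ InJ J r}) (fun r hr => ⟨(Γ.act a).isPos_R.2 hr.1,
      fun e => hr.2 (mem_of_maps _ (A := {r | InJ J r}) (fun r hr => (Γ.act a).inJ_R (hJ' a) hr) e)⟩) hu
    have : l⁻¹ * Γ.σ a l ∈ S.UJ J ⊓ S.LJ J := Subgroup.mem_inf.2 ⟨by
      convert mul_mem (inv_mem (c0 _ (inv_mem (LJ_le_PJ J hl)) _ (mul_mem (inv_mem hu) h6))) h4 using 1
      rw [map_mul]; group, mul_mem (inv_mem hl) h5⟩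
    rw [UJ_inf_LJ, Subgroup.mem_bot, inv_mul_eq_one] at this
    exact this.symm
  obtain ⟨m, h4, h5⟩ := gate hgen hθ Γ (fun g hg => ((hM g).1 hg).2) hU hN (J := ∅) (by simp) (g := l) (by simp [h3])
  have h6 : S.PJ ∅ ≤ S.B := PJ_le le_rfl (by simp)
  have h7 : m ∈ S.PJ J := by simpa using mul_mem (LJ_le_PJ J hl) (inv_mem (B_le_PJ J (h6 h5)))
  have := hB _ (mul_mem (inv_mem ((hM m).1 h4).1) hy) (by
    convert mul_mem (U_le_B (UJ_le_U J (c0 _ (inv_mem h7) u hu))) (h6 h5) using 1; group)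
  simpa using mul_mem h4 this

theorem control (adm : ∀ a f, Lin f → Lin (f ∘ (Γ.act a).R.symm) ∧ ∀ g, Fil f f 1 ((S.θ g).val - 1) →
      Fil (f ∘ (Γ.act a).R.symm) (f ∘ (Γ.act a).R.symm) 1 ((S.θ (Γ.σ a g)).val - 1)) :
    ∀ X ≤ M, X ≠ ⊥ → Uni S X → ∀ g ∈ H, (∀ x ∈ X, g * x * g⁻¹ ∈ M) → g ∈ M := by
  rintro X hX h0 ⟨g₀, h1⟩ g hg h2
  obtain ⟨k, f, a1, a2, a3, a4, -, a5⟩ := bt hgen hθ h1 h0
  have b1 : ∀ a, WithLp.toLp 2 (f ∘ (Γ.act a).R.symm) = f ∧ k⁻¹ * Γ.σ a k ∈ S.PJ {i | f (sroot i) = 0} := fun a =>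
    a5 _ _ (adm a f a1).1 (fun i => by
      obtain ⟨i, rfl⟩ := (Γ.ρ a).surjective i
      simpa [← (Γ.act a).R_sroot] using a2 i) (norm_comp _ _) fun x hx => by
      have := (adm a f a1).2 _ (a4 x hx)
      rwa [map_mul (Γ.σ a), map_mul (Γ.σ a), map_inv, ((hM x).1 (hX hx)).2 a] at this
  have b2 : ∀ a, ∀ j ∈ {i | f (sroot i) = 0}, Γ.ρ a j ∈ {i | f (sroot i) = 0} := fun a j hj => by
    rw [Set.mem_setOf_eq, ← (b1 a).1, ← (Γ.act a).R_sroot]; simpa using hj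
  have gt := fun g => gate hgen hθ Γ (fun g hg => ((hM g).1 hg).2) hU hN b2 (g := g)
  obtain ⟨m, c1, c2⟩ := gt k fun a => (b1 a).2
  obtain ⟨m', c3, c4⟩ := gt (g * m) fun a => by
    have := (a5 (g⁻¹ * Γ.σ a g * k) f a1 a2 rfl fun x hx => by
      have e := ((hM _).1 (h2 x hx)).2 a
      rw [map_mul, map_mul, map_inv, ((hM x).1 (hX hx)).2 a] at e
      convert a4 x hx using 4
      calc _ = k⁻¹ * ((Γ.σ a g)⁻¹ * (g * x * g⁻¹) * Γ.σ a g) * k := by group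
        _ = _ := by rw [← e]; group).2
    convert mul_mem (mul_mem c2 this) (inv_mem c2) using 1
    rw [map_mul, ((hM m).1 c1).2 a]; group
  have := par_le hgen hθ Γ hM hB hU hN big a3 b2
    (mul_mem (inv_mem ((hM _).1 c3).1) (mul_mem hg ((hM _).1 c1).1)) c4
  simpa [mul_assoc] using mul_mem (mul_mem c3 this) (inv_mem c1)

end H12.Lev
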