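import Cfsg.Agent.H12.SubC
import Cfsg.Agent.H11.CentExt2

/-! Finite subgroups of a Chevalley group containing all `x_r(1)`: the field of definition (`exists_fld`) and the structure
of the intersection with the Borel subgroup (`Fld.borel`). -/

namespace H12.Lev
open Cfsg Cfsg.Lie Equiv H11 H11.StSys H12.Lie

variable {D : ChevalleyDatum} [Good D] {K : Type*} [Field K] {G : Type*} [Group G] {S : StSys D K G} {H : Subgroup G}

theorem exists_subfield {A : Set K} (hA : A.Finite) (h1 : 1 ∈ A) (h2 : ∀ a ∈ A, ∀ b ∈ A, a - b ∈ A)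
    (h3 : ∀ a ∈ A, ∀ b ∈ A, a * b ∈ A) : ∃ F : Subfield K, ∀ t, t ∈ F ↔ t ∈ A := by
  have h0 : 0 ∈ A := by simpa using h2 1 h1 1 h1
  have h4 : ∀ a ∈ A, -a ∈ A := fun a h => by simpa using h2 0 h0 a h
  refine ⟨{ carrier := A
            mul_mem' := fun a b => h3 _ a _ b
            one_mem' := h1
            zero_mem' := h0
            neg_mem' := h4 _
            add_mem' := fun a b => by simpa using h2 _ a _ (h4 _ b)
            inv_mem' := fun a ha => ?_ }, fun _ => Iff.rfl⟩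
  by_cases e : a = 0
  · simpa [e] using h0
  obtain ⟨b, hb, e'⟩ := (hA.injOn_iff_bijOn_of_mapsTo (f := (a * ·)) (h3 a ha)).1 (mul_right_injective₀ e).injOn |>.surjOn h1
  exact eq_inv_of_mul_eq_one_right e' ▸ hb

omit [Good D] in
theorem x_sub {r : Root D} {a b : K} (ha : S.x r a ∈ H) (hb : S.x r b ∈ H) : S.x r (a - b) ∈ H := by
  simpa [x_inv, S.add, sub_eq_add_neg] using mul_mem ha (inv_mem hb)

omit [Good D] in
theorem x_int {r : Root D} {a : K} (ha : S.x r a ∈ H) (n : ℤ) : S.x r (n * a) ∈ H := by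
  induction n using Int.induction_on with
  | zero => simp
  | succ n ih => simpa [S.add, add_mul] using mul_mem ih ha
  | pred n ih => simpa [sub_mul] using x_sub ih ha

omit [Good D] in
theorem x_div (p : ℕ) [Fact p.Prime] [CharP K p] {r : Root D} {a : K} {n : ℤ} (hn : (n : K) ≠ 0) (ha : S.x r (n * a) ∈ H) :
    S.x r a ∈ H := by
  obtain ⟨m, hm⟩ := ZMod.intCast_surjective (n : ZMod p)⁻¹
  have := congrArg (ZMod.castHom dvd_rfl K) hm
  rw [map_inv₀, map_intCast, map_intCast] at this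
  simpa [this, hn] using x_int ha m

theorem finite_A [Finite H] (r : Root D) : {t | S.x r t ∈ H}.Finite :=
  (Set.toFinite (H : Set G)).preimage fun _ _ _ _ e => x_inj (congrArg S.θ e)

theorem comm_pure {γ δ : Root D} (h : Nc γ δ ≠ 0) (h0 : ∀ c ∈ (D.commTerms γ δ).tail, ((c.2.1 : ℤ) : K) = 0) (t a : K) :
    S.x δ a * S.x γ t * (S.x δ a)⁻¹ * (S.x γ t)⁻¹ = S.x (radd γ δ) (-(Nc γ δ * t * a)) := by
  obtain ⟨l, h1, -⟩ := commTerms_head h
  have h3 := S.comm γ δ (ne_of_Nc h) (ne_rev_of_Nc h) (-t) (-a)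
  rw [ChevalleyDatum.commWord, h1, List.map_cons, wordG_cons, xNat_val, wordG_eq_one (fun e he => by
    obtain ⟨c, hc, rfl⟩ := List.mem_map.1 he
    simp [h0 c (by rwa [h1])]), ← x_inv, ← x_inv, mul_assoc, ← inv_mul_eq_iff_eq_mul, ← inv_mul_eq_iff_eq_mul] at h3
  simpa [mul_assoc] using h3

variable (S) in
/-- torus elements with characters in `F` -/
def Tor (F : Subfield K) (y : G) : Prop :=
  ∃ χ : Root D → K, (∀ r, χ r ∈ F ∧ χ r ≠ 0) ∧ ∀ r t, y * S.x r t * y⁻¹ = S.x r (χ r * t)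

variable (S H) in
/-- leading coefficients at `γ` lie in `F` -/
def Lead1 (F : Subfield K) (γ : Root D) : Prop := ∀ t, ∀ v ∈ S.US (Ge D (γ + 1)), S.x γ t * v ∈ H → t ∈ F

variable (S H) in
/-- leading coefficients at `γ` lie in `F`, in the presence of a torus part -/
def Lead2 (F : Subfield K) (γ : Root D) : Prop := ∀ t, ∀ v ∈ S.US (Ge D (γ + 1)), ∀ y, Tor S F y → S.x γ t * v * y ∈ H → t ∈ F

variable {F : Subfield K}

omit [Good D] in
theorem Lead2.one {γ : Root D} (h : Lead2 S H F γ) : Lead1 S H F γ := fun t v hv e =>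
  h t v hv 1 ⟨1, by simp, by simp⟩ (by simpa using e)

omit [Good D] in
theorem comm_mem (hF : ∀ r, ∀ t ∈ F, S.x r t ∈ H) {w y : G} (hy : Tor S F y) (h : w * y ∈ H) (δ : Root D) :
    ∃ a ∈ F, a ≠ 0 ∧ S.x δ a * w * (S.x δ a)⁻¹ * w⁻¹ ∈ H := by
  obtain ⟨χ, h1, h2⟩ := hy
  refine ⟨_, (h1 δ).1, (h1 δ).2, ?_⟩
  convert mul_mem (hF δ _ (h1 δ).1) (mul_mem (mul_mem h (inv_mem (hF δ 1 F.one_mem))) (inv_mem h)) using 1
  conv_lhs => enter [1, 2]; rw [← mul_one (χ δ), ← h2]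
  group

theorem mem_of_mul {n : ℤ} (hn : (n : K) ≠ 0) {t a : K} (ha : a ∈ F) (h0 : a ≠ 0) (h : -(n * t * a) ∈ F) : t ∈ F := by
  convert F.mul_mem (F.neg_mem h) (F.inv_mem (F.mul_mem (F.intCast_mem n) ha)) using 1; field_simp

theorem gen (hF : ∀ r, ∀ t ∈ F, S.x r t ∈ H) {γ δ : Root D} (hγ : IsPos γ) (hδ : IsPos δ) (h : ((Nc γ δ : ℤ) : K) ≠ 0)
    (hL : Lead1 S H F (radd γ δ)) {c v y : G} {t : K} (hc : c ∈ S.U) (e : ∀ a, c * S.x δ a = S.x δ a * c)
    (hv : v ∈ S.US (Ge D (γ + 1))) (hy : Tor S F y) (hw : c * S.x γ t * v * y ∈ H) : t ∈ F := by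
  obtain ⟨a, h1, h2, h3⟩ := comm_mem hF hy hw δ
  exact mem_of_mul h h1 h2 (hL _ _ (ld_comm hγ hδ (fun e => h (by simp [e])) t a hc (e a) hv) (by simpa using h3))

theorem pure (hF : ∀ r, ∀ t ∈ F, S.x r t ∈ H) {γ δ : Root D} (h : ((Nc γ δ : ℤ) : K) ≠ 0)
    (h0 : ∀ c ∈ (D.commTerms γ δ).tail, ((c.2.1 : ℤ) : K) = 0) (hL : ∀ t, S.x (radd γ δ) t ∈ H → t ∈ F) {v y : G} {t : K}
    (e : ∀ a, v * S.x δ a = S.x δ a * v) (hy : Tor S F y) (hw : S.x γ t * v * y ∈ H) : t ∈ F := by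
  obtain ⟨a, h1, h2, h3⟩ := comm_mem hF hy hw δ
  refine mem_of_mul h h1 h2 (hL _ ?_)
  rw [← comm_pure (fun e => h (by simp [e])) h0]
  convert h3 using 1
  calc _ = S.x δ a * S.x γ t * (S.x δ a)⁻¹ * (S.x δ a * v) * (S.x δ a)⁻¹ * (S.x γ t * v)⁻¹ := by rw [← e]; group
    _ = _ := by group

variable [Cert D]

theorem n_conj' (s r : Root D) : ∃ η : ℤ, (η = 1 ∨ η = -1) ∧ ∀ t, S.n s 1 * S.x r t * (S.n s 1)⁻¹ = S.x (refl s r) (η * t) :=
  ⟨_, eta_sq s r, fun t => by simpa using n_conj s r one_ne_zero t⟩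

theorem Tor.conj {y : G} (h : Tor S F y) (s : Root D) : Tor S F (S.n s 1 * y * (S.n s 1)⁻¹) := by
  obtain ⟨χ, h1, h2⟩ := h
  refine ⟨fun r => χ (refl s r), fun r => h1 _, fun r t => ?_⟩
  obtain ⟨η, h3, h4⟩ := n_conj' (S := S) s (refl s r)
  rw [refl_refl] at h4
  have h5 : (η : K) * η = 1 := by rcases h3 with rfl | rfl <;> simp
  calc _ = S.n s 1 * (y * ((S.n s 1)⁻¹ * S.x r (η * (η * t)) * S.n s 1) * y⁻¹) * (S.n s 1)⁻¹ := by
        rw [← mul_assoc (η : K), h5, one_mul]; group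
    _ = _ := by
        rw [← h4, show (S.n s 1)⁻¹ * (S.n s 1 * S.x (refl s r) (η * t) * (S.n s 1)⁻¹) * S.n s 1 = S.x (refl s r) (η * t) by
          group, h2, h4]
        congr 1; linear_combination χ (refl s r) * t * h5

variable (h1 : ∀ r, S.x r 1 ∈ H)
include h1

omit [Good D] [Cert D] in
theorem n_mem (s : Root D) : S.n s 1 ∈ H :=
  mul_mem (mul_mem (h1 s) (by simpa using x_int (h1 s.rev) (-1))) (h1 s)

theorem refl_mem (s : Root D) {r : Root D} {t : K} (h : S.x r t ∈ H) : S.x (refl s r) t ∈ H := by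
  obtain ⟨η, h2, h3⟩ := n_conj' (S := S) s r
  have := x_int (h3 t ▸ mul_mem (mul_mem (n_mem h1 s) h) (inv_mem (n_mem h1 s))) η
  rcases h2 with rfl | rfl <;> simpa using this

theorem move (s : Root D) {γ : Root D} {T : Set (Root D)} {v y : G} {t : K} (hv : v ∈ S.US T) (hy : Tor S F y)
    (hw : S.x γ t * v * y ∈ H) : ∃ t' v' y', (t' ∈ F → t ∈ F) ∧ v' ∈ S.US (refl s '' T) ∧ Tor S F y' ∧
      S.x (refl s γ) t' * v' * y' ∈ H := by
  obtain ⟨η, h2, h3⟩ := n_conj' (S := S) s γ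
  refine ⟨η * t, _, _, fun h => by rcases h2 with rfl | rfl <;> simpa using h,
    (acts_n s one_ne_zero).conj_mem (fun r hr => Set.mem_image_of_mem _ hr) hv, hy.conj s, ?_⟩
  convert mul_mem (mul_mem (n_mem h1 s) hw) (inv_mem (n_mem h1 s)) using 1
  rw [← h3]; group

theorem tor_mem' {r s : Root D} (h : ∀ t ∈ F, S.x r t ∈ H) {c : K} (hc : c ∈ F) (h0 : c ≠ 0) : S.x s (c ^ pair r s) ∈ H := by
  have h2 : ∀ c ∈ F, S.n r c ∈ H := fun c hc =>
    mul_mem (mul_mem (h c hc) (by simpa using refl_mem h1 r (h _ (F.neg_mem (F.inv_mem hc))))) (h c hc)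
  have h3 : S.h r c ∈ H := mul_mem (h2 c hc) (h2 _ (F.neg_mem F.one_mem))
  simpa [h_conj r s h0] using mul_mem (mul_mem h3 (h1 s)) (inv_mem h3)

theorem tor_mem'' {r s : Root D} (h : ∀ t ∈ F, S.x r t ∈ H) (e : (pair r s).natAbs = 1) : ∀ t ∈ F, S.x s t ∈ H := fun t ht => by
  by_cases h0 : t = 0
  · simp [h0]
  rcases Int.natAbs_eq_iff.1 e with e | e
  · simpa [e] using tor_mem' h1 (s := s) h ht h0
  · simpa [e] using tor_mem' h1 (s := s) h (F.inv_mem ht) (inv_ne_zero h0)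

omit h1 [Good D] [Cert D] in
/-- `s` is a reflection image of `r` -/
def Cj (r s : Root D) : Prop := ∃ u : Root D, wt s = wt r - pair u r • wt u

omit h1 [Good D] [Cert D] in
instance instDecCj (r s : Root D) : Decidable (Cj r s) := by unfold Cj; infer_instance

theorem Cj.mem {r s : Root D} (h : Cj r s) {t : K} (ht : S.x r t ∈ H) : S.x s t ∈ H := by
  obtain ⟨u, h⟩ := h
  exact refl_eq h ▸ refl_mem h1 u ht

theorem ring_A [Finite H] (p : ℕ) [Fact p.Prime] [CharP K p] {α b c : Root D} (hb : Cj α b) (hc : Cj α c) (e : radd b c = α)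
    (h : ((Nc b c : ℤ) : K) ≠ 0) (h0 : ∀ z ∈ (D.commTerms b c).tail, ((z.2.1 : ℤ) : K) = 0) :
    ∃ F : Subfield K, ∀ t, t ∈ F ↔ S.x α t ∈ H :=
  exists_subfield (finite_A α) (h1 α) (fun _ a _ b => x_sub a b) fun t ht a ha => x_div p h (by
    have h2 := hb.mem h1 ht
    have h3 := hc.mem h1 ha
    have := inv_mem (mul_mem (mul_mem (mul_mem h3 h2) (inv_mem h3)) (inv_mem h2))
    rwa [comm_pure (fun e => h (by simp [e])) h0, e, x_inv, neg_neg, mul_assoc] at this)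

theorem all_mem (h : ∀ j, ∀ t ∈ F, S.x (sroot j) t ∈ H) (r : Root D) : ∀ t ∈ F, S.x r t ∈ H :=
  root_induction (C := fun r => ∀ t ∈ F, S.x r t ∈ H) h (fun _ _ h t ht => refl_mem h1 _ (h t ht)) r

theorem all_mem_of {α : Root D} (hα : ∀ t ∈ F, S.x α t ∈ H)
    (h : ∀ j, ∃ r, Cj α r ∧ ((pair r (sroot j)).natAbs = 1 ∨ r = sroot j)) (r : Root D) : ∀ t ∈ F, S.x r t ∈ H :=
  all_mem h1 (fun j => by
    obtain ⟨r, a, b | rfl⟩ := h j
    exacts [tor_mem'' h1 (fun t ht => a.mem h1 (hα t ht)) b, fun t ht => a.mem h1 (hα t ht)]) r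

theorem all_mem_SL (hs : SL D) {α : Root D} (hα : ∀ t ∈ F, S.x α t ∈ H) (r : Root D) : ∀ t ∈ F, S.x r t ∈ H := by
  refine all_mem h1 (fun j => by_contra fun e => ?_) r
  obtain ⟨i, hi⟩ : ∃ i, ∀ t ∈ F, S.x (sroot i) t ∈ H := root_induction (C := fun r => (∀ t ∈ F, S.x r t ∈ H) →
    ∃ i, ∀ t ∈ F, S.x (sroot i) t ∈ H) (fun i h => ⟨i, h⟩) (fun i s ih h => ih fun t ht => by
      simpa using refl_mem h1 (sroot i) (h t ht)) α hα
  obtain ⟨a, ha, b, hb, h⟩ := Cert.conn {i | ∀ t ∈ F, S.x (sroot i) t ∈ H} ⟨i, hi⟩ ⟨j, e⟩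
  refine hb (tor_mem'' h1 ha ?_)
  have := hs.pair_cases (r := sroot a) (s := sroot b) (fun e => hb (sroot_injective e ▸ ha))
    fun e => not_isPos_rev (isPos_sroot a) (e ▸ isPos_sroot b)
  rw [← pair_sroot, hs] at h
  omega

theorem A_le [Finite H] (p : ℕ) [Fact p.Prime] [CharP K p] {α β : Root D} {E : Subfield K} (hF : ∀ t, t ∈ F ↔ S.x α t ∈ H)
    (hE : ∀ t, t ∈ E ↔ S.x β t ∈ H) (h : ∀ t ∈ F, S.x β t ∈ H) (e : pair β α = p) : ∀ t, S.x β t ∈ H → t ∈ F := fun t ht => by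
  have h2 : ∀ c, S.x β c ∈ H → c ^ p ∈ F := fun c hc => by
    by_cases h0 : c = 0
    · simp [h0, (Fact.out : p.Prime).ne_zero]
    simpa [e, hF] using tor_mem' h1 (s := α) (fun t ht => (hE t).1 ht) ((hE c).2 hc) h0
  obtain ⟨c, hc, rfl⟩ := ((finite_A (S := S) (H := H) β).injOn_iff_bijOn_of_mapsTo (f := (· ^ p)) fun c hc => h _ (h2 c hc)).1
    (frobenius_inj K p).injOn |>.surjOn ht
  exact h2 c hc

omit h1 [Cert D] in
variable (K) in
/-- non-special roots -/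
def NS (γ : Root D) : Prop := ∃ δ, IsPos δ ∧ ((Nc γ δ : ℤ) : K) ≠ 0

omit h1 [Cert D] in
variable (K) in
/-- roots that can be moved to a non-special root -/
def Mv (γ : Root D) : Prop := ∃ s, IsPos (refl s γ) ∧ NS K (refl s γ) ∧ ∀ r, γ < r → refl s γ < refl s r

omit h1 [Cert D] in
variable (S H) in
/-- `F` is the field of definition of `H` -/
def Fld (F : Subfield K) : Prop := (∀ r, ∀ t ∈ F, S.x r t ∈ H) ∧ ∀ γ, IsPos γ → Lead2 S H F γ

theorem fld_of (hF : ∀ r, ∀ t ∈ F, S.x r t ∈ H)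
    (h : ∀ γ, IsPos γ → NS K γ ∨ Lead2 S H F γ ∨ (Lead1 S H F γ ∧ Mv K γ)) : Fld S H F := by
  have h2 : ∀ γ, IsPos γ → NS K γ → (∀ r, γ < r → Lead1 S H F r) → Lead2 S H F γ := fun γ hγ ⟨δ, a, b⟩ ih t v hv y hy e => by
    have c : Nc γ δ ≠ 0 := fun e => b (by simp [e])
    exact gen hF hγ a b (ih _ (lt_of_lin (i := 1) (j := 1) hγ a le_rfl le_rfl (by simpa using wt_radd c)).1) (one_mem _)
      (by simp) hv hy (by simpa using e)
  have h3 : ∀ γ, IsPos γ → Lead1 S H F γ := fun γ => by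
    induction γ using WellFoundedGT.induction with
    | ind γ ih =>
      intro hγ
      rcases h γ hγ with a | a | a
      exacts [(h2 γ hγ a fun r hr => ih r hr (isPos_of_le hγ hr.le)).one, a.one, a.1]
  have h4 := fun γ hγ a => h2 γ hγ a fun r hr => h3 r (isPos_of_le hγ hr.le)
  refine ⟨hF, fun γ hγ => ?_⟩
  rcases h γ hγ with a | a | ⟨-, s, a, b, c⟩
  exacts [h4 γ hγ a, a, fun t v hv y hy e => by
    obtain ⟨t', v', y', d1, d2, d3, d4⟩ := move h1 s hv hy e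
    exact d1 (h4 _ a b t' v' (US_mono (by
      rintro _ ⟨r, hr, rfl⟩
      have := c r (Nat.lt_of_succ_le hr.2)
      exact ⟨isPos_of_le a this.le, this⟩) d2) y' d3 d4)]

omit h1 in
theorem Fld.borel (h : Fld S H F) {u y : G} (hu : u ∈ S.U) (hy : y ∈ S.H) (e : u * y ∈ H) :
    u ∈ Subgroup.closure {g | ∃ r, ∃ t ∈ F, g = S.x r t} ∧ Tor S F y := by
  obtain ⟨χ, a1, -, a3⟩ := exists_char hy
  have h2 : ∀ r, IsPos r → (χ r : K) ∈ F := fun r hr => mul_one (χ r : K) ▸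
    (h.2 r hr).one ((χ r : K) * 1) _ ((ld_mul ((χ r : K) * 1) (one_mem _)).conj hr hu) (by
      convert mul_mem (mul_mem e (h.1 r 1 F.one_mem)) (inv_mem e) using 1
      rw [mul_inv_cancel_left, ← a3]; group)
  have h3 : Tor S F y := ⟨fun r => χ r, fun r => ⟨by
    rcases isPos_or r with a | a
    · exact h2 r a
    · simpa [a1.1] using F.inv_mem (h2 _ a), (χ r).ne_zero⟩, a3⟩
  refine ⟨?_, h3⟩
  have key : ∀ n ≤ D.nroots, ∀ u ∈ S.US (Ge D n), u * y ∈ H → u ∈ Subgroup.closure {g | ∃ r, ∃ t ∈ F, g = S.x r t} :=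
    fun n hn => by
    induction hn using Nat.decreasingInduction with
    | self => intro x h _; rw [Ge_top, Subgroup.mem_bot] at h; exact h ▸ one_mem _
    | of_succ n _ ih =>
      intro x hx e
      rcases step hx with h1 | ⟨m, rfl, hm, a, w, hw, rfl⟩
      · exact ih x h1 e
      have := h.2 m hm a w hw y h3 e
      exact mul_mem (Subgroup.subset_closure ⟨m, a, this, rfl⟩)
        (ih w hw (by simpa [mul_assoc] using mul_mem (inv_mem (h.1 m a this)) e))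
  exact key 0 (Nat.zero_le _) u (Ge_zero (S := S) ▸ hu) e

end H12.Lev
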