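import Cfsg.Agent.H12.SubD
import Cfsg.Agent.H11.CertAll

/-! The field of definition of a finite subgroup containing all `x_r(1)`, type by type (`exists_fld`). -/

namespace H12.Lev
open Cfsg Cfsg.Lie Equiv H11 H11.StSys H12.Lie

theorem of_nil {α : Type*} {l : List α} {P : α → Prop} (h : l = []) : ∀ z ∈ l, P z := by simp [h]

theorem comm_cent {G : Type*} [Group G] {a b c d : G} (h1 : Commute c b) (h2 : Commute c a) (h3 : Commute c d) (h4 : Commute d a) :
    (a * c)⁻¹ * (d * b)⁻¹ * (a * c) * (d * b) = a⁻¹ * b⁻¹ * a * b := by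
  have e1 : d⁻¹ * (a * c) * d = a * c := by rw [mul_assoc, ← (h4.mul_right h3.symm).eq]; group
  have e2 : c⁻¹ * (a⁻¹ * b⁻¹ * a) * c = a⁻¹ * b⁻¹ * a := by
    rw [mul_assoc, ← ((h2.inv_right.mul_right h1.inv_right).mul_right h2).eq]; group
  calc _ = c⁻¹ * a⁻¹ * b⁻¹ * (d⁻¹ * (a * c) * d) * b := by group
    _ = c⁻¹ * (a⁻¹ * b⁻¹ * a) * c * b := by rw [e1]; group
    _ = _ := by rw [e2]

section gen
variable {D : ChevalleyDatum} [Good D] {K : Type*} [Field K] {G : Type*} [Group G] {S : StSys D K G} {H : Subgroup G}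
  {F : Subfield K}

omit [Good D] in
theorem Ge_top' {α : Root D} (hα : ∀ s, s ≤ α) : S.US (Ge D (α + 1)) = ⊥ := by
  rw [show Ge D (α + 1) = ∅ from Set.eq_empty_of_forall_notMem fun r h => (hα r).not_gt (Nat.lt_of_succ_le h.2), US_empty]

omit [Good D] in
theorem lead1_top {α : Root D} (hα : ∀ s, s ≤ α) (h : ∀ t, S.x α t ∈ H → t ∈ F) : Lead1 S H F α := fun t v hv e => by
  rw [Ge_top' hα, Subgroup.mem_bot] at hv
  exact h t (by simpa [hv] using e)

theorem comm_US {T : Set (Root D)} {δ : Root D} (h : ∀ r ∈ T, δ ≠ r.rev ∧ Nc r δ = 0) {v : G} (hv : v ∈ S.US T) (a : K) :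
    v * S.x δ a = S.x δ a * v :=
  ((US_le (M := Subgroup.centralizer {S.x δ a})).2 (fun r hr t => Subgroup.mem_centralizer_singleton_iff.2
    (S.commute_of_Nc (h r hr).1 (h r hr).2 t a)) hv _ rfl).symm

/-- decidable form of `NS` -/
def NSd (n : ℕ) (γ : Root D) : Prop := ∃ δ, IsPos δ ∧ (Nc γ δ).natAbs = n

omit [Good D] in
instance instDecNSd (n : ℕ) (γ : Root D) : Decidable (NSd n γ) := by unfold NSd; infer_instance

omit [Good D] in
theorem cast_ne {n : ℕ} {z : ℤ} (h : z.natAbs = n) (hn : (n : K) ≠ 0) : (z : K) ≠ 0 := by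
  rcases Int.natAbs_eq_iff.1 h with rfl | rfl <;> simpa using hn

omit [Good D] in
theorem NSd.ns {n : ℕ} {γ : Root D} (h : NSd n γ) (hn : (n : K) ≠ 0) : NS K γ :=
  let ⟨δ, a, b⟩ := h; ⟨δ, a, cast_ne b hn⟩

theorem mv_of {γ s u : Root D} (e : wt u = wt γ - pair s γ • wt s) (h : IsPos u) (h' : NSd 1 u)
    (h2 : ∀ r, γ < r → u < r ∧ pair s r = 0) : Mv K γ := by
  refine ⟨s, ?_⟩
  rw [refl_eq e]
  exact ⟨h, h'.ns (by simp), fun r hr => by rw [refl_eq (u := r) (by simp [(h2 r hr).2])]; exact (h2 r hr).1⟩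

variable [Cert D] [Finite H] (p : ℕ) [Fact p.Prime] [CharP K p] (h1 : ∀ r, S.x r 1 ∈ H)
include h1 p

theorem fld_SL (hs : SL D) {α s : Root D} (hα : ∀ s, s ≤ α) (h : pair α s = 1) (hd : ∀ γ, γ = α ∨ ∃ i, wt γ i < 0) :
    ∃ F, Fld S H F := by
  have key : ∀ {a b : Root D}, pair a b = -1 → (Nc a b).natAbs = 1 ∧ (D.commTerms a b).tail = [] := fun {a b} e => by
    obtain ⟨ε, h2, h3⟩ := hs.commTerms e
    obtain ⟨l, h4, -⟩ := commTerms_head (Nc_ne_of_pair_neg (a := a) (b := b) (by rintro rfl; simp at e) (by omega))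
    rw [h3] at h4 ⊢
    simp only [List.cons.injEq, Prod.mk.injEq] at h4
    rcases h2 with rfl | rfl <;> simp [← h4.1.2.1]
  have hN : ∀ γ, IsPos γ → γ ≠ α → NSd 1 γ := fun γ hγ e => by
    obtain ⟨i, hi⟩ := (hd γ).resolve_left e
    rw [← pair_sroot, hs] at hi
    have := hs.pair_cases (r := γ) (s := sroot i) (by rintro rfl; simp at hi)
      fun e => not_isPos_rev hγ (e ▸ isPos_sroot i)
    exact ⟨_, isPos_sroot i, (key (by omega)).1⟩
  have h2 : wt (refl s α) = wt α - wt s := by rw [wt_refl, hs, h, one_smul]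
  have h3 : pair α (refl s α) = 1 := by rw [pair_refl_right, hs s, h]; simp
  have h4 : pair s (refl s α) = -1 := by rw [pair_refl_right, hs s, h]; simp
  obtain ⟨F, hF⟩ := ring_A h1 p (α := α) (b := s) (c := refl s α) ⟨refl s α, by rw [hs, h3, h2]; simp⟩
    ⟨s, wt_refl s α⟩ (radd_eq (by simp [← Int.natAbs_ne_zero, (key h4).1]) (by simp [h2])) (cast_ne (key h4).1 (by simp))
    (by simp [(key h4).2])
  have h5 : IsPos (refl s α) := (isPos_or _).resolve_right fun e => by simpa [h3] using pair_top_nonneg hα e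
  refine ⟨F, fld_of h1 (all_mem_SL h1 hs fun t => (hF t).1) fun γ hγ => ?_⟩
  rcases eq_or_ne γ α with rfl | e
  · exact .inr (.inr ⟨lead1_top hα fun t => (hF t).2, s, h5, (hN _ h5 fun e => by simp [e] at h3).ns (by simp),
      fun r hr => absurd hr (hα r).not_gt⟩)
  · exact .inl ((hN γ hγ e).ns (by simp))

/-- a special root in special characteristic, once the higher roots are out of the way -/
theorem special {α β γ δ : Root D} (hF : ∀ t, t ∈ F ↔ S.x α t ∈ H) (hall : ∀ r, ∀ t ∈ F, S.x r t ∈ H) (e : pair β α = p)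
    (a1 : Cj β γ) (a2 : Cj β δ) (a3 : radd γ δ = β) (a4 : wt γ = wt β - pair δ β • wt δ) (a5 : ((Nc γ δ : ℤ) : K) ≠ 0)
    (a6 : ∀ z ∈ (D.commTerms γ δ).tail, ((z.2.1 : ℤ) : K) = 0) {T : Set (Root D)}
    (a7 : ∀ r ∈ T, pair δ r = 0 ∧ δ ≠ r.rev ∧ Nc r δ = 0) {t : K} {v y : G} (hv : v ∈ S.US T) (hy : Tor S F y)
    (hw : S.x β t * v * y ∈ H) : t ∈ F := by
  obtain ⟨E, hE⟩ := ring_A h1 p a1 a2 a3 a5 a6
  obtain ⟨t', v', y', b1, b2, b3, b4⟩ := move h1 δ hv hy hw
  rw [refl_eq a4] at b4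
  refine b1 (pure hall a5 a6 (a3 ▸ A_le h1 p hF hE (hall β) e) (comm_US (T := T) (fun r hr => (a7 r hr).2) (US_mono ?_ b2)) b3 b4)
  rintro _ ⟨r, hr, rfl⟩
  rwa [refl_eq (u := r) (by simp [(a7 r hr).1])]

end gen

variable {K : Type*} [Field K] {G : Type*} [Group G] {H : Subgroup G} [Finite H] (p : ℕ) [Fact p.Prime] [CharP K p]

omit [Finite H] in
theorem cast_zero {z : ℤ} (h : (p : ℤ) ∣ z) : (z : K) = 0 := (CharP.intCast_eq_zero_iff K p z).2 h

omit [Finite H] in
theorem prime_ne {n : ℕ} (hn : n.Prime) (h : p ≠ n) : (n : K) ≠ 0 := fun e =>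
  h ((Nat.prime_dvd_prime_iff_eq Fact.out hn).1 ((CharP.cast_eq_zero_iff K p n).1 e))

include p

theorem fld_F4 {S : StSys chevF4 K G} (h1 : ∀ r, S.x r 1 ∈ H) : ∃ F, Fld S H F := by
  let R : (n : ℕ) → (h : n < 48 := by decide) → Root chevF4 := fun n h => ⟨n, h⟩
  have hα : ∀ s, s ≤ R 47 := by decide +kernel
  obtain ⟨F, hF⟩ := ring_A h1 p (α := R 47) (b := R 46) (c := R 24) (by decide +kernel) (by decide +kernel) (by decide +kernel)
    (cast_ne (n := 1) (by decide +kernel) (by simp)) (of_nil (by decide +kernel))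
  have hall := all_mem_of h1 (fun t => (hF t).1) (by decide +kernel)
  refine ⟨F, fld_of h1 hall fun γ hγ => ?_⟩
  rcases (by decide +kernel : ∀ γ, IsPos γ → NSd 1 γ ∨ γ = R 47 ∨ γ = R 44) γ hγ with a | rfl | rfl
  · exact .inl (a.ns (by simp))
  · exact .inr (.inr ⟨lead1_top hα fun t => (hF t).2, mv_of (s := R 24) (u := R 46) (by decide +kernel) (by decide +kernel)
      (by decide +kernel) (by decide +kernel)⟩)
  rcases eq_or_ne p 2 with rfl | e
  · exact .inr (.inl fun t v hv y hy => special 2 h1 (γ := R 40) (δ := R 33) hF hall (by decide +kernel) (by decide +kernel)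
      (by decide +kernel) (by decide +kernel) (by decide +kernel) (cast_ne (n := 1) (by decide +kernel) (by simp))
      (of_nil (by decide +kernel)) (T := Ge _ 45) (by unfold Ge; decide +kernel) hv hy)
  · exact .inl (NSd.ns (n := 2) (by decide +kernel) (prime_ne p Nat.prime_two e))

theorem fld_G2 {S : StSys chevG2 K G} (h1 : ∀ r, S.x r 1 ∈ H) : ∃ F, Fld S H F := by
  let R : (n : ℕ) → (h : n < 12 := by decide) → Root chevG2 := fun n h => ⟨n, h⟩
  have hα : ∀ s, s ≤ R 11 := by decide +kernel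
  obtain ⟨F, hF⟩ := ring_A h1 p (α := R 11) (b := R 10) (c := R 6) (by decide +kernel) (by decide +kernel) (by decide +kernel)
    (cast_ne (n := 1) (by decide +kernel) (by simp)) (of_nil (by decide +kernel))
  have hall := all_mem_of h1 (fun t => (hF t).1) (by decide +kernel)
  have hL : Lead1 S H F (R 11) := lead1_top hα fun t => (hF t).2
  refine ⟨F, fld_of h1 hall fun γ hγ => ?_⟩
  rcases (by decide +kernel : ∀ γ, IsPos γ → NSd 1 γ ∨ γ = R 11 ∨ (NSd 2 γ ∧ NSd 3 γ) ∨ γ = R 9) γ hγ with a | rfl | a | rfl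
  · exact .inl (a.ns (by simp))
  · exact .inr (.inr ⟨hL, mv_of (s := R 6) (u := R 10) (by decide +kernel) (by decide +kernel)
      (by decide +kernel) (by decide +kernel)⟩)
  · rcases eq_or_ne p 2 with rfl | e
    exacts [.inl (a.2.ns (prime_ne 2 Nat.prime_three (by decide))), .inl (a.1.ns (prime_ne p Nat.prime_two e))]
  rcases eq_or_ne p 3 with rfl | e
  swap
  · exact .inl (NSd.ns (n := 3) (by decide +kernel) (prime_ne p Nat.prime_three e))
  have key : ∀ t, ∀ v ∈ S.US (Ge chevG2 11), ∀ y, Tor S F y → S.x (R 9) t * v * y ∈ H → t ∈ F := fun t v hv y hy =>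
    special 3 h1 (γ := R 8) (δ := R 7) hF hall (by decide +kernel) (by decide +kernel)
      (by decide +kernel) (by decide +kernel) (by decide +kernel)
      (cast_ne (n := 2) (by decide +kernel) (prime_ne 3 Nat.prime_two (by decide)))
      (fun z hz => cast_zero 3 (by revert z; decide +kernel)) (by unfold Ge; decide +kernel) hv hy
  refine .inr (.inl fun t v hv y hy e => ?_)
  rcases step hv with a | ⟨m, a, -, b, w, hw, rfl⟩
  · exact key t v a y hy e
  obtain rfl : m = R 10 := Fin.ext a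
  have h2 := gen hall (γ := R 10) (δ := R 6) (by decide +kernel) (by decide +kernel) (cast_ne (n := 1) (by decide +kernel) (by simp))
    ((show R 11 = radd (R 10) (R 6) by decide +kernel) ▸ hL) (c := S.x (R 9) t) (x_mem_U hγ t)
    (fun a => S.commute_of_Nc (by decide +kernel) (by decide +kernel) _ _) hw hy (by simpa [mul_assoc] using e)
  refine key t w hw y hy ?_
  have := mul_mem (inv_mem (hall (R 10) b h2)) e
  rwa [← mul_assoc (S.x _ t), (S.commute_of_Nc (by decide +kernel) (by decide +kernel) t b).eq, mul_assoc, mul_assoc,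
    inv_mul_cancel_left, ← mul_assoc] at this

theorem fld_B2 {S : StSys chevB2 K G} (h1 : ∀ r, S.x r 1 ∈ H) : ∃ F, Fld S H F := by
  let R : (n : ℕ) → (h : n < 8 := by decide) → Root chevB2 := fun n h => ⟨n, h⟩
  have hα : ∀ s, s ≤ R 7 := by decide +kernel
  have hm : Mv K (R 7) := mv_of (s := R 5) (u := R 4) (by decide +kernel) (by decide +kernel) (by decide +kernel) (by decide +kernel)
  have hc := (by decide +kernel : ∀ γ, IsPos γ → NSd 1 γ ∨ γ = R 7 ∨ γ = R 6)
  have hs : ∀ j, sroot j = R 4 ∨ sroot j = R 5 := by decide +kernel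
  have c1 : ∀ t u, (S.x (R 5) u)⁻¹ * (S.x (R 4) t)⁻¹ * S.x (R 5) u * S.x (R 4) t =
      S.x (R 6) (-(t * u)) * S.x (R 7) (t * u ^ 2) := fun t u => by
    have := S.comm (R 4) (R 5) (by decide) (by decide) t u
    rw [ChevalleyDatum.commWord, show chevB2.commTerms (R 4) (R 5) = [(6, 1, 1, 1), (7, -1, 1, 2)] by decide +kernel] at this
    rw [mul_assoc _ (S.x _ u), this]
    simp [wordG_cons, show ∀ a, xNat S.x 6 a = S.x (R 6) a from xNat_val _ (R 6),
      show ∀ a, xNat S.x 7 a = S.x (R 7) a from xNat_val _ (R 7), mul_assoc]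
  rcases eq_or_ne p 2 with rfl | e
  swap
  · have h2 : ((2 : ℕ) : K) ≠ 0 := prime_ne p Nat.prime_two e
    have a1 : ∀ t, S.x (R 7) t ∈ H → S.x (R 6) t ∈ H := fun t ht => by
      have := Cj.mem h1 (s := R 4) (by decide +kernel) ht
      have := mul_mem (c1 t 1 ▸ mul_mem (mul_mem (mul_mem (inv_mem (h1 _)) (inv_mem this)) (h1 _)) this) (inv_mem ht)
      rw [one_pow, mul_one, mul_inv_cancel_right] at this
      simpa [x_inv] using inv_mem this
    obtain ⟨F, hF⟩ := exists_subfield (finite_A (S := S) (H := H) (R 7)) (h1 _) (fun _ a _ b => x_sub a b) fun t ht a ha =>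
      x_div p (n := Nc (R 5) (R 6)) (cast_ne (by decide +kernel) h2) (by
        have h2 := Cj.mem h1 (s := R 5) (by decide +kernel) (a1 t ht)
        have h3 := a1 a ha
        have := inv_mem (mul_mem (mul_mem (mul_mem h3 h2) (inv_mem h3)) (inv_mem h2))
        rwa [comm_pure (by decide +kernel) (of_nil (by decide +kernel)), show radd (R 5) (R 6) = R 7 by decide +kernel, x_inv,
          neg_neg, mul_assoc] at this)
    refine ⟨F, fld_of h1 (all_mem h1 fun j t ht => ?_) fun γ hγ => ?_⟩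
    · rcases hs j with a | a <;> rw [a]
      exacts [Cj.mem h1 (by decide +kernel) ((hF t).1 ht), Cj.mem h1 (by decide +kernel) (a1 t ((hF t).1 ht))]
    · rcases hc γ hγ with a | rfl | rfl
      exacts [.inl (a.ns (by simp)), .inr (.inr ⟨lead1_top hα fun t => (hF t).2, hm⟩), .inl (NSd.ns (by decide +kernel) h2)]
  have z : ∀ r s : Root chevB2, (r = R 6 ∨ r = R 7) → IsPos s → ∀ t u, Commute (S.x r t) (S.x s u) := fun r s hr hs t u => by
    by_cases a : Nc r s = 0
    · exact S.commute_of_Nc (by rintro rfl; rcases hr with rfl | rfl <;> revert hs <;> decide +kernel) a t u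
    have b : ((Nc r s : ℤ) : K) = 0 := cast_zero 2 (by revert r s; decide +kernel)
    have := comm_pure (S := S) a (of_nil (by clear b; revert r s; decide +kernel)) t u
    rw [b, mul_inv_eq_iff_eq_mul, mul_inv_eq_iff_eq_mul] at this
    simpa [commute_iff_eq] using this.symm
  let E : K → K → Prop := fun t u => S.x (R 6) t * S.x (R 7) u ∈ H
  have e1 : ∀ t u t' u', E t u → E t' u' → E (t + t') (u + u') := fun t u t' u' a b => by
    have := mul_mem a b
    rwa [mul_assoc, ← mul_assoc (S.x _ u), (z _ _ (.inr rfl) (by decide +kernel) u t').eq, mul_assoc, ← mul_assoc, S.add,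
      S.add] at this
  have mv : ∀ s t u, E t u → S.x (refl s (R 6)) t * S.x (refl s (R 7)) u ∈ H := fun s t u a => by
    obtain ⟨η, b1, b2⟩ := n_conj' (S := S) s (R 6)
    obtain ⟨η', b3, b4⟩ := n_conj' (S := S) s (R 7)
    have := mul_mem (mul_mem (n_mem h1 s) a) (inv_mem (n_mem h1 s))
    rw [← conj_mul, b2, b4] at this
    rcases b1 with rfl | rfl <;> rcases b3 with rfl | rfl <;> simpa [CharTwo.neg_eq] using this
  have e2 : ∀ t u t' u', E t u → E t' u' → E (u' * t) (u' * t ^ 2) := fun t u t' u' a b => by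
    have a := mv (R 4) _ _ a
    have b := mv (R 5) _ _ b
    rw [refl_eq (u := R 5) (by decide +kernel), refl_eq (u := R 7) (by decide +kernel)] at a
    rw [refl_eq (u := R 6) (by decide +kernel), refl_eq (u := R 4) (by decide +kernel)] at b
    have := mul_mem (mul_mem (mul_mem (inv_mem a) (inv_mem b)) a) b
    rwa [comm_cent (z _ _ (.inr rfl) (by decide +kernel) _ _) (z _ _ (.inr rfl) (by decide +kernel) _ _)
      (z _ _ (.inr rfl) (by decide +kernel) _ _) (z _ _ (.inl rfl) (by decide +kernel) _ _), c1, CharTwo.neg_eq] at this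
  have f : {g : K × K | E g.1 g.2}.Finite := (Set.toFinite (H : Set G)).preimage (f := fun g : K × K =>
    S.x (R 6) g.1 * S.x (R 7) g.2) fun g _ g' _ e => by
      dsimp only at e
      have a : g.1 - g'.1 = 0 := eq_zero_of_Ge (S := S) (m := R 6) (by
        rw [show S.x (R 6) (g.1 - g'.1) = S.x (R 7) g'.2 * (S.x (R 7) g.2)⁻¹ by
          rw [eq_mul_inv_iff_mul_eq, sub_eq_neg_add, ← S.add, mul_assoc, e, ← x_inv, inv_mul_cancel_left]]
        exact mul_mem (x_mem_US (by unfold Ge; decide +kernel) _) (inv_mem (x_mem_US (by unfold Ge; decide +kernel) _)))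
      rw [sub_eq_zero] at a
      exact Prod.ext a (x_inj (congrArg S.θ (mul_left_cancel (a ▸ e))))
  have o1 : E 1 0 := by simpa [E] using h1 _
  have o2 : E 0 1 := by simpa [E] using h1 _
  have f1 : {t | ∃ u, E t u}.Finite := (f.image Prod.fst).subset fun t ⟨u, h⟩ => ⟨(t, u), h, rfl⟩
  have s1 : {u | ∃ t, E t u} ⊆ {t | ∃ u, E t u} := fun u ⟨t, h⟩ => ⟨_, by simpa using e2 _ _ _ _ o1 h⟩
  have s2 : {t | ∃ u, E t u} ⊆ {u | ∃ t, E t u} := fun t ht => by
    obtain ⟨c, ⟨u, hc⟩, rfl⟩ := (f1.injOn_iff_bijOn_of_mapsTo (f := (· ^ 2))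
      fun c ⟨u, hc⟩ => s1 ⟨_, by simpa using e2 _ _ _ _ hc o2⟩).1 (frobenius_inj K 2).injOn |>.surjOn ht
    exact ⟨_, by simpa using e2 _ _ _ _ hc o2⟩
  obtain ⟨F, hF⟩ := exists_subfield f1 ⟨_, o1⟩ (fun t ⟨u, a⟩ t' ⟨u', b⟩ => ⟨_, CharTwo.sub_eq_add t t' ▸ e1 _ _ _ _ a b⟩)
    fun t a t' ⟨u', b⟩ => let ⟨_, a⟩ := s2 a; ⟨_, e2 _ _ _ _ b a⟩
  have e3 : ∀ t ∈ F, ∀ u ∈ F, E (u * t) (u * t ^ 2) := fun t a u b =>
    let ⟨_, a⟩ := (hF t).1 a; let ⟨_, b⟩ := s2 ((hF u).1 b); e2 _ _ _ _ a b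
  have e4 : ∀ c ∈ F, S.x (R 7) c ∈ H := fun c hc => by
    rcases eq_or_ne (c + 1) 0 with a | a
    · rw [CharTwo.add_eq_zero.1 a]; exact h1 _
    have b := F.inv_mem (F.add_mem hc F.one_mem)
    have := e1 _ _ _ _ (e3 c hc _ b) (e3 1 F.one_mem _ (F.mul_mem b hc))
    rw [mul_one, CharTwo.add_self_eq_zero, show _ + _ = c by field_simp] at this
    simpa [E] using this
  refine ⟨F, fld_of h1 (all_mem h1 fun j t ht => ?_) fun γ hγ => ?_⟩
  · rcases hs j with a | a <;> rw [a]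
    exacts [Cj.mem h1 (by decide +kernel) (e4 t ht),
      Cj.mem h1 (r := R 6) (by decide +kernel) (by simpa using mul_mem (e3 1 F.one_mem t ht) (inv_mem (e4 t ht)))]
  rcases hc γ hγ with a | rfl | rfl
  · exact .inl (a.ns (by simp))
  · exact .inr (.inr ⟨lead1_top hα fun t a => (hF t).2 (s1 ⟨0, by simpa [E] using a⟩), hm⟩)
  refine .inr (.inr ⟨fun t v hv a => (hF t).2 ?_, mv_of (s := R 4) (u := R 5) (by decide +kernel) (by decide +kernel)
    (by decide +kernel) (by decide +kernel)⟩)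
  rcases step hv with b | ⟨m, b, -, u, w, hw, rfl⟩
  · rw [show R 6 + 1 + 1 = (R 7 : ℕ) + 1 from rfl, Ge_top' hα, Subgroup.mem_bot] at b
    exact ⟨0, by simpa [E, b] using a⟩
  · rw [show R 6 + 1 + 1 = (R 7 : ℕ) + 1 from rfl, Ge_top' hα, Subgroup.mem_bot] at hw
    obtain rfl : m = R 7 := Fin.ext b
    exact ⟨u, by simpa [E, hw] using a⟩

theorem exists_fld {D : ChevalleyDatum} [Good D] (hD : D ∈ [chevG2, chevB2, chevD4, chevF4, chevE6, chevE7, chevE8])
    {S : StSys D K G} (h1 : ∀ r, S.x r 1 ∈ H) : ∃ F, Fld S H F := by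
  simp only [List.mem_cons, List.not_mem_nil, or_false] at hD
  rcases hD with rfl | rfl | rfl | rfl | rfl | rfl | rfl
  · exact fld_G2 p h1
  · exact fld_B2 p h1
  · exact fld_SL p h1 slD4 (α := ⟨23, by decide⟩) (s := ⟨22, by decide⟩) (by decide +kernel) (by decide +kernel) (by decide +kernel)
  · exact fld_F4 p h1
  · exact fld_SL p h1 slE6 (α := ⟨71, by decide⟩) (s := ⟨70, by decide⟩) (by decide +kernel) (by decide +kernel) (by decide +kernel)
  · exact fld_SL p h1 slE7 (α := ⟨125, by decide⟩) (s := ⟨124, by decide⟩) (by decide +kernel) (by decide +kernel) (by decide +kernel)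
  · exact fld_SL p h1 slE8 (α := ⟨239, by decide⟩) (s := ⟨238, by decide⟩) (by decide +kernel) (by decide +kernel) (by decide +kernel)

end H12.Lev
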