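import Cfsg.Agent.H12.SubE
import Cfsg.Agent.H12.FixN

/-! A finite subgroup of a Chevalley group containing all `x_r(1)` lies in the fixed points of a field automorphism whose
fixed field is its field of definition (`le_fix`). -/

namespace H12.Lev
open Cfsg Cfsg.Lie Equiv H11 H11.StSys H12.Lie

variable {D : ChevalleyDatum} [Good D] {K : Type*} [Field K]

variable (D) in
/-- root data used in `le_fix` -/
def Dat : Prop := ∃ α : Root D, (∀ s, s ≤ α) ∧ (∃ s, pair α s = 1) ∧ (∃ r, IsPos r ∧ pair α r = 0) ∧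
  ((∃ i j : Node D, i ≠ j ∧ Nc (sroot i) (sroot j) = 0) ∨ ∃ (i : Node D) (r : Root D), r ≠ sroot i ∧ 2 ≤ pair (sroot i) r)

theorem dat_of_mem (hD : D ∈ [chevG2, chevB2, chevD4, chevF4, chevE6, chevE7, chevE8]) : Dat D := by
  simp only [List.mem_cons, List.not_mem_nil, or_false] at hD
  rcases hD with rfl | rfl | rfl | rfl | rfl | rfl | rfl
  exacts [(⟨⟨11, by decide⟩, by decide +kernel⟩ : @Dat _ goodG2), (⟨⟨7, by decide⟩, by decide +kernel⟩ : @Dat _ goodB2),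
    (⟨⟨23, by decide⟩, by decide +kernel⟩ : @Dat _ goodD4), (⟨⟨47, by decide⟩, by decide +kernel⟩ : @Dat _ goodF4),
    (⟨⟨71, by decide⟩, by decide +kernel, ⟨⟨70, by decide⟩, by decide +kernel⟩, by decide +kernel,
      .inl (by decide +kernel)⟩ : @Dat _ goodE6),
    (⟨⟨125, by decide⟩, by decide +kernel, ⟨⟨124, by decide⟩, by decide +kernel⟩, by decide +kernel,
      .inl (by decide +kernel)⟩ : @Dat _ goodE7),
    (⟨⟨239, by decide⟩, by decide +kernel, ⟨⟨238, by decide⟩, by decide +kernel⟩, by decide +kernel,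
      .inl (by decide +kernel)⟩ : @Dat _ goodE8)]

variable [Cert D] {G : Type*} [Group G] {S : StSys D K G}

theorem x_nmem (i : Node D) {t : K} (ht : t ≠ 0) : S.x (sroot i) t ∉ S.UJ {i} := by
  simpa [wordG_cons, show ∀ a, xNat S.x (D.simple i) a = S.x (sroot i) a from xNat_val _ (sroot i)] using
    wordG_not_mem_UJ (S := S) (j := i) ht (w := []) rfl (by simp)

omit [Cert D] in
theorem x_mem_UJ {i j : Node D} (h : i ≠ j) (t : K) : S.x (sroot i) t ∈ S.UJ {j} :=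
  x_mem_US (T := {r | IsPos r ∧ ¬ InJ {j} r}) ⟨isPos_sroot _, fun b => h ((inJ_sroot (J := {j})).1 b)⟩ _

theorem adm_field (τ : K ≃+* K) (f : Root D → ℝ) (hf : Lin f) : Lin (f ∘ (simpAct_field (D := D) τ).R.symm) ∧ ∀ g,
    Fil f f 1 (((grpSys D K).θ g).val - 1) → Fil (f ∘ (simpAct_field (D := D) τ).R.symm)
      (f ∘ (simpAct_field (D := D) τ).R.symm) 1 (((grpSys D K).θ (fieldAut D K τ g)).val - 1) := by
  have : (simpAct_field (D := D) τ).R = 1 := Equiv.ext fun r => SimpAct.R_eq _ fun t => ⟨_, fieldAut_x τ r t⟩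
  rw [this]
  refine ⟨hf, fun g h a b e => h a b fun e' => e ?_⟩
  change ((fieldAut D K τ g).1.1 - 1) a b = 0
  change (g.1.1 - 1) a b = 0 at e'
  rw [fieldAut_val, ← Matrix.map_one τ (map_zero τ) (map_one τ), ← Matrix.map_sub _ (map_sub τ), Matrix.map_apply, e', map_zero]

theorem le_fix (p : ℕ) [Fact p.Prime] [CharP K p] (hd : Dat D) {H : Subgroup (D.group K)} [Finite H] {F : Subfield K}
    (h : Fld (grpSys D K) H F) (τ : K ≃+* K) (hτ : ∀ t, τ t = t ↔ t ∈ F) : H ≤ fixS (fieldAut D K τ) := by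
  set S := grpSys D K
  have hg := grpSys_grp D K
  have hθ := grpSys_θ_injective D K
  have h0 : ∀ r, ∀ t ∈ F, S.x r t ∈ fixS (fieldAut D K τ) := fun r t ht => by rw [mem_fixS, fieldAut_x, (hτ t).2 ht]
  have h1 : ∀ r t, τ t = t → S.x r t ∈ H ⊓ fixS (fieldAut D K τ) := fun r t ht => ⟨h.1 r t ((hτ t).1 ht), h0 r t ((hτ t).1 ht)⟩
  have h2 := fun r => h1 r 1 (map_one τ)
  have T := FixN.tw_field τ h1 inf_le_right
  obtain ⟨α, a1, a2, ⟨r, a3⟩, a4⟩ := hd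
  refine le_trans (core p hg hθ hMul_grp inf_le_left (control hg hθ
    ⟨fun _ : Unit => fieldAut D K τ, fun _ => 1, fun _ => 1, fun _ _ => τ, fun _ => simpAct_field τ⟩
    (fun g => by simp [mem_fixS]) (fun b hb hb' => ⟨hb, ?_⟩) (fun u hu e => T.U_le ⟨hu, e ()⟩)
    (fun w hw => (T.exists_rep (hw ())).1) (fun J _ β _ _ => ⟨1, one_ne_zero, 1, one_mem _, by simpa using h2 β⟩)
    fun _ => adm_field τ) (fun i => ⟨_, (h2 _).1, x_mem_U (isPos_sroot i) 1, x_nmem i one_ne_zero⟩) a1 a2 (h2 _) (h2 _)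
    ⟨_, h2 r, fun e => one_ne_zero (x_eq_one (S := S) (by rw [e, map_one])), x_mem_US a3 1⟩ ?_) inf_le_right
  · obtain ⟨u, hu, y, hy, rfl⟩ := exists_mul_of_mem_B hb'
    obtain ⟨b1, χ, b2, b3⟩ := h.borel hu hy hb
    refine mul_mem ((Subgroup.closure_le _).2 (by rintro _ ⟨r, t, ht, rfl⟩; exact h0 r t ht) b1)
      (mem_fixS.2 (inv_mul_eq_one.1 (FixN.cent_triv hg hθ fun r => ?_)))
    have c1 := congrArg (fieldAut D K τ) (b3 r 1)
    rw [map_mul, map_mul, map_inv, mem_fixS.1 (h2 r).2, mem_fixS.1 (h0 r _ (F.mul_mem (b2 r).1 F.one_mem)), ← b3] at c1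
    calc _ * S.x r 1 = (fieldAut D K τ y)⁻¹ * (y * S.x r 1 * y⁻¹) * y := by group
      _ = S.x r 1 * _ := by rw [← c1]; group
  rintro rfl
  have sq : ∀ r, S.x r 1 * S.x r 1 = 1 := fun r => by rw [S.add, CharTwo.add_self_eq_zero, S.x_zero]
  rcases a4 with ⟨i, j, b1, b2⟩ | ⟨i, r, b⟩
  · have c1 : S.x (sroot i) 1 * S.x (sroot j) 1 ∉ S.UJ {i} := by
      rw [Subgroup.mul_mem_cancel_right _ (x_mem_UJ b1.symm 1)]; exact x_nmem i one_ne_zero
    have c2 := mul_mem (x_mem_U (S := S) (isPos_sroot i) 1) (x_mem_U (isPos_sroot j) 1)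
    refine ⟨_, mul_mem (h2 _) (h2 _), c2, ?_, not_isConj hg a1 c2 (.inl ⟨i, j, b1, c1, ?_⟩), fun e => c1 (e ▸ one_mem _)⟩
    · rw [(S.commute_of_Nc (fun e => not_isPos_rev (isPos_sroot i) (e ▸ isPos_sroot j)) b2 1 1).symm.mul_mul_mul_comm, sq, sq,
        mul_one]
    · rw [Subgroup.mul_mem_cancel_left _ (x_mem_UJ b1 1)]; exact x_nmem j one_ne_zero
  · exact ⟨_, h2 _, x_mem_U (isPos_sroot i) 1, sq _, not_isConj hg a1 (x_mem_U (isPos_sroot i) 1)
      (.inr ⟨i, r, x_nmem i one_ne_zero, b⟩), fun e => x_nmem (S := S) i one_ne_zero (e ▸ one_mem _)⟩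

omit [Cert D] in
theorem Fld.mem {H : Subgroup G} {F : Subfield K} (h : Fld S H F) (hd : Dat D) : ∃ r, ∀ t, S.x r t ∈ H → t ∈ F :=
  let ⟨_, _, _, ⟨r, a, _⟩, _⟩ := hd; ⟨r, fun t ht => (h.2 r a).one t 1 (one_mem _) (by simpa using ht)⟩

open Polynomial in
theorem mem_iff_pow (F : Subfield K) [Finite F] (t : K) : t ^ Nat.card F = t ↔ t ∈ F := by
  classical
  have := Fintype.ofFinite F
  rw [Nat.card_eq_fintype_card]
  have h : (X ^ Fintype.card F - X : F[X]).Splits := (splits_iff_card_roots.2 (by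
    rw [FiniteField.roots_X_pow_card_sub_X, FiniteField.X_pow_card_sub_X_natDegree_eq _ Fintype.one_lt_card]; rfl))
  have := h.roots_map F.subtype ▸ Multiset.mem_map (b := t)
  simpa [sub_eq_zero, iff_comm, FiniteField.X_pow_card_sub_X_ne_zero K Fintype.one_lt_card,
    FiniteField.roots_X_pow_card_sub_X] using this

theorem card_eq_pow (p : ℕ) [Fact p.Prime] [CharP K p] {a : ℕ} (ha : 1 ≤ a) {ζ : K} (hζ : IsPrimitiveRoot ζ (p ^ a - 1))
    (F : Subfield K) [Finite F] (h : ∀ t, t ^ p ^ a = t → t ∈ F) : ∃ m, 1 ≤ m ∧ Nat.card F = (p ^ a) ^ m := by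
  have := Fintype.ofFinite F
  have hp := (Fact.out : p.Prime).one_lt
  obtain ⟨b, -, hb⟩ := FiniteField.card F p
  have h1 : 1 < p ^ a := Nat.one_lt_pow (by omega) hp
  have h2 := (mem_iff_pow F ζ).2 (h ζ (by rw [← Nat.sub_add_cancel h1.le, pow_succ, hζ.pow_eq_one, one_mul]))
  rw [Nat.card_eq_fintype_card, hb] at h2 ⊢
  have h3 := Nat.gcd_eq_left (hζ.dvd_of_pow_eq_one (p ^ (b : ℕ) - 1) (mul_right_cancel₀ (hζ.ne_zero (by omega)) (by
    rw [← pow_succ, Nat.sub_add_cancel (Nat.one_le_pow _ _ (by omega)), h2, one_mul])))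
  rw [Nat.pow_sub_one_gcd_pow_sub_one] at h3
  have h4 := Nat.one_le_pow (a.gcd b) p (by omega)
  obtain ⟨m, hm⟩ := Nat.gcd_eq_left_iff_dvd.1 (Nat.pow_right_injective hp (show p ^ a.gcd b = p ^ a by omega))
  exact ⟨m, Nat.pos_of_ne_zero (by rintro rfl; simp at hm), by rw [hm, pow_mul]⟩

theorem mem_fix_iff (τ : K ≃+* K) (g : D.group K) : g ∈ fixS (fieldAut D K τ) ↔ ∀ i j, τ (g.1.1 i j) = g.1.1 i j := by
  rw [mem_fixS, Subtype.ext_iff, Units.ext_iff, fieldAut_val, ← Matrix.ext_iff]; rfl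

theorem sub_main (p : ℕ) [Fact p.Prime] [CharP K p] [PerfectRing K p]
    (hD : D ∈ [chevG2, chevB2, chevD4, chevF4, chevE6, chevE7, chevE8]) {a : ℕ} (ha : 1 ≤ a) {ζ : K}
    (hζ : IsPrimitiveRoot ζ (p ^ a - 1)) {H : Subgroup (D.group K)} [Finite H]
    (h : ∀ r t, t ^ p ^ a = t → (grpSys D K).x r t ∈ H) : ∃ m, 1 ≤ m ∧ ∃ F : Subfield K, Nat.card F = (p ^ a) ^ m ∧
      (∀ t, t ^ (p ^ a) ^ m = t ↔ t ∈ F) ∧ (∀ r, ∀ t ∈ F, (grpSys D K).x r t ∈ H) ∧
      ∀ g ∈ H, ∀ i j, g.1.1 i j ^ (p ^ a) ^ m = g.1.1 i j := by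
  obtain ⟨F, hF⟩ := exists_fld p hD fun r => h r 1 (one_pow _)
  obtain ⟨r, hr⟩ := hF.mem (dat_of_mem hD)
  have : Finite F := ((finite_A (S := grpSys D K) (H := H) r).subset (hF.1 r)).to_subtype
  obtain ⟨m, h1, h2⟩ := card_eq_pow p ha hζ F fun t ht => hr t (h r t ht)
  have h3 := fun t => h2 ▸ mem_iff_pow F t
  have h4 : ∀ t, iterateFrobeniusEquiv K p (a * m) t = t ^ (p ^ a) ^ m := fun t => by rw [iterateFrobeniusEquiv_def, pow_mul]
  exact ⟨m, h1, F, h2, h3, hF.1, fun g hg i j => h4 _ ▸ (mem_fix_iff _ g).1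
    (le_fix p (dat_of_mem hD) hF _ (fun t => h4 t ▸ h3 t) hg) i j⟩

end H12.Lev
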