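import Cfsg.Agent.S4395
import Cfsg.Agent.H04.Rank
import Cfsg.Agent.H18.SU3
import Cfsg.Agent.H26.Syl
import Cfsg.Agent.H22.Components
import Cfsg.Agent.H01.Coprime2

/-!
# Groups of order `320` with derived group of order `64` (`H12.U34.iso`, `H12.U34.cent`)
-/

namespace H12.U34
open Subgroup Cfsg H03
open scoped commutatorElement

theorem mn {X : Type*} [Group X] [Finite X] (h1 : Nat.card X = 320) (h2 : Nat.card (commutator X) = 64)
    (h3 : Nat.card (center (commutator X)) = 4) : ¬ HasNormalPComplement 2 X ∧ ∀ M : Subgroup X, M ≠ ⊤ → HasNormalPComplement 2 M := by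
  have : Fact (Nat.Prime 5) := ⟨by decide⟩
  rw [← card_subtype, H22.map_center_subtype] at h3
  obtain ⟨D, hD⟩ : ∃ D, D = commutator X := ⟨_, rfl⟩
  have : D.Normal := hD ▸ inferInstance
  rw [← hD] at h2 h3
  set Z := D ⊓ centralizer (D : Set X)
  have pD : IsPGroup 2 D := .of_card (n := 6) h2
  have : Z.Normal := inferInstance
  have key : ∀ y : X, orderOf y = 5 → D ⊔ zpowers y = ⊤ ∧ IsMulCommutative (Z ⊔ zpowers y : Subgroup X) ∧ y ∉ centralizer (D : Set X) ∧
      ∀ U : Subgroup X, Z ≤ U → U ≤ D → y ∈ normalizer (U : Set X) → U = Z ∨ U = D := fun y hy => by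
    have y5 : y ^ 5 = 1 := hy ▸ pow_orderOf_eq_one y
    have a : D ⊔ zpowers y = ⊤ := eq_top_of_card_eq _ (by
      rw [H04.card_sup_zpowers (p := 5) D (le_normalizer_of_normal (mem_top y)) (fun h => by
        have := D.orderOf_dvd_natCard h; rw [hy, h2] at this; omega) (y5 ▸ one_mem _), h1, h2])
    have c : ∀ U : Subgroup X, y ∈ normalizer (U : Set X) → Nat.card U ≡ Nat.card ↥(U ⊓ H04.fixSub (MulAut.conj y)) [MOD 5] := fun U h =>
      H04.card_modEq_card_inf_fixSub (n := 1) (by rw [pow_one, ← map_pow, y5, map_one]) U fun x hx => (mem_normalizer_iff.1 h x).1 hx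
    have z : Z ⊓ H04.fixSub (MulAut.conj y) = Z := eq_of_le_of_card_ge inf_le_left (by
      have := c Z (le_normalizer_of_normal (mem_top y))
      rw [h3, Nat.ModEq] at this; omega)
    have n : y ∉ centralizer (D : Set X) := fun h => by
      have y1 : y ∈ center X := by
        rw [← centralizer_univ, ← coe_top, ← a]
        exact le_centralizer_iff.1 (sup_le (le_centralizer_iff.1 (zpowers_le.2 h)) (le_centralizer _)) (mem_zpowers y)
      have k : ∀ u w : X, ∀ s ∈ zpowers y, ⁅u * s, w⁆ = ⁅u, w⁆ := fun u w s hs => by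
        simp only [commutatorElement_def, mul_inv_rev, mul_assoc]
        rw [← mul_assoc s, ← mem_center_iff.1 (zpowers_le.2 y1 hs) w, mul_assoc, mul_inv_cancel_left]
      refine (H01.commutator_lt_of_isPGroup pD pD le_normalizer fun e => by simp [e] at h2).not_ge (hD.le.trans (commutator_le.2 fun u _ v _ => ?_))
      obtain ⟨u, u1, s, s1, rfl⟩ := mem_sup_of_normal_left.1 (a.ge (mem_top u))
      obtain ⟨v, v1, t, t1, rfl⟩ := mem_sup_of_normal_left.1 (a.ge (mem_top v))
      rw [k _ _ _ s1, ← commutatorElement_inv, k _ _ _ t1, commutatorElement_inv]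
      exact commutator_mem_commutator u1 v1
    have d : ∀ n, n ∣ 64 → n % 5 = 4 → n = 4 ∨ n = 64 := fun n h _ => by have := Nat.le_of_dvd (by decide) h; interval_cases n <;> omega
    have f : D ⊓ H04.fixSub (MulAut.conj y) = Z := by
      have := c D (le_normalizer_of_normal (mem_top y))
      rw [h2, Nat.ModEq] at this
      rcases d _ (h2 ▸ card_dvd_of_le inf_le_left) this.symm with h | h
      · exact (eq_of_le_of_card_ge (le_inf inf_le_left (z.ge.trans inf_le_right)) (h.trans h3.symm).le).symm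
      · exact absurd (fun x hx => (mul_inv_eq_iff_eq_mul.1 ((eq_of_le_of_card_ge inf_le_left (h2.trans h.symm).le).ge hx).2).symm) n
    refine ⟨a, H04.isMulCommutative_sup_zpowers (A := Z) ⟨⟨fun a b => Subtype.ext (b.2.2 _ a.2.1)⟩⟩
      fun x hx => (mul_inv_eq_iff_eq_mul.1 (z.ge hx).2).symm, n, fun U a b e => ?_⟩
    have := c U e
    rw [← inf_eq_left.2 b, inf_assoc, f, inf_eq_left.2 b, inf_eq_right.2 a, h3, Nat.ModEq] at this
    exact (d _ (h2 ▸ card_dvd_of_le b) this).imp (fun h => (eq_of_le_of_card_ge a (by omega)).symm) fun h => eq_of_le_of_card_ge b (by omega)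
  refine ⟨fun h => ?_, fun M hM => ?_⟩
  · obtain ⟨y, hy⟩ := exists_prime_orderOf_dvd_card' (G := X) 5 (by omega)
    exact (key y hy).2.2.1 (HasNPC.commute_of_normalizes h pD (le_normalizer_of_normal (mem_top y)) (by rw [hy]; decide))
  by_cases h5 : 5 ∣ Nat.card M
  · obtain ⟨y, yM, hy⟩ := H26.exists_mem_orderOf_eq h5
    obtain ⟨a, b, -, c⟩ := key y hy
    have yn : zpowers y ≤ normalizer ((M ⊓ D : Subgroup X) : Set X) :=
      H26.le_normalizer_inf ((zpowers_le.2 yM).trans le_normalizer) le_normalizer_of_normal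
    rcases c (M ⊓ D ⊔ Z) le_sup_right (sup_le inf_le_right inf_le_left) (H26.le_normalizer_sup yn le_normalizer_of_normal (mem_zpowers y)) with h | h
    · have : M ≤ Z ⊔ zpowers y := by
        rw [← inf_top_eq M, ← a, sup_comm, H26.inf_sup_eq_of_le_normalizer le_normalizer_of_normal (zpowers_le.2 yM), sup_comm]
        exact sup_le_sup_right (le_sup_left.trans h.le) _
      have := H01.isMulCommutative_of_le this
      have : Group.IsNilpotent M := by open scoped IsMulCommutative in infer_instance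
      exact hasNPC_of_isNilpotent
    · have e : M ⊓ D ⊔ (Z ⊔ zpowers y) = ⊤ := by rw [← sup_assoc, h, a]
      have : (M ⊓ D).Normal := normalizer_eq_top_iff.1 (eq_top_iff.2 (e.ge.trans (sup_le le_normalizer (sup_le
        (inf_le_right.trans ((centralizer_le inf_le_right).trans (centralizer_le_normalizer _))) yn))))
      refine absurd (eq_top_iff.2 (a.ge.trans (sup_le (hD.le.trans (le_trans ?_ (inf_le_left (b := D)))) (zpowers_le.2 yM)))) hM
      refine Normal.quotient_commutative_iff_commutator_le.1 ⟨⟨?_⟩⟩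
      rintro ⟨u⟩ ⟨v⟩
      obtain ⟨u, u1, s, s1, rfl⟩ := mem_sup_of_normal_left.1 (e.ge (mem_top u))
      obtain ⟨v, v1, t, t1, rfl⟩ := mem_sup_of_normal_left.1 (e.ge (mem_top v))
      change ((u * s : X) : X ⧸ (M ⊓ D)) * (v * t : X) = (v * t : X) * (u * s : X)
      simp only [QuotientGroup.mk_mul, (QuotientGroup.eq_one_iff _).2 u1, (QuotientGroup.eq_one_iff _).2 v1, one_mul]
      exact congrArg QuotientGroup.mk (mul_comm_of_mem_isMulCommutative _ s1 t1)
  · exact hasNPC_of_isPGroup (.of_card_dvd_pow (n := 6) ((Nat.Coprime.symm ((Nat.Prime.coprime_iff_not_dvd (by decide)).2 h5)).dvd_of_dvd_mul_left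
      ((card_subgroup_dvd_card M).trans (by rw [h1]; decide))))

theorem lift {X Y : Type*} [Group X] [Finite X] [Group Y] (e : X ≃* Y)
    (h : ¬ HasNormalPComplement 2 X ∧ ∀ M : Subgroup X, M ≠ ⊤ → HasNormalPComplement 2 M) :
    ¬ HasNormalPComplement 2 Y ∧ ∀ M : Subgroup Y, M ≠ ⊤ → HasNormalPComplement 2 M := by
  have := Finite.of_equiv _ e.toEquiv
  refine ⟨fun k => h.1 (HasNPC.of_equiv k e.symm), fun M hM => HasNPC.of_equiv (h.2 (M.map e.symm.toMonoidHom) fun k => hM ?_)
    (e.symm.subgroupMap M).symm⟩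
  exact map_injective (f := e.symm.toMonoidHom) e.symm.injective (k.trans (map_top_of_surjective _ e.symm.surjective).symm)

universe u v in
theorem iso {X : Type u} {Y : Type v} [Group X] [Finite X] [Group Y] [Finite Y] (h1 : Nat.card X = 320) (h2 : Nat.card (commutator X) = 64)
    (h3 : Nat.card (center (commutator X)) = 4) (k1 : Nat.card Y = 320) (k2 : Nat.card (commutator Y) = 64)
    (k3 : Nat.card (center (commutator Y)) = 4) : Nonempty (X ≃* Y) := by
  have o : orderOf ((2 : ℕ) : ZMod 5) = 4 := orderOf_eq_prime_pow (p := 2) (n := 1) (by decide) (by decide)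
  have : Fact (Nat.Prime 5) := ⟨by decide⟩
  obtain ⟨G₀, _, _, -, c, h⟩ := Cfsg.Agent.S4395.result.{max u v} 2 5 1 (by decide) le_rfl 4 6 o.symm rfl
  obtain ⟨φ, a, -⟩ := h (ULift.{v} X) (lift MulEquiv.ulift.symm (mn h1 h2 h3)) ⟨6, by simp [h1]⟩
  obtain ⟨ψ, b, -⟩ := h (ULift.{u} Y) (lift MulEquiv.ulift.symm (mn k1 k2 k3)) ⟨6, by simp [k1]⟩
  exact ⟨(MulEquiv.ulift.symm.trans (MulEquiv.ofBijective φ ((Nat.bijective_iff_surjective_and_card _).2 ⟨a, by simp [h1, c]⟩)).symm).trans
    ((MulEquiv.ofBijective ψ ((Nat.bijective_iff_surjective_and_card _).2 ⟨b, by simp [k1, c]⟩)).trans MulEquiv.ulift)⟩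

open H18.U3 in
theorem cent {F : Type*} [Field F] [Fintype F] [UF F 4] : ∃ t : G F 4, orderOf t = 2 ∧ Nat.card (centralizer {t}) = 320 ∧
    Nonempty (commutator (centralizer {t}) ≃* Q F 4) := by
  have : Fact (Nat.Prime 5) := ⟨by decide⟩
  have cF : Fintype.card F = 2 ^ 4 := UF.hF (q := 4)
  have : CharP F 2 := charP_of_card_eq_prime_pow cF
  have h2 : (1 : F) + 1 = 0 := CharTwo.add_self_eq_zero 1
  let t : G F 4 := uu (Q.z 1 (by simpa using h2))
  let K := (powMonoidHom 5 : Fˣ →* Fˣ).ker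
  have cK : Nat.card K = 5 := by rw [IsCyclic.card_powMonoidHom_ker, Nat.card_units, Nat.card_eq_fintype_card, cF]; decide
  have mK : ∀ k : Fˣ, k ∈ K ↔ (bar (k : F))⁻¹ = k := fun k => by
    rw [inv_eq_iff_eq_inv, ← one_div, eq_div_iff k.ne_zero, bar_apply, ← pow_succ, MonoidHom.mem_ker, powMonoidHom_apply, Units.ext_iff]; simp
  have := (Finite.one_lt_card_iff_nontrivial (α := K)).1 (by omega)
  obtain ⟨⟨k, k1⟩, k2⟩ := exists_ne (1 : K)
  have k5 : k ^ 5 = 1 := k1
  have hU : U F 4 ≤ centralizer {t} := by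
    rintro _ ⟨x, rfl⟩
    exact mem_centralizer_singleton_iff.2 (by rw [uHom_apply, ← uu_mul, ← uu_mul, Q.comm_iff.2 (by simp)])
  have hk : hh k ∈ centralizer {t} := mem_centralizer_singleton_iff.2 (mat_inj (by
    rw [mat_mul, mat_mul, mat_uu, mat_hh, (mK k).1 k1]; simp))
  have e : centralizer {t} = U F 4 ⊔ zpowers (hh k) := le_antisymm (fun g hg => by
    have h := congrArg mat (mem_centralizer_singleton_iff.1 hg)
    obtain ⟨x, l, rfl⟩ := mem_B'.1 (mem_B.2 (by simpa [t, mat_uu, Matrix.mul_apply, Fin.sum_univ_three] using congrFun (congrFun h 0) 0) : g ∈ B F 4)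
    obtain ⟨n, hn⟩ := mem_zpowers_of_prime_card cK k2 (g' := ⟨l, (mK l).2 (by
      simpa [t, mat_uu, mat_hh, Matrix.mul_apply, Fin.sum_univ_three, add_comm] using (congrFun (congrFun h 0) 2).symm)⟩)
    exact mul_mem_sup (uu_mem x) ⟨n, (map_zpow hHom k n).symm.trans (congrArg (fun a : K => hh a.1) hn)⟩) (sup_le hU (zpowers_le.2 hk))
  have n : hh k ∈ normalizer (U F 4 : Set (G F 4)) := mem_normalizer_fintype fun g hg => by
    obtain ⟨x, rfl⟩ := mem_U.1 hg; rw [hh_conj]; exact uu_mem _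
  have c : Nat.card (centralizer {t}) = 320 := by
    rw [e, H04.card_sup_zpowers (p := 5) _ n (fun ⟨x, h⟩ => k2 (Subtype.ext (Units.ext (by
      simpa [uHom_apply, mat_uu, mat_hh] using congrArg (mat · 0 0) h.symm)))) (by rw [← hHom_apply, ← map_pow, k5, map_one]; exact one_mem _), card_U]
    rfl
  refine ⟨t, orderOf_eq_prime (by rw [sq, ← uu_mul, uu_eq_one]; ext <;> simp [h2]) fun h => by simpa using congrArg Q.b (uu_eq_one.1 h), c,
    ⟨((equivMapOfInjective _ _ (subtype_injective _)).trans (.subgroupCongr ?_)).trans uEquiv.symm⟩⟩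
  rw [map_subtype_commutator]
  apply le_antisymm
  · have : ((U F 4).subgroupOf (centralizer {t})).Normal := normal_subgroupOf_of_le_normalizer (e ▸ sup_le le_normalizer (zpowers_le.2 n))
    have i := ((U F 4).subgroupOf (centralizer {t})).card_mul_index
    rw [Nat.card_congr (subgroupOfEquivOfLe hU).toEquiv, card_U, c, index_eq_card] at i
    have := isCyclic_of_prime_card (α := centralizer {t} ⧸ (U F 4).subgroupOf (centralizer {t})) (p := 5) (by omega)
    rw [← map_subtype_commutator, map_le_iff_le_comap]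
    exact (Normal.quotient_commutative_iff_commutator_le (N := (U F 4).subgroupOf (centralizer {t}))).1 inferInstance
  · rintro _ ⟨x, rfl⟩
    have l : ((barU k ^ 2 * k⁻¹ : Fˣ) : F) - 1 ≠ 0 := fun h => k2 (Subtype.ext (by
      have : barU k = k ^ 4 := Units.ext (by simp [bar_apply])
      rw [sub_eq_zero, Units.val_eq_one, this] at h
      calc k = (k ^ 5) ^ 3 * (((k ^ 4) ^ 2 * k⁻¹) ^ 2)⁻¹ := by group
        _ = 1 := by simp [k5, h]))
    obtain ⟨y, hy⟩ := Q.exists_a (q := 4) (x.a / (((barU k ^ 2 * k⁻¹ : Fˣ) : F) - 1))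
    have : (Q.scale (barU k ^ 2 * k⁻¹) y * y⁻¹)⁻¹ * x ∈ commutator (Q F 4) := by
      rw [Q.commutator_eq, Q.mem_center, Q.mul_a, Q.inv_a, Q.mul_a, Q.inv_a, Q.scale_a, hy]; field_simp; ring
    rw [← mul_inv_cancel_left (Q.scale (barU k ^ 2 * k⁻¹) y * y⁻¹) x, map_mul]
    refine mul_mem ?_ (commutator_mono hU hU (by rw [U, MonoidHom.range_eq_map, ← map_commutator]; exact mem_map_of_mem _ this))
    rw [uHom_apply, uu_mul, uu_inv, ← hh_conj]
    exact commutator_mem_commutator hk (hU (uu_mem y))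

end H12.U34
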